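import Cfsg.Agent.H8.Bs1

/-! Existence of the structure `H8.Bs.PS` (`x1`). -/

set_option autoImplicit false

namespace H25.BsX1
open Subgroup Cfsg H18 H21 H21.Rb H8.Bs
open scoped commutatorElement

universe u
variable {G : Type u} [Group G] [Finite G] {A Z X : Subgroup G}

theorem sqX (hX : Chief A Z X) (hs : Solv X) (cy : Cyc Z) (XC : X ≤ C(Z)) (dX : ⁅X, X⁆ ≤ Z) (na : ¬ Abel X)
    (h4 : ∀ z ∈ Z, z ^ 4 = 1) : ∀ e ∈ X, e ^ 2 ∈ Z ∧ e ^ 4 = 1 := by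
  obtain ⟨q, hq, -, el⟩ := hX.exists_elem hs
  have nZ := hX.nml.norm
  have cm : ∀ {x y}, x ∈ X → y ∈ X → ⁅x, y⁆ ∈ Z := fun hx hy => dX (commutator_mem_commutator hx hy)
  have cz : ∀ {x z}, x ∈ X → z ∈ Z → Commute x z := fun hx hz => (mem_C.1 (XC hx) _ hz).symm
  have pw : ∀ {x y n}, x ∈ X → y ∈ X → x ^ n ∈ Z → ⁅x, y⁆ ^ n = 1 := fun hx hy h => by
    rw [← comm_pow_left (cz hx (cm hx hy))]; exact commutatorElement_eq_one_iff_commute.2 (cz hy h).symm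
  have hp : ∀ {x}, x ∈ X → x ^ q ∈ Z := fun {x} hx => (cs_eq_one_iff (nZ (pow_mem hx q))).1 (by
    rw [mfun_pow (nZ hx)]; exact el.pow _ (mfun_mem_mim hx))
  obtain ⟨x, hx, y, hy, n⟩ : ∃ x ∈ X, ∃ y ∈ X, x * y ≠ y * x := by
    by_contra! h; exact na (cent_iff.2 h)
  obtain rfl : q = 2 := by_contra fun e => n (commutatorElement_eq_one_iff_mul_comm.1 (orderOf_eq_one_iff.1
    (Nat.eq_one_of_dvd_coprimes (((Nat.coprime_primes hq Nat.prime_two).2 e).pow_right 2)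
      (orderOf_dvd_of_pow_eq_one (pw hx hy (hp hx))) (orderOf_dvd_of_pow_eq_one (h4 _ (cm hx hy))))))
  have f : ∀ {x y}, x ∈ X → y ∈ X → (x * y) ^ 4 = x ^ 4 * y ^ 4 := fun {x y} hx hy => by
    have c := cm (inv_mem hx) hy
    rw [show (x * y) ^ 4 = (x ^ 2 * ⁅x⁻¹, y⁆ * y ^ 2) ^ 2 by simp [pow_succ, commutatorElement_def, mul_assoc],
      (cz (hX.le (mul_mem (hp hx) c)) (hp hy)).mul_pow, (cz (pow_mem hx 2) c).mul_pow, pw (inv_mem hx) hy (hp (inv_mem hx)),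
      mul_one, ← pow_mul, ← pow_mul]
  let K : Subgroup G :=
    { carrier := {x | x ∈ X ∧ x ^ 4 = 1}
      mul_mem' := fun ha hb => ⟨mul_mem ha.1 hb.1, by rw [f ha.1 hb.1, ha.2, hb.2, mul_one]⟩
      one_mem' := ⟨one_mem _, one_pow _⟩
      inv_mem' := fun ha => ⟨inv_mem ha.1, by rw [inv_pow, ha.2, inv_one]⟩ }
  rcases hX.eq_or_eq (W := K) (fun z hz => ⟨hX.le hz, h4 z hz⟩) (fun _ h => h.1) (norm_iff.2 fun a ha b hb =>
    ⟨conj_mem hX.nmlU.norm ha hb.1, by rw [conj_pow, hb.2, mul_one, mul_inv_cancel]⟩) with e | e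
  · have z4 : ∀ {x}, x ∈ X → x ^ 4 ∈ Z ∧ (x ^ 4) ^ 2 = 1 := fun {x} hx =>
      ⟨by rw [show 4 = 2 * 2 from rfl, pow_mul]; exact pow_mem (hp hx) 2, by rw [← pow_mul, show 4 * 2 = 2 * 4 from rfl, pow_mul, h4 _ (hp hx)]⟩
    have n4 : ∀ {x}, x ∈ X → x ∉ Z → orderOf (x ^ 4) = 2 := fun hx h => orderOf_eq_prime (z4 hx).2 fun k => h (e.le ⟨hx, k⟩)
    have x1 := n4 hx fun h => n (cz hy h).eq.symm
    have y1 := n4 hy fun h => n (cz hx h).eq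
    have xy := n4 (mul_mem hx hy) fun h => n (by simpa [mul_assoc] using (cz hx h).eq)
    have m := cy.mem_of_pow (zpowers_le.2 (z4 hx).1) (z4 hy).1 (by rw [card_zpowers', x1, (z4 hy).2])
    classical
    rw [mem_zpowers_iff_mem_range_orderOf, x1] at m
    obtain ⟨i, hi, m⟩ := Finset.mem_image.1 m
    rw [f hx hy, ← m] at xy
    rw [← m] at y1
    obtain rfl | rfl : i = 0 ∨ i = 1 := by have := Finset.mem_range.1 hi; omega
    · simp at y1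
    · rw [pow_one, ← sq, (z4 hx).2] at xy; simp at xy
  · exact fun a ha => ⟨hp ha, (e.ge ha).2⟩

theorem x1 : X1.{u} := fun G _ _ V A hV hm hs hf ho hc => by
  obtain ⟨Z, -, ⟨nZ, aZ⟩, hZ⟩ := exists_maximal_sub (A := ⊥) (fun X => X ⊴ A ∧ Abel X) ⟨Nml.bot, abel_bot⟩
  obtain ⟨E, -, ⟨nE, ZE, EC, der, sq⟩, hE⟩ := exists_maximal_sub (A := Z)
    (fun X => X ⊴ A ∧ Z ≤ X ∧ X ≤ C(Z) ∧ ⁅X, X⁆ ≤ Z ∧ ((∀ z ∈ Z, z ^ 4 = 1) → ∀ e ∈ X, e ^ 2 ∈ Z ∧ e ^ 4 = 1))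
    ⟨nZ, le_rfl, aZ, der_le, fun h e he => ⟨pow_mem he 2, h e he⟩⟩
  refine ⟨Z, E, hV, hm.norm, ho, nE, nZ, hc Z nZ aZ, ZE, EC, der, by_contra fun h => ?_, fun z hz z1 => ?_, sq⟩
  · have ZC : Z ≤ A ⊓ C(E) := le_inf nZ.le (cent_symm EC)
    obtain ⟨X, hX, XC⟩ := exists_chief_above nZ nE.cent (lt_of_le_not_ge ZC h)
    have dX : ⁅X, X⁆ ≤ Z := (abel_quo_iff (hX.nmlU.le.trans nZ.norm)).1
      (hX.minNorm.abel (hs.of_le hX.nmlU.le).mim)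
    have XE : X ≤ C(E) := XC.trans inf_le_right
    have na : ¬ Abel X := fun aX => hX.lt.ne' (hZ X ⟨hX.nmlU, aX⟩ hX.le)
    have := hE (E ⊔ X) ⟨nE.sup hX.nmlU, ZE.trans le_sup_left, sup_le EC (XE.trans (C_anti ZE)), by
      rw [der_sup, comm_eq_bot_iff.2 (cent_symm XE), sup_bot_eq]; exact sup_le der dX, fun h4 e he => by
        obtain ⟨a, ha, b, hb, rfl⟩ := (mem_sup_of_cent (cent_symm XE)).1 he
        have k := sqX hX (hs.of_le hX.nmlU.le) (hc Z nZ aZ) (XE.trans (C_anti ZE)) dX na h4 b hb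
        have c : Commute a b := mem_C.1 (XE hb) a ha
        rw [c.mul_pow, c.mul_pow, (sq h4 a ha).2, k.2, mul_one]
        exact ⟨mul_mem (sq h4 a ha).1 k.1, rfl⟩⟩ le_sup_left
    exact na (XE.trans (C_anti (le_sup_right.trans this.le)))
  · have nz : A ≤ N(zpowers z) := (hc Z nZ aZ).norm_sub (zpowers_le.2 hz) nZ.norm
    exact (hm.eq_bot_or inf_le_left (norm_inf hm.norm (C_zpowers (x := z) ▸ norm_C nz))).resolve_right
      fun e => z1 (eq_one_of_eq_bot hf ⟨nZ.le hz, le_C1_iff.1 (e ▸ inf_le_right)⟩)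

end H25.BsX1
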