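import Cfsg.Agent.H25.JTp
import Cfsg.Agent.H25.JTm
import Cfsg.Agent.H21.Extra
import Mathlib.GroupTheory.SpecificGroups.Alternating
import Mathlib.GroupTheory.Perm.Cycle.Type

/-! An involution centralizer `C(z)` of order 1920 with a self-centralizing normal extraspecial subgroup `Q` of order 32
(`XS z Q`): five pairwise anticommuting involutions (`Gm5`), the action `C(z) → A₅`, and generators satisfying the
presentation of `2^(1+4):A₅` (`JP`) or of the non-split group (`JM`): `XS.gens`. -/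

set_option autoImplicit false

namespace H25
open Subgroup H18 H21 H15 Equiv
open scoped commutatorElement

variable {G : Type*} [Group G] {z : G} {Q R : Subgroup G} {a b c f h q : G}

theorem card_modEq_C1 [Finite G] {p : ℕ} (hp : p.Prime) (hf : f ^ p = 1) (hR : f ∈ N(R)) :
    Nat.card R ≡ Nat.card (R ⊓ C1(f) :) [MOD p] := by
  classical
  have := Fact.mk hp
  have := Fintype.ofFinite R
  let φ : Function.End R := fun r => ⟨f * r * f⁻¹, conj_mem_N hR r.2⟩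
  have h1 : ∀ n r, ((φ ^ n) r : G) = f ^ n * r * (f ^ n)⁻¹ := fun n => by
    induction n with
    | zero => intro r; simp; rfl
    | succ n ih =>
      intro r
      rw [pow_succ, pow_succ]
      change ((φ ^ n) (φ r) : G) = _
      rw [ih]; simp [φ, mul_assoc]
  have h2 := Perm.card_fixedPoints_modEq (f := φ) (p := p) (n := 1) (by
    funext r; exact Subtype.ext (by rw [pow_one, h1, hf]; simp; rfl))
  rw [← Nat.card_eq_fintype_card, ← Nat.card_eq_fintype_card] at h2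
  refine h2.trans ?_
  rw [Nat.card_congr (β := (R ⊓ C1(f) :)) ⟨fun r => ⟨r.1, r.1.2, mem_C1.2
    (mul_inv_eq_iff_eq_mul.1 (congrArg Subtype.val r.2)).symm⟩, fun r => ⟨⟨r.1, r.2.1⟩,
    Subtype.ext (mul_inv_eq_iff_eq_mul.2 (mem_C1.1 r.2.2).symm)⟩, fun _ => rfl, fun _ => rfl⟩]

/-- the basic hypothesis on the centralizer of `z` -/
structure XS (z : G) (Q : Subgroup G) : Prop where
  hz : orderOf z = 2
  es : ES 2 Q
  cQ : Nat.card Q = 32
  nml : Q ⊴ C1(z)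
  cent : C1(z) ⊓ C(Q) ≤ Q
  cH : Nat.card C1(z) = 1920

open Classical in
/-- commutator indicator -/
noncomputable def kap (a b : G) : ZMod 2 := if a * b = b * a then 0 else 1

theorem kap_eq_zero : kap a b = 0 ↔ a * b = b * a := by
  unfold kap; split_ifs with h <;> simp [h]

theorem kap_congr {d : G} (h : a * b = b * a ↔ c * d = d * c) : kap a b = kap c d := by
  unfold kap
  by_cases e : a * b = b * a
  · rw [if_pos e, if_pos (h.1 e)]
  · rw [if_neg e, if_neg (mt h.2 e)]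

theorem kap_comm (a b : G) : kap a b = kap b a := kap_congr eq_comm

theorem kap_self (a : G) : kap a a = 0 := kap_eq_zero.2 rfl

theorem kap_conj (h a b : G) : kap (h * a * h⁻¹) (h * b * h⁻¹) = kap a b :=
  kap_congr (by rw [conj_mul, conj_mul, mul_left_inj, mul_right_inj])

theorem zm2 : ∀ x : ZMod 2, x = 0 ∨ x = 1 := by decide

/-- five pairwise anticommuting involutions with product one -/
structure Gm5 (z : G) (Q : Subgroup G) (γ : Fin 5 → G) : Prop where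
  mem : ∀ i, γ i ∈ Q
  sq : ∀ i, γ i * γ i = 1
  kp : ∀ i j, kap (γ i) (γ j) = if i = j then 0 else 1
  prod : γ 0 * γ 1 * γ 2 * γ 3 * γ 4 = 1
  gen : ∀ q ∈ Q, (∀ i, q * γ i = γ i * q) → q = 1 ∨ q = z

/-- generators of `A₅` -/
def pA : ℕ → Perm (Fin 5)
  | 0 => swap 0 2 * swap 0 1
  | 1 => swap 0 1 * swap 2 3
  | _ => swap 0 1 * swap 3 4

theorem pA_gen : ∀ σ : Perm (Fin 5), Perm.sign σ = 1 → σ ∈ List.map (evL pA)
    [[],[0],[1],[2],[0,0],[0,1],[0,2],[1,0],[1,2],[2,0],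
    [2,1],[0,0,1],[0,1,0],[0,1,2],[0,2,1],[1,0,0],[1,0,1],[1,0,2],[1,2,0],[1,2,1],
    [2,0,1],[2,1,0],[0,0,1,0],[0,0,1,2],[0,1,0,0],[0,1,0,2],[0,1,2,0],[0,1,2,1],[0,2,1,0],[1,0,1,2],
    [1,0,2,1],[1,2,0,1],[1,2,1,0],[2,0,1,0],[2,0,1,2],[2,1,0,0],[2,1,0,1],[2,1,0,2],[0,0,1,0,2],[0,1,0,2,1],
    [0,1,2,0,1],[0,1,2,1,0],[0,2,1,0,1],[0,2,1,0,2],[1,0,1,2,1],[1,0,2,1,0],[1,2,0,1,0],[1,2,1,0,1],[2,0,1,0,2],[2,0,1,2,0],
    [0,0,1,0,2,1],[0,1,0,2,1,0],[0,1,2,0,1,0],[0,1,2,1,0,1],[1,0,1,2,1,0],[1,0,2,1,0,1],[1,0,2,1,0,2],[2,0,1,2,0,1],[0,0,1,0,2,1,0],[0,1,0,2,1,0,1]] := by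
  decide +kernel

/-- letters of `2^(1+4):A₅` -/
def gP (a b c d e x t u : G) : ℕ → G
  | 0 => a | 1 => b | 2 => c | 3 => d | 4 => e | 5 => x | 6 => x⁻¹ | 7 => t | _ => u

/-- letters of the non-split group -/
def gN (a b c d e x t u : G) : ℕ → G
  | 0 => a | 1 => b | 2 => c | 3 => d | 4 => e | 5 => x | 6 => x⁻¹ | 7 => t | 8 => t⁻¹ | 9 => u | _ => u⁻¹

/-- `C(z) = 2^(1+4):A₅` with standard generators -/
structure JP (z a b c d e x t u : G) : Prop where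
  zd : d * e * d * e = z
  rt : RT C1(z) (gP a b c d e x t u) 9 1920 JTp.wk JTp.iv JTp.wd

/-- `C(z)` is the non-split extension -/
structure JM (z a b c d e x t u : G) : Prop where
  zd : d * e * d * e = z
  rt : RT C1(z) (gN a b c d e x t u) 11 1920 JTm.wk JTm.iv JTm.wd

namespace XS
variable [Finite G] (X : XS z Q)
include X

theorem zz : z * z = 1 := by rw [← sq, ← X.hz, pow_orderOf_eq_one]
theorem z1 : z ≠ 1 := fun e => by have := X.hz; rw [e, orderOf_one] at this; omega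
theorem mz (ha : a ∈ C1(z)) : a * z * (a * z) = a * a := by
  rw [mul_assoc, ← mul_assoc z, ← mem_C1.1 ha, mul_assoc, X.zz, mul_one]
theorem zc (ha : a ∈ Q) : a * z = z * a := mem_C1.1 (X.nml.le ha)
theorem zZ : z ∈ Z(Q) := ⟨X.cent ⟨C1_self, mem_C.2 fun _ h => X.zc h⟩, mem_C.2 fun _ h => X.zc h⟩
theorem zQ : z ∈ Q := X.zZ.1

theorem of_Z (ha : a ∈ Z(Q)) : a = 1 ∨ a = z := by
  classical
  rw [← X.es.zpowers_eq Nat.prime_two X.zZ X.z1, mem_zpowers_iff_mem_range_orderOf, X.hz] at ha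
  obtain ⟨k, hk, rfl⟩ := Finset.mem_image.1 ha
  have := Finset.mem_range.1 hk
  interval_cases k <;> simp

theorem sq (ha : a ∈ Q) : a * a = 1 ∨ a * a = z := X.of_Z (pow_two a ▸ X.es.pow_mem ha)

theorem comm (ha : a ∈ Q) (hb : b ∈ Q) : ⁅a, b⁆ = z ^ (kap a b).val := by
  rcases zm2 (kap a b) with e | e
  · rw [e, commutatorElement_eq_one_iff_mul_comm.2 (kap_eq_zero.1 e)]; simp
  · rw [e, (X.of_Z (X.es.comm_mem ha hb)).resolve_left fun h => by
      rw [kap_eq_zero.2 (commutatorElement_eq_one_iff_mul_comm.1 h)] at e; exact absurd e (by decide)]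
    simp [ZMod.val_one]

theorem zpow_inj {i j : ZMod 2} (e : z ^ i.val = z ^ j.val) : i = j := by
  have := X.z1
  rcases zm2 i with rfl | rfl <;> rcases zm2 j with rfl | rfl <;> simp_all [ZMod.val_one]

theorem zpow_add (i j : ZMod 2) : z ^ (i + j).val = z ^ i.val * z ^ j.val := by
  have := X.zz
  have h : (1 + 1 : ZMod 2) = 0 := by decide
  rcases zm2 i with rfl | rfl <;> rcases zm2 j with rfl | rfl <;> simp_all [ZMod.val_one]

theorem kap_mul (ha : a ∈ Q) (hb : b ∈ Q) (hc : c ∈ Q) : kap (a * b) c = kap a c + kap b c := by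
  refine X.zpow_inj ?_
  rw [X.zpow_add, ← X.comm ha hc, ← X.comm hb hc, ← X.comm (mul_mem ha hb) hc]
  have := (X.es.commute hb hc ha).eq
  have h2 := (X.es.commute hb hc (X.es.comm_mem ha hc).1).eq
  rw [h2]
  calc ⁅a * b, c⁆ = a * ⁅b, c⁆ * a⁻¹ * ⁅a, c⁆ := by simp only [commutatorElement_def]; group
    _ = _ := by rw [this]; group

theorem kap_mul' (ha : a ∈ Q) (hb : b ∈ Q) (hc : c ∈ Q) : kap c (a * b) = kap c a + kap c b := by
  rw [kap_comm, X.kap_mul ha hb hc, kap_comm a, kap_comm b]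

theorem kap_z (ha : a ∈ Q) : kap z a = 0 := kap_eq_zero.2 (X.zc ha).symm

theorem conj_eq (ha : a ∈ Q) (hb : b ∈ Q) : a * b * a⁻¹ = b * z ^ (kap a b).val := by
  rw [← X.comm ha hb, (X.es.commute ha hb hb).eq, commutatorElement_def]; group

theorem anti (ha : a ∈ Q) (hb : b ∈ Q) (e : kap a b = 1) : a * b = z * (b * a) := by
  have := X.comm ha hb
  rw [e, ZMod.val_one, pow_one] at this
  rw [← this, commutatorElement_def]; group

theorem cj_mem (hh : h ∈ C1(z)) (ha : a ∈ Q) : h * a * h⁻¹ ∈ Q := conj_mem X.nml.norm hh ha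

theorem exists_inv : ∃ v ∈ Q, v * v = 1 ∧ v ∉ C(Q) := by
  by_contra! hn
  have h1 : ∀ a ∈ Q, a ∉ C(Q) → a * a = z := fun a ha h => (X.sq ha).resolve_left fun e => h (hn a ha e)
  obtain ⟨a, ha, ha'⟩ : ∃ a ∈ Q, a ∉ C(Q) := by
    by_contra! h; have := X.es.eq_Z_of_abel h; rw [X.cQ] at this; omega
  have h2 := X.es.card_cent Nat.prime_two ha ha'
  have h3 : Q ⊓ C1(a) ≤ zpowers a := fun b hb => by
    have hz : z ∈ zpowers a := h1 a ha ha' ▸ mul_mem (mem_zpowers a) (mem_zpowers a)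
    have hZ : ∀ c ∈ Q, c ∈ C(Q) → c ∈ zpowers a := fun c h h' => (X.of_Z ⟨h, h'⟩).elim (· ▸ one_mem _) (· ▸ hz)
    by_cases hb' : b ∈ C(Q)
    · exact hZ b hb.1 hb'
    have : a * b ∈ zpowers a := hZ _ (mul_mem ha hb.1) (hn _ (mul_mem ha hb.1) (by
      rw [mul_assoc, ← mul_assoc b, mem_C1.1 hb.2, mul_assoc, h1 b hb.1 hb', ← mul_assoc, h1 a ha ha', X.zz]))
    simpa using mul_mem (inv_mem (mem_zpowers a)) this
  have h4 : orderOf a ≤ 4 := orderOf_le_of_pow_eq_one (by omega) (by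
    rw [show a ^ 4 = a * a * (a * a) by simp [pow_succ, mul_assoc], h1 a ha ha', X.zz])
  have := card_le_of_le h3
  rw [Nat.card_zpowers] at this
  rw [X.cQ] at h2; omega

theorem inv_eq (hf : f ∈ C1(z)) (h5 : orderOf f = 5) (hR : R ≤ Q) (hz : z ∈ R) (hn : f ∈ N(R)) :
    Nat.card (R ⊓ C1(f) :) = 2 ∧ (Nat.card R = 2 ∨ R = Q) := by
  have f5 : f ^ 5 = 1 := h5 ▸ pow_orderOf_eq_one f
  have key : ∀ n, n ∣ 32 → n ≡ 2 [MOD 5] → n = 2 ∨ n = 32 := fun n h1 h2 => by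
    have := Nat.le_of_dvd (by omega) h1
    interval_cases n <;> simp_all [Nat.ModEq]
  have hQ : Nat.card (Q ⊓ C1(f) :) = 2 := by
    have h1 := card_modEq_C1 Nat.prime_five f5 (X.nml.norm hf)
    rw [X.cQ] at h1
    refine (key _ (X.cQ ▸ card_dvd_of_le inf_le_left) (h1.symm.trans (by decide))).resolve_right fun e => ?_
    have h2 : Q ⊓ C1(f) = Q := eq_of_le_of_card_ge inf_le_left (by rw [e, X.cQ])
    have h3 := orderOf_dvd_natCard (⟨f, X.cent ⟨hf, le_C1_iff.1 (h2.ge.trans inf_le_right)⟩⟩ : Q)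
    rw [orderOf_mk, h5, X.cQ] at h3
    omega
  have h2 : Nat.card (R ⊓ C1(f) :) = 2 := by
    refine le_antisymm (hQ ▸ card_le_of_le (inf_le_inf_right _ hR)) ?_
    rw [← X.hz, ← Nat.card_zpowers]
    exact card_le_of_le (zpowers_le.2 ⟨hz, mem_C1_comm.1 hf⟩)
  have h1 := card_modEq_C1 Nat.prime_five f5 hn
  rw [h2] at h1
  exact ⟨h2, (key _ (X.cQ ▸ card_dvd_of_le hR) h1).imp_right fun e => eq_of_le_of_card_ge hR (by rw [e, X.cQ])⟩

theorem fix (hf : f ∈ C1(z)) (h5 : orderOf f = 5) (ha : a ∈ Q) (e : f * a * f⁻¹ = a) : a = 1 ∨ a = z := by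
  have h1 := (X.inv_eq hf h5 le_rfl X.zQ (X.nml.norm hf)).1
  have h2 : Z(Q) = Q ⊓ C1(f) := eq_of_le_of_card_ge (fun b hb => ⟨hb.1, (X.of_Z hb).elim (· ▸ one_mem _)
    (· ▸ mem_C1_comm.1 hf)⟩) (by rw [h1, X.es.card])
  exact X.of_Z (h2 ▸ ⟨ha, mem_C1.2 (mul_inv_eq_iff_eq_mul.1 e).symm⟩)

/-- the orbit of a non-central element spans `Q` -/
theorem span (hf : f ∈ C1(z)) (h5 : orderOf f = 5) (ha : a ∈ Q) (ha' : a ∉ C(Q)) (hq : q ∈ Q)
    (e : ∀ i : ℕ, q * (f ^ i * a * (f ^ i)⁻¹) = f ^ i * a * (f ^ i)⁻¹ * q) : q = 1 ∨ q = z := by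
  let s : Set G := {y | y = z ∨ ∃ i : ℕ, y = f ^ i * a * (f ^ i)⁻¹}
  have h1 : closure s ≤ Q := (closure_le _).2 (by
    rintro _ (rfl | ⟨i, rfl⟩)
    exacts [X.zQ, X.cj_mem (pow_mem hf i) ha])
  have h2 : f ∈ N(closure s) := mem_N_of_cj_le (by
    rw [cj_closure]
    refine closure_mono ?_
    rintro _ ⟨_, rfl | ⟨i, rfl⟩, rfl⟩
    · exact .inl (conj_eq_self_of_C1 hf)
    · exact .inr ⟨i + 1, by simp only [pow_succ']; group⟩)
  have hz : z ∈ closure s := subset_closure (.inl rfl)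
  rcases (X.inv_eq hf h5 h1 hz h2).2 with h | h
  · have h3 : Z(Q) = closure s := eq_of_le_of_card_ge (fun b hb => (X.of_Z hb).elim (· ▸ one_mem _) (· ▸ hz))
      (by rw [h, X.es.card])
    exact absurd (h3.ge (subset_closure (.inr ⟨0, by simp⟩))).2 ha'
  · refine X.of_Z ⟨hq, le_C1_iff.1 (h ▸ (closure_le _).2 ?_)⟩
    rintro _ (rfl | ⟨i, rfl⟩)
    exacts [mem_C1.2 (X.zc hq).symm, mem_C1.2 (e i).symm]

theorem exists_gam : ∃ γ, Gm5 z Q γ := by
  obtain ⟨⟨f, hf⟩, h5⟩ := exists_prime_orderOf_dvd_card' (G := C1(z)) 5 (hp := ⟨Nat.prime_five⟩) (by rw [X.cH]; decide)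
  rw [orderOf_mk] at h5
  have f5 : f ^ 5 = 1 := h5 ▸ pow_orderOf_eq_one f
  let o : G → ℕ → G := fun a i => f ^ i * a * (f ^ i)⁻¹
  have o0 : ∀ a, o a 0 = a := fun a => by simp [o]
  have o5 : ∀ a i, o a (i + 5) = o a i := fun a i => by simp [o, pow_add, f5]
  have oQ : ∀ a ∈ Q, ∀ i, o a i ∈ Q := fun a ha i => X.cj_mem (pow_mem hf i) ha
  have os : ∀ a i, f * o a i * f⁻¹ = o a (i + 1) := fun a i => by simp only [o, pow_succ']; group
  have oo : ∀ a i j, o (o a i) j = o a (j + i) := fun a i j => by simp only [o, pow_add]; group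
  have om : ∀ a b i, o (a * b) i = o a i * o b i := fun a b i => conj_mul.symm
  have ok : ∀ a i j, kap (o a (i + 1)) (o a (j + 1)) = kap (o a i) (o a j) := fun a i j => by
    rw [← os, ← os, kap_conj]
  have tb : ∀ a, ∀ i j : Fin 5, kap (o a i) (o a j) =
      if i = j then 0 else if i = j + 1 ∨ j = i + 1 then kap a (o a 1) else kap a (o a 2) := fun a => by
    have k1 : kap (o a 0) (o a 1) = kap a (o a 1) := by rw [o0]
    have k2 : kap (o a 0) (o a 2) = kap a (o a 2) := by rw [o0]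
    have k3 : kap (o a 0) (o a 3) = kap a (o a 2) := by
      rw [← o5, kap_comm, ok a 2 4, ok a 1 3, ok a 0 2, o0]
    have k4 : kap (o a 0) (o a 4) = kap a (o a 1) := by
      rw [← o5, kap_comm, ok a 3 4, ok a 2 3, ok a 1 2, ok a 0 1, o0]
    have l : ∀ i j, kap (o a (j + 1)) (o a (i + 1)) = kap (o a i) (o a j) := fun i j => by rw [ok, kap_comm]
    have a12 := (ok a 0 1).trans k1
    have a13 := (ok a 0 2).trans k2
    have a14 := (ok a 0 3).trans k3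
    have a23 := (ok a 1 2).trans a12
    have a24 := (ok a 1 3).trans a13
    have a34 := (ok a 2 3).trans a23
    intro i j
    fin_cases i <;> fin_cases j <;> first
      | exact kap_self _
      | assumption
      | (rw [kap_comm]; assumption)
  have red : ∀ a ∈ Q, a ∉ C(Q) → ∀ q ∈ Q, (∀ i : Fin 5, q * o a i = o a i * q) → q = 1 ∨ q = z :=
    fun a ha ha' q hq e => X.span hf h5 ha ha' hq fun i => by
      have := e ⟨i % 5, Nat.mod_lt _ (by omega)⟩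
      simp only [o] at this
      rwa [← h5, pow_mod_orderOf] at this
  have nc : ∀ a ∈ Q, kap a (o a 1) = 1 → a ∉ C(Q) := fun a ha e h => by
    rw [kap_eq_zero.2 (mem_C.1 h _ (oQ a ha 1)).symm] at e; exact absurd e (by decide)
  obtain ⟨w, hw, w2, w1, w3⟩ : ∃ w ∈ Q, w * w = 1 ∧ kap w (o w 1) = 1 ∧ kap w (o w 2) = 1 := by
    obtain ⟨v, hv, v2, v1⟩ := X.exists_inv
    have vi : ∀ i, o v i * o v i = 1 := fun i => by rw [← om, v2]; simp [o]
    have t := tb v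
    have pr : ∀ i, kap v (o v i) = 0 → v * o v i * (v * o v i) = 1 := fun i e => by
      rw [mul_assoc, ← mul_assoc (o v i), ← kap_eq_zero.1 e, mul_assoc, vi, mul_one, v2]
    have ex : ∀ i j, kap (v * o v i) (o (v * o v i) j) = kap (o v 0) (o v j) + kap (o v 0) (o v (j + i)) +
        (kap (o v i) (o v j) + kap (o v i) (o v (j + i))) := fun i j => by
      rw [om, oo, X.kap_mul hv (oQ v hv _) (mul_mem (oQ v hv _) (oQ v hv _)),
        X.kap_mul' (oQ v hv _) (oQ v hv _) hv, X.kap_mul' (oQ v hv _) (oQ v hv _) (oQ v hv _), o0]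
    rcases zm2 (kap v (o v 1)) with e1 | e1 <;> rcases zm2 (kap v (o v 2)) with e2 | e2
    · refine absurd ((red v hv v1 v hv fun i => kap_eq_zero.1 ?_).elim (· ▸ one_mem _) (· ▸ X.zZ.2)) v1
      have := t 0 i
      rw [e1, e2, ite_self, ite_self] at this
      exact (congrArg (kap · (o v i)) (o0 v)).symm.trans this
    · refine ⟨v * o v 1, mul_mem hv (oQ v hv 1), pr 1 e1, ?_, ?_⟩ <;> rw [ex]
      · erw [t 0 1, t 0 2, t 1 1, t 1 2, e1, e2]; decide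
      · erw [t 0 2, t 0 3, t 1 2, t 1 3, e1, e2]; decide
    · refine ⟨v * o v 2, mul_mem hv (oQ v hv 2), pr 2 e2, ?_, ?_⟩ <;> rw [ex]
      · erw [t 0 1, t 0 3, t 2 1, t 2 3, e1, e2]; decide
      · erw [t 0 2, t 0 4, t 2 2, t 2 4, e1, e2]; decide
    · exact ⟨v, hv, v2, e1, e2⟩
  have key : ∀ w ∈ Q, w * w = 1 → kap w (o w 1) = 1 → kap w (o w 2) = 1 →
      o w 0 * o w 1 * o w 2 * o w 3 * o w 4 = 1 → ∃ γ, Gm5 z Q γ := fun w hw w2 w1 w3 e =>
    ⟨fun i => o w i, fun i => oQ w hw i, fun i => by rw [← om, w2]; simp [o], fun i j => by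
      rw [tb, w1, w3, ite_self], e, red w hw (nc w hw w1)⟩
  have hp : o w 0 * o w 1 * o w 2 * o w 3 * o w 4 ∈ Q := by
    have := oQ w hw
    exact mul_mem (mul_mem (mul_mem (mul_mem (this 0) (this 1)) (this 2)) (this 3)) (this 4)
  have hk : kap (o w 0) (o w 1 * o w 2 * o w 3 * o w 4) = 0 := by
    have := oQ w hw
    rw [X.kap_mul' (mul_mem (mul_mem (this 1) (this 2)) (this 3)) (this 4) (this 0),
      X.kap_mul' (mul_mem (this 1) (this 2)) (this 3) (this 0), X.kap_mul' (this 1) (this 2) (this 0)]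
    have t := tb w
    erw [t 0 1, t 0 2, t 0 3, t 0 4, w1, w3]; decide
  rcases X.fix hf h5 hp (by
    simp only [← conj_mul, os]
    rw [show o w (4 + 1) = o w 0 from o5 w 0, ← kap_eq_zero.1 hk]; simp only [mul_assoc]) with e | e
  · exact key w hw w2 w1 w3 e
  have oz : ∀ i, o (w * z) i = o w i * z := fun i => by
    rw [om]; congr 1; exact conj_eq_self_of_C1 (pow_mem hf i)
  have kz : ∀ i, kap (w * z) (o (w * z) i) = kap w (o w i) := fun i => by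
    rw [oz, X.kap_mul hw X.zQ (mul_mem (oQ w hw i) X.zQ), X.kap_z (mul_mem (oQ w hw i) X.zQ),
      X.kap_mul' (oQ w hw i) X.zQ hw, kap_comm w z, X.kap_z hw]; simp
  refine key (w * z) (mul_mem hw X.zQ) (by
    rw [mul_assoc, ← mul_assoc z, ← X.zc hw, mul_assoc, X.zz, mul_one, w2]) (by rw [kz, w1]) (by rw [kz, w3]) ?_
  have c : ∀ i (y : G), z * (o w i * y) = o w i * (z * y) := fun i y => by
    rw [← mul_assoc, ← X.zc (oQ w hw i), mul_assoc]
  simp only [oz, mul_assoc, c, X.zz] at e ⊢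
  simp only [← mul_assoc, mul_one] at e ⊢
  rw [e, X.zz]

variable {γ : Fin 5 → G} (Γ : Gm5 z Q γ)
include Γ

theorem eq_of_kap (ha : a ∈ Q) (hb : b ∈ Q) (e : ∀ i, kap a (γ i) = kap b (γ i)) : a = b ∨ a = b * z := by
  have h := Γ.gen (b⁻¹ * a) (mul_mem (inv_mem hb) ha) fun i => kap_eq_zero.1 (by
    have := X.kap_mul hb (mul_mem (inv_mem hb) ha) (Γ.mem i)
    rw [mul_inv_cancel_left, e] at this
    exact left_eq_add.1 this)
  rw [inv_mul_eq_one, inv_mul_eq_iff_eq_mul] at h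
  exact h.imp_left Eq.symm

theorem sum_kap (ha : a ∈ Q) : kap a (γ 0) + kap a (γ 1) + kap a (γ 2) + kap a (γ 3) + kap a (γ 4) = 0 := by
  have m := Γ.mem
  rw [← X.kap_mul' (m 0) (m 1) ha, ← X.kap_mul' (mul_mem (m 0) (m 1)) (m 2) ha,
    ← X.kap_mul' (mul_mem (mul_mem (m 0) (m 1)) (m 2)) (m 3) ha,
    ← X.kap_mul' (mul_mem (mul_mem (mul_mem (m 0) (m 1)) (m 2)) (m 3)) (m 4) ha, Γ.prod]
  exact kap_eq_zero.2 (by simp)

theorem tri (ε : Fin 5 → ZMod 2) (e : ε 0 + ε 1 + ε 2 + ε 3 + ε 4 = 0) : ∃ c ∈ Q, (∀ i, kap c (γ i) = ε i) ∧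
    (c = 1 ∨ (∃ i, c = γ i) ∨ ∃ i j, i ≠ j ∧ c = γ i * γ j) := by
  have h : ∀ ε : Fin 5 → ZMod 2, ε 0 + ε 1 + ε 2 + ε 3 + ε 4 = 0 → (∀ k, 0 = ε k) ∨
      (∃ i, ∀ k, (if i = k then 0 else 1) = ε k) ∨
      ∃ i j, i ≠ j ∧ ∀ k, (if i = k then 0 else 1) + (if j = k then 0 else 1) = ε k := by decide +kernel
  rcases h ε e with h | ⟨i, h⟩ | ⟨i, j, ij, h⟩
  · exact ⟨1, one_mem _, fun k => (kap_eq_zero.2 (by simp)).trans (h k), .inl rfl⟩
  · exact ⟨_, Γ.mem i, fun k => (Γ.kp i k).trans (h k), .inr (.inl ⟨i, rfl⟩)⟩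
  · exact ⟨_, mul_mem (Γ.mem i) (Γ.mem j), fun k => by rw [X.kap_mul (Γ.mem i) (Γ.mem j) (Γ.mem k), Γ.kp, Γ.kp, h],
      .inr (.inr ⟨i, j, ij, rfl⟩)⟩

theorem ga {i j : Fin 5} (h : i ≠ j) : γ i * γ j = z * (γ j * γ i) :=
  X.anti (Γ.mem i) (Γ.mem j) (by rw [Γ.kp, if_neg h])

theorem gq {i j : Fin 5} (h : i ≠ j) : γ i * γ j * γ i * γ j = z := by
  rw [mul_assoc (γ i), X.ga Γ h.symm]
  simp only [← mul_assoc]
  rw [X.zc (Γ.mem i), mul_assoc z, Γ.sq, mul_one, mul_assoc, Γ.sq, mul_one]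

theorem le_closure {K : Subgroup G} (h : ∀ i, γ i ∈ K) : Q ≤ K := fun a ha => by
  have hz : z ∈ K := by
    rw [← X.gq Γ (show (0 : Fin 5) ≠ 1 by decide)]
    exact mul_mem (mul_mem (mul_mem (h 0) (h 1)) (h 0)) (h 1)
  obtain ⟨c, hc, h1, h2⟩ := X.tri Γ (fun i => kap a (γ i)) (X.sum_kap Γ ha)
  have : c ∈ K := by
    rcases h2 with rfl | ⟨i, rfl⟩ | ⟨i, j, -, rfl⟩
    exacts [one_mem _, h i, mul_mem (h i) (h j)]
  rcases X.eq_of_kap Γ ha hc fun i => (h1 i).symm with rfl | rfl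
  exacts [this, mul_mem this hz]

theorem invol (ha : a ∈ Q) (a2 : a * a = 1) : a = 1 ∨ a = z ∨ ∃ i, a = γ i ∨ a = γ i * z := by
  obtain ⟨c, hc, h1, h2⟩ := X.tri Γ (fun i => kap a (γ i)) (X.sum_kap Γ ha)
  have h3 := X.eq_of_kap Γ ha hc fun i => (h1 i).symm
  rcases h2 with rfl | ⟨i, rfl⟩ | ⟨i, j, ij, rfl⟩
  · rw [one_mul] at h3; tauto
  · exact .inr (.inr ⟨i, h3⟩)
  refine (X.z1 ?_).elim
  have h4 : γ i * γ j * (γ i * γ j) = z := by rw [← X.gq Γ ij]; simp only [mul_assoc]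
  rcases h3 with rfl | rfl
  · rw [← h4, a2]
  · rw [← h4, ← X.mz (X.nml.le hc), a2]

theorem kz (i : Fin 5) (e : ZMod 2) (ha : a ∈ Q) : kap (γ i * z ^ e.val) a = kap (γ i) a := by
  rw [X.kap_mul (Γ.mem i) (pow_mem X.zQ _) ha, kap_eq_zero.2 (mem_C1.1 (C1_pow_le _ (X.nml.le ha))).symm, add_zero]

theorem uniq {i j : Fin 5} {e e' : ZMod 2} (h : γ i * z ^ e.val = γ j * z ^ e'.val) : i = j := by
  by_contra hn
  have := X.kz Γ i e (Γ.mem i)
  rw [h, X.kz Γ j e' (Γ.mem i), kap_self, Γ.kp, if_neg (Ne.symm hn)] at this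
  exact absurd this (by decide)

theorem cj_ex (hh : h ∈ C1(z)) (i : Fin 5) : ∃ j, ∃ e : ZMod 2, h * γ i * h⁻¹ = γ j * z ^ e.val := by
  have n : ∀ a ∈ Z(Q), h * γ i * h⁻¹ ≠ a := fun a ha e => by
    have h1 := kap_conj h (γ i) (γ (i + 1))
    rw [e, kap_eq_zero.2 (mem_C.1 ha.2 _ (X.cj_mem hh (Γ.mem _))).symm, Γ.kp, if_neg ((by decide : ∀ i : Fin 5, ¬ i = i + 1) i)] at h1
    exact absurd h1 (by decide)
  rcases X.invol Γ (X.cj_mem hh (Γ.mem i)) (by rw [conj_mul, Γ.sq]; simp) with e | e | ⟨j, e | e⟩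
  · exact absurd e (n _ (one_mem _))
  · exact absurd e (n _ X.zZ)
  · exact ⟨j, 0, by simpa using e⟩
  · exact ⟨j, 1, by simpa [ZMod.val_one] using e⟩

theorem triv (hh : h ∈ C1(z)) (e : ∀ i, h * γ i * h⁻¹ = γ i) : h = 1 ∨ h = z :=
  Γ.gen h (X.cent ⟨hh, le_C1_iff.1 (X.le_closure Γ fun i => mem_C1.2 (mul_inv_eq_iff_eq_mul.1 (e i)).symm)⟩)
    fun i => mul_inv_eq_iff_eq_mul.1 (e i)

theorem fixup (hh : h ∈ C1(z)) (π : Perm (Fin 5)) (e : Fin 5 → ZMod 2)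
    (h1 : ∀ i, h * γ i * h⁻¹ = γ (π i) * z ^ (e i).val) (hp : γ (π 0) * γ (π 1) * γ (π 2) * γ (π 3) * γ (π 4) = 1) :
    ∃ c ∈ Q, ∀ i, c * h * γ i * (c * h)⁻¹ = γ (π i) := by
  have h2 : e 0 + e 1 + e 2 + e 3 + e 4 = 0 := X.zpow_inj (by
    have : h * γ 0 * h⁻¹ * (h * γ 1 * h⁻¹) * (h * γ 2 * h⁻¹) * (h * γ 3 * h⁻¹) * (h * γ 4 * h⁻¹) = 1 := by
      simp only [conj_mul, Γ.prod, mul_one, mul_inv_cancel]
    have c : ∀ i (k : ℕ) (y : G), z ^ k * (γ i * y) = γ i * (z ^ k * y) := fun i k y => by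
      rw [← mul_assoc, ← mem_C1.1 (C1_pow_le _ (X.nml.le (Γ.mem i))), mul_assoc]
    simp only [h1, mul_assoc, c] at this
    simp only [← mul_assoc, hp, one_mul] at this
    simp only [X.zpow_add, this]; simp)
  obtain ⟨c, hc, h3, -⟩ := X.tri Γ (fun j => e (π.symm j)) (by
    rw [← Fin.sum_univ_five (fun j => e (π.symm j)), Equiv.sum_comp π.symm e, Fin.sum_univ_five, h2])
  refine ⟨c, hc, fun i => ?_⟩
  calc _ = c * (h * γ i * h⁻¹) * c⁻¹ := by group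
    _ = c * γ (π i) * c⁻¹ * (c * z ^ (e i).val * c⁻¹) := by rw [h1, conj_mul]
    _ = _ := by
      rw [X.conj_eq hc (Γ.mem _), h3, symm_apply_apply, mem_C1.1 (C1_pow_le _ (X.nml.le hc)), mul_inv_cancel_right,
        mul_assoc, ← X.zpow_add, CharTwo.add_self_eq_zero]; simp

theorem exists_rho : ∃ ρ : C1(z) →* Perm (Fin 5), (∀ h : C1(z), ∀ i, ∃ e : ZMod 2,
    h * γ i * (h : G)⁻¹ = γ (ρ h i) * z ^ e.val) ∧ ρ.ker = Q.subgroupOf C1(z) ∧ ρ.range = alternatingGroup (Fin 5) := by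
  choose σ hσ using fun h : C1(z) => X.cj_ex Γ h.2
  let A : MulAction C1(z) (Fin 5) :=
    { smul := σ
      one_smul := fun i => by
        obtain ⟨e, h⟩ := hσ 1 i
        exact (X.uniq Γ (e := 0) (j := σ 1 i) (by simpa using h)).symm
      mul_smul := fun g h i => by
        obtain ⟨e, h1⟩ := hσ (g * h) i
        obtain ⟨e', h2⟩ := hσ h i
        obtain ⟨e'', h3⟩ := hσ g (σ h i)
        refine X.uniq Γ (e := e) (e' := e'' + e') (i := σ (g * h) i) (j := σ g (σ h i)) ?_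
        rw [← h1, X.zpow_add, ← mul_assoc]
        refine Eq.trans ?_ (congrArg (· * _) h3)
        have := mem_C1.1 (C1_pow_le e'.val g.2)
        calc _ = g * (h * γ i * (h : G)⁻¹) * (g : G)⁻¹ := by push_cast; group
          _ = g * γ (σ h i) * (g : G)⁻¹ * (g * z ^ e'.val * (g : G)⁻¹) := by rw [h2]; group
          _ = _ := by rw [this, mul_inv_cancel_right] }
  have hk : (@MulAction.toPermHom _ _ _ A).ker = Q.subgroupOf C1(z) := by
    ext h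
    rw [MonoidHom.mem_ker, mem_subgroupOf]
    refine ⟨fun e => ?_, fun hq => Perm.ext fun i => ?_⟩
    · choose e' h1 using hσ h
      obtain ⟨c, hc, h2⟩ := X.fixup Γ h.2 1 e' (fun i => (h1 i).trans (congrArg (γ · * _) (DFunLike.congr_fun e i)))
        Γ.prod
      have : c * h ∈ Q := (X.triv Γ (mul_mem (X.nml.le hc) h.2) h2).elim (fun e => by rw [e]; exact one_mem _)
        fun e => by rw [e]; exact X.zQ
      simpa using mul_mem (inv_mem hc) this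
    · obtain ⟨e', h1⟩ := hσ h i
      rw [X.conj_eq hq (Γ.mem i)] at h1
      exact (X.uniq Γ h1).symm
  refine ⟨@MulAction.toPermHom _ _ _ A, hσ, hk, Perm.eq_alternatingGroup_of_index_eq_two ?_⟩
  have h1 := (@MulAction.toPermHom _ _ _ A).range.card_mul_index
  have h2 := (@MulAction.toPermHom _ _ _ A).ker.card_mul_index
  rw [index_ker, hk, X.cH, Nat.card_congr (subgroupOfEquivOfLe X.nml.le).toEquiv, X.cQ] at h2
  rw [Nat.card_perm, Nat.card_fin, show Nat.card (@MulAction.toPermHom _ _ _ A).range = 60 by omega] at h1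
  simp only [Nat.factorial] at h1
  omega

theorem exists_xtu : ∃ x ∈ C1(z), ∃ t ∈ C1(z), ∃ u ∈ C1(z), (∀ i, x * γ i * x⁻¹ = γ (pA 0 i)) ∧
    (∀ i, t * γ i * t⁻¹ = γ (pA 1 i)) ∧ (∀ i, u * γ i * u⁻¹ = γ (pA 2 i)) ∧ x * x * x = 1 ∧
    x * t * x * t * x * t = 1 ∧ t * u * t * u * t * u = 1 ∧ x * u * x * u = t * t ∧ u * u = t * t ∧
    (t * t = 1 ∨ t * t = z) ∧ ∀ K : Subgroup G, (∀ i, γ i ∈ K) → x ∈ K → t ∈ K → u ∈ K → C1(z) ≤ K := by
  obtain ⟨ρ, r1, r2, r3⟩ := X.exists_rho Γ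
  let L : G → Perm (Fin 5) → Prop := fun h π => h ∈ C1(z) ∧ ∀ i, h * γ i * h⁻¹ = γ (π i)
  have Lm : ∀ {g h π σ}, L g π → L h σ → L (g * h) (π * σ) := fun {g h π σ} a b =>
    ⟨mul_mem a.1 b.1, fun i => by rw [Perm.mul_apply, ← a.2, ← b.2]; group⟩
  have Lz : ∀ {g π}, L g π → L (g * z) π := fun {g π} a => by
    simpa using Lm a (show L z 1 from ⟨C1_self, fun i => conj_eq_self_of_C1 (mem_C1.2 (X.zc (Γ.mem i)).symm)⟩)
  have L1 : ∀ {g π}, L g π → π = 1 → g = 1 ∨ g = z := fun {g π} a e => X.triv Γ a.1 (by simpa [e] using a.2)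
  have Li : ∀ {g π}, L g π → L g⁻¹ π⁻¹ := fun {g π} a => ⟨inv_mem a.1, fun i => by
    have := a.2 (π⁻¹ i)
    rw [Perm.inv_def, apply_symm_apply] at this
    rw [← this, Perm.inv_def]; group⟩
  have Ls : ∀ {g h π σ}, L g π → L h σ → π = σ → g * g = h * h := fun {g h π σ} a b e => by
    rcases L1 (Lm (Li b) a) (by simp [e]) with e | e
    · rw [inv_mul_eq_one.1 e]
    · rw [inv_mul_eq_iff_eq_mul.1 e, X.mz b.1]
  have ex : ∀ π : Perm (Fin 5), Perm.sign π = 1 → γ (π 0) * γ (π 1) * γ (π 2) * γ (π 3) * γ (π 4) = 1 → ∃ g, L g π :=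
    fun π h1 h2 => by
      obtain ⟨h, rfl⟩ := r3.ge (Perm.mem_alternatingGroup.2 h1)
      choose e he using r1 h
      obtain ⟨c, hc, h3⟩ := X.fixup Γ h.2 _ e he h2
      exact ⟨_, mul_mem (X.nml.le hc) h.2, h3⟩
  have sw : ∀ i j : Fin 5, i ≠ j → ∀ y, γ i * (γ j * y) = z * (γ j * (γ i * y)) := fun i j h y => by
    rw [← mul_assoc, X.ga Γ h]; simp only [mul_assoc]
  have c : ∀ i (y : G), γ i * (z * y) = z * (γ i * y) := fun i y => by
    rw [← mul_assoc, X.zc (Γ.mem i), mul_assoc]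
  have zz : ∀ y, z * (z * y) = y := fun y => by rw [← mul_assoc, X.zz, one_mul]
  have pr := Γ.prod
  simp only [mul_assoc] at pr
  obtain ⟨x, hx, x3⟩ : ∃ x, L x (pA 0) ∧ x * x * x = 1 := by
    obtain ⟨x, hx⟩ := ex (pA 0) (by decide) (show γ 1 * γ 2 * γ 0 * γ 3 * γ 4 = 1 by
      simp only [mul_assoc]; rw [sw 2 0 (by decide), c, sw 1 0 (by decide), zz, pr])
    rcases L1 (Lm (Lm hx hx) hx) (by decide) with e | e
    · exact ⟨x, hx, e⟩
    · exact ⟨x * z, Lz hx, by rw [X.mz hx.1, ← mul_assoc, e, X.zz]⟩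
  obtain ⟨t, ht, xt⟩ : ∃ t, L t (pA 1) ∧ x * t * (x * t) * (x * t) = 1 := by
    obtain ⟨t, ht⟩ := ex (pA 1) (by decide) (show γ 1 * γ 0 * γ 3 * γ 2 * γ 4 = 1 by
      simp only [mul_assoc]; rw [sw 3 2 (by decide), c, c, sw 1 0 (by decide), zz, pr])
    have h := Lm hx ht
    rcases L1 (Lm (Lm h h) h) (by decide) with e | e
    · exact ⟨t, ht, e⟩
    · exact ⟨t * z, Lz ht, by rw [← mul_assoc x, X.mz h.1, ← mul_assoc, e, X.zz]⟩
  obtain ⟨u, hu, tu⟩ : ∃ u, L u (pA 2) ∧ t * u * (t * u) * (t * u) = 1 := by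
    obtain ⟨u, hu⟩ := ex (pA 2) (by decide) (show γ 1 * γ 0 * γ 2 * γ 4 * γ 3 = 1 by
      simp only [mul_assoc]; rw [X.ga Γ (show (4 : Fin 5) ≠ 3 by decide), c, c, c, sw 1 0 (by decide), zz, pr])
    have h := Lm ht hu
    rcases L1 (Lm (Lm h h) h) (by decide) with e | e
    · exact ⟨u, hu, e⟩
    · exact ⟨u * z, Lz hu, by rw [← mul_assoc t, X.mz h.1, ← mul_assoc, e, X.zz]⟩
  have tt := L1 (Lm ht ht) (by decide)
  have tc : ∀ g ∈ C1(z), g * (t * t) * g⁻¹ = t * t := fun g hg => by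
    rcases tt with e | e <;> rw [e]
    exacts [by simp, conj_eq_self_of_C1 hg]
  have uu : u * u = t * t := by
    rw [Ls hu (Lm (Lm (Lm ht hu) ht) (Li (Lm ht hu))) (by decide), conj_mul, tc _ (Lm ht hu).1]
  refine ⟨x, hx.1, t, ht.1, u, hu.1, hx.2, ht.2, hu.2, x3, by simpa only [mul_assoc] using xt,
    by simpa only [mul_assoc] using tu, ?_, uu, tt, fun K k1 k2 k3 k4 h hh => ?_⟩
  · rw [mul_assoc, Ls (Lm hx hu) (Lm (Lm (Lm hx hx) hu) (Li (Lm hx hx))) (by decide), conj_mul, uu, tc _ (Lm hx hx).1]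
  have h1 : ∀ w : List ℕ, ∃ g ∈ K, L g (ev pA w) := fun w => by
    induction w with
    | nil => exact ⟨1, one_mem _, one_mem _, by simp⟩
    | cons y w ih =>
      obtain ⟨g, g1, g2⟩ := ih
      rw [ev_cons]
      match y with
      | 0 => exact ⟨_, mul_mem k2 g1, Lm hx g2⟩
      | 1 => exact ⟨_, mul_mem k3 g1, Lm ht g2⟩
      | _ + 2 => exact ⟨_, mul_mem k4 g1, Lm hu g2⟩
  obtain ⟨w, -, hw⟩ := List.mem_map.1 (pA_gen _ (Perm.mem_alternatingGroup.1 (r3.le ⟨⟨h, hh⟩, rfl⟩)))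
  obtain ⟨g, g1, g2⟩ := h1 w
  have h2 : ρ ⟨g, g2.1⟩ = ρ ⟨h, hh⟩ := Perm.ext fun i => by
    obtain ⟨e, he⟩ := r1 ⟨g, g2.1⟩ i
    rw [← hw, evL_eq]
    exact X.uniq Γ (e' := 0) (he.symm.trans (by simpa using g2.2 i))
  have h3 : (⟨g, g2.1⟩ : C1(z))⁻¹ * ⟨h, hh⟩ ∈ ρ.ker := by rw [MonoidHom.mem_ker, map_mul, map_inv, h2, inv_mul_cancel]
  rw [r2] at h3
  simpa using mul_mem g1 (X.le_closure Γ k1 h3)

omit Γ in
theorem gens : ∃ a b c d e x t u, (JP z a b c d e x t u ∨ JM z a b c d e x t u) ∧ d ∈ Q ∧ e ∈ Q ∧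
    ∀ q ∈ Q, q * q = 1 → q = 1 ∨ q = z ∨ ∃ k ∈ C1(z), k * q * k⁻¹ = e := by
  obtain ⟨γ, Γ⟩ := X.exists_gam
  obtain ⟨x, hx, t, ht, u, hu, ax, at', au, x3, xt, tu, xu, uu, tt, top⟩ := X.exists_xtu Γ
  have zd := X.gq Γ (show (3 : Fin 5) ≠ 4 by decide)
  have zd' : ∀ y, y * γ 3 * γ 4 * γ 3 * γ 4 = y * z := fun y => by rw [← zd]; simp only [mul_assoc]
  have r4 : ∀ i j : Fin 5, i ≠ j → γ i * γ j * γ i * γ j * γ 3 * γ 4 * γ 3 * γ 4 = 1 := fun i j h => by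
    rw [zd', X.gq Γ h, X.zz]
  have r3 : ∀ i : Fin 5, i ≠ 3 → γ i * γ 3 * γ i * γ 4 * γ 3 * γ 4 = 1 := fun i h => by
    have := r4 i 3 h
    rwa [mul_assoc (γ i * γ 3 * γ i), Γ.sq, mul_one] at this
  have ac : ∀ {g : G} {π : Perm (Fin 5)}, (∀ i, g * γ i * g⁻¹ = γ (π i)) → ∀ i, g * γ i * g⁻¹ * γ (π i) = 1 :=
    fun h i => by rw [h, Γ.sq]
  have zs : ∀ y, y = z → y * γ 3 * γ 4 * γ 3 * γ 4 = 1 := fun y h => by rw [zd', h, X.zz]
  have q := Γ.sq
  have mem : ∀ i, γ i ∈ C1(z) := fun i => X.nml.le (Γ.mem i)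
  refine ⟨γ 0, γ 1, γ 2, γ 3, γ 4, x, t, u, tt.imp (fun tt => ⟨zd, JTp.rt (allR_iff.1 ?_) ?_ X.cH⟩)
    fun tt => ⟨zd, JTm.rt (allR_iff.1 ?_) ?_ X.cH⟩, Γ.mem 3, Γ.mem 4, fun a ha a2 => ?_⟩
  · have ti : t⁻¹ = t := inv_eq_of_mul_eq_one_right tt
    have ui : u⁻¹ = u := inv_eq_of_mul_eq_one_right (uu.trans tt)
    have at2 := ac at'
    have au2 := ac au
    rw [ti] at at2
    rw [ui] at au2
    exact ⟨q 0, q 1, q 2, q 3, q 4, mul_inv_cancel x, tt, uu.trans tt, Γ.prod, r4 0 1 (by decide), r4 0 2 (by decide),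
      r3 0 (by decide), r4 0 4 (by decide), r4 1 2 (by decide), r3 1 (by decide), r4 1 4 (by decide),
      r3 2 (by decide), r4 2 4 (by decide), r4 3 4 (by decide), x3, xt, xu.trans tt, tu, ac ax 0, ac ax 1, ac ax 2,
      ac ax 3, ac ax 4, at2 0, at2 1, at2 2, at2 3, at2 4, au2 0, au2 1, au2 2, au2 3, au2 4⟩
  · refine le_antisymm ((closure_le _).2 ?_) (top _ (fun i => ?_) (subset_closure ⟨5, by simp, rfl⟩)
      (subset_closure ⟨7, by simp, rfl⟩) (subset_closure ⟨8, by simp, rfl⟩))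
    · rintro _ ⟨i, hi, rfl⟩
      have : i < 9 := hi
      interval_cases i
      exacts [mem 0, mem 1, mem 2, mem 3, mem 4, hx, inv_mem hx, ht, hu]
    · exact subset_closure ⟨i, lt_trans i.2 (by decide), by fin_cases i <;> rfl⟩
  · exact ⟨q 0, q 1, q 2, q 3, q 4, mul_inv_cancel x, mul_inv_cancel t, mul_inv_cancel u, Γ.prod, r4 0 1 (by decide),
      r4 0 2 (by decide), r3 0 (by decide), r4 0 4 (by decide), r4 1 2 (by decide), r3 1 (by decide),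
      r4 1 4 (by decide), r3 2 (by decide), r4 2 4 (by decide), r4 3 4 (by decide), x3, xt,
      zs _ (xu.trans tt), tu, ac ax 0, ac ax 1, ac ax 2,
      ac ax 3, ac ax 4, ac at' 0, ac at' 1, ac at' 2, ac at' 3, ac at' 4, ac au 0, ac au 1, ac au 2, ac au 3, ac au 4,
      zs _ tt, zs _ (uu.trans tt)⟩
  · refine le_antisymm ((closure_le _).2 ?_) (top _ (fun i => ?_) (subset_closure ⟨5, by simp, rfl⟩)
      (subset_closure ⟨7, by simp, rfl⟩) (subset_closure ⟨9, by simp, rfl⟩))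
    · rintro _ ⟨i, hi, rfl⟩
      have : i < 11 := hi
      interval_cases i
      exacts [mem 0, mem 1, mem 2, mem 3, mem 4, hx, inv_mem hx, ht, inv_mem ht, hu, inv_mem hu]
    · exact subset_closure ⟨i, lt_trans i.2 (by decide), by fin_cases i <;> rfl⟩
  have tr : ∀ i, ∃ k ∈ C1(z), k * γ i * k⁻¹ = γ 4 := by
    have h3 : ∃ k ∈ C1(z), k * γ 3 * k⁻¹ = γ 4 := ⟨u, hu, au 3⟩
    have st : ∀ {g i j}, g ∈ C1(z) → g * γ i * g⁻¹ = γ j → (∃ k ∈ C1(z), k * γ j * k⁻¹ = γ 4) →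
        ∃ k ∈ C1(z), k * γ i * k⁻¹ = γ 4 := fun {g i j} hg e ⟨k, hk, e'⟩ =>
      ⟨k * g, mul_mem hk hg, by rw [← e', ← e]; group⟩
    have h2 := st ht (at' 2) h3
    have h1 := st hx (ax 1) h2
    intro i
    fin_cases i
    exacts [st hx (ax 0) h1, h1, h2, h3, ⟨1, one_mem _, by simp⟩]
  rcases X.invol Γ ha a2 with e | e | ⟨i, rfl | rfl⟩
  exacts [.inl e, .inr (.inl e), .inr (.inr (tr i)), .inr (.inr (by
    obtain ⟨k, hk, e⟩ := tr i
    refine ⟨γ 3 * k, mul_mem (mem 3) hk, ?_⟩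
    calc _ = γ 3 * (k * γ i * k⁻¹) * (γ 3)⁻¹ * (γ 3 * k * z * (γ 3 * k)⁻¹) := by group
      _ = _ := by
        rw [e, conj_eq_self_of_C1 (mul_mem (mem 3) hk), X.conj_eq (Γ.mem 3) (Γ.mem 4), Γ.kp, if_neg (by decide),
          ZMod.val_one, pow_one, mul_assoc, X.zz, mul_one]))]

end XS
end H25
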