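import Cfsg.Agent.H25.JH
import Cfsg.Agent.H25.JS
import Cfsg.Agent.H2.FTBase

/-! From the centralizer `C(z) = 2^(1+4).A₅` of a non-isolated involution to the amalgam: the non-split group is
impossible, `z` is fused to `e`, and there is an involution `s` with the relations of `2^(2+4):(3 × S₃)` (`J1`,
`XS.exists_J1`). -/

set_option autoImplicit false

namespace H25
open Subgroup H18 H15

variable {G : Type*} [Group G] {z a b c d e x t u s g h y : G} {Q L : Subgroup G}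

theorem cjc (e : a * b = b * a) (g : G) : g * a * g⁻¹ * (g * b * g⁻¹) = g * b * g⁻¹ * (g * a * g⁻¹) := by
  rw [conj_mul, conj_mul, e]

theorem cj_ne (e : a ≠ 1) (g : G) : g * a * g⁻¹ ≠ 1 := by simpa using e

theorem cj_sq (e : a * a = b) (g : G) : g * a * g⁻¹ * (g * a * g⁻¹) = g * b * g⁻¹ := by rw [conj_mul, e]

theorem cj_sq1 (e : a * a = 1) (g : G) : g * a * g⁻¹ * (g * a * g⁻¹) = 1 := by rw [cj_sq e]; simp

theorem cj_symm (e : g * a * g⁻¹ = b) : g⁻¹ * b * g⁻¹⁻¹ = a := by rw [← e]; group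

theorem cj_comp {k : G} (h1 : g * a * g⁻¹ = b) (h2 : k * b * k⁻¹ = c) : k * g * a * (k * g)⁻¹ = c := by
  rw [← h2, ← h1]; group

theorem cj_fix (e : g * a = a * g) : g * a * g⁻¹ = a := mul_inv_eq_iff_eq_mul.2 e

theorem isC (e : g * a * g⁻¹ = b) : IsConj a b := isConj_iff.2 ⟨g, e⟩

theorem inv_sq (e : a * a = 1) : a⁻¹ = a := inv_eq_of_mul_eq_one_right e

/-- an element interchanging `z` and `e` normalizes `C(z) ∩ C(e)` -/
theorem sw_mem (h1 : g * z * g⁻¹ = e) (h2 : g * e * g⁻¹ = z) (hh : h ∈ C1(z)) (he : h * e = e * h) :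
    g * h * g⁻¹ ∈ C1(z) ∧ g * h * g⁻¹ * e = e * (g * h * g⁻¹) :=
  ⟨mem_C1.2 (h2 ▸ cjc he g), h1 ▸ cjc (mem_C1.1 hh) g⟩

theorem sw_of (h1 : g * z * g⁻¹ = e) {k : G} (hk : k ∈ C1(z)) (h2 : k * (g⁻¹ * z * g⁻¹⁻¹) * k⁻¹ = y) :
    g * k⁻¹ * z * (g * k⁻¹)⁻¹ = e ∧ g * k⁻¹ * y * (g * k⁻¹)⁻¹ = z :=
  ⟨by rw [← h1, mul_assoc g, mem_C1.1 (inv_mem hk)]; group, by rw [← h2]; group⟩

theorem back (h1 : g * z * g⁻¹ = e) (ez : e * z = z * e) (zz : z * z = 1) (z1 : z ≠ 1) (ne : e ≠ z) :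
    g⁻¹ * z * g⁻¹⁻¹ ∈ C1(z) ∧ g⁻¹ * z * g⁻¹⁻¹ * (g⁻¹ * z * g⁻¹⁻¹) = 1 ∧ g⁻¹ * z * g⁻¹⁻¹ ≠ 1 ∧ g⁻¹ * z * g⁻¹⁻¹ ≠ z :=
  ⟨mem_C1.2 (by have := cjc ez.symm g⁻¹; rwa [cj_symm h1] at this), cj_sq1 zz _, cj_ne z1 _,
    fun e' => ne (by rw [← h1]; nth_rw 1 [← e']; group)⟩

theorem XS.syl [Finite G] (X : XS z Q) (hL : C1(z) ≤ L) : ∃ S, Hall {2} S L ∧ S ≤ C1(z) := by
  obtain ⟨S, hS, hQ⟩ := exists_sylow_le Nat.prime_two (Q := Q)
    (by rw [PiGrp, X.cQ]; exact piNat_pow_self Nat.prime_two 5) (X.nml.le.trans hL)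
  refine ⟨S, hS, ?_⟩
  by_contra hn
  have lt : S ⊓ C1(z) < S := lt_of_le_of_ne inf_le_left fun e => hn (e ▸ inf_le_right)
  obtain ⟨n, hn1, hn2⟩ := SetLike.exists_of_lt (hS.pi.nil.lt_norm lt)
  have h1 := conj_mem_N hn1.2 (⟨hQ X.zQ, C1_self⟩ : z ∈ S ⊓ C1(z))
  have h2 : n * z * n⁻¹ ∈ C(Q) := mem_C.2 fun q hq => by
    have := cjc (mem_C1.1 (conj_mem_N' hn1.2 (⟨hQ hq, X.nml.le hq⟩ : q ∈ S ⊓ C1(z))).2) n
    simpa [mul_assoc] using this
  rcases X.of_Z ⟨X.cent ⟨h1.2, h2⟩, h2⟩ with e | e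
  · exact cj_ne X.z1 n e
  · exact hn2 ⟨hn1.1, mem_C1.2 (mul_inv_eq_iff_eq_mul.1 e)⟩

theorem JM.iso (J : JM z a b c d e x t u) (hy : IsConj z y) (hc : y ∈ C1(z)) : y = z := by
  by_contra hn
  obtain ⟨te, tt, ace, acac, tac, zz, ez⟩ := J.ids
  obtain ⟨z1, ze⟩ := J.nes
  obtain ⟨g, rfl⟩ := isConj_iff.1 hy
  obtain ⟨k, -, h | h | h⟩ := J.inv hc (cj_sq1 zz g)
  · exact cj_ne z1 g h
  · exact hn h
  replace h := cj_comp rfl h
  obtain ⟨m1, m2, m3, m4⟩ := back h ez zz z1 ze.symm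
  obtain ⟨k', hk', h' | h' | h'⟩ := J.inv m1 m2
  · exact m3 h'
  · exact m4 h'
  obtain ⟨s1, s2⟩ := sw_of h hk' h'
  generalize k * g * k'⁻¹ = f at s1 s2
  obtain ⟨A1, A2⟩ := sw_mem (h := t) s1 s2 (J.rt.gen_mem 7) te
  obtain ⟨B1, B2⟩ := sw_mem s1 s2 (mul_mem (J.rt.gen_mem 0) (J.rt.gen_mem 2) : a * c ∈ _) (by rw [ace, mul_assoc])
  have A3 := (cj_sq tt f).trans s1
  have B3 := (cj_sq (show a * c * (a * c) = z by rw [← acac]; simp only [mul_assoc]) f).trans s1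
  have AB : f * t * f⁻¹ * (f * (a * c) * f⁻¹) * (f * t * f⁻¹) * (f * (a * c) * f⁻¹) = z := by
    simp only [conj_mul]; rw [← s2, ← tac]; simp only [mul_assoc]
  generalize f * t * f⁻¹ = A, f * (a * c) * f⁻¹ = B at *
  have key : ∀ k ∈ C1(z), k * e = e * k → ∀ A', k * A * k⁻¹ = A' → (∀ h ∈ C1(z), h * e = e * h → h * h = e →
      A' * h * A' * h = 1 ∨ A' * h * A' * h = e) → False := fun k hk ke A' hA H => by
    have e1 : k * e * k⁻¹ = e := by rw [ke, mul_inv_cancel_right]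
    have := H (k * B * k⁻¹) (mul_mem (mul_mem hk B1) (inv_mem hk)) (by have := cjc B2 k; rwa [e1] at this)
      ((cj_sq B3 k).trans e1)
    rw [← hA, conj_mul, conj_mul, conj_mul, AB, conj_eq_self_of_C1 hk] at this
    tauto
  obtain ⟨k, hk, ⟨ke, h⟩ | ⟨ke, h⟩⟩ := J.sq1 A1 A2 A3
  · exact key k hk ke _ h fun h h1 h2 h3 => by simpa only [mul_assoc] using J.sq2 h1 h2 h3
  · exact key k hk ke _ h fun h h1 h2 h3 => by simpa only [mul_assoc] using J.sq3 h1 h2 h3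

/-- letters of the amalgam -/
def gS (d e t u s x : G) : ℕ → G
  | 0 => d | 1 => e | 2 => t | 3 => u | 4 => s | 5 => x | _ => x⁻¹

/-- all words of the list are trivial -/
def Rl (g : ℕ → G) (l : List (List ℕ)) : Prop := ∀ w ∈ l, ev g w = 1

theorem Rl.app {g : ℕ → G} {l l' : List (List ℕ)} (h : Rl g l) (h' : Rl g l') : Rl g (l ++ l') :=
  List.forall_mem_append.2 ⟨h, h'⟩

theorem Rl.add {g : ℕ → G} {l : List (List ℕ)} (h : Rl g l) {w : List ℕ} (h' : evL g w = 1) : Rl g (w :: l) :=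
  List.forall_mem_cons.2 ⟨evL_eq g w ▸ h', h⟩

theorem Rl.sub {g : ℕ → G} {l l' : List (List ℕ)} (h : Rl g l) (hc : l'.all l.contains = true) : Rl g l' :=
  rels_sub h hc

theorem Rl.use {g : ℕ → G} {l rels tg : List (List ℕ)} (h : Rl g l)
    (T : ∀ gen : ℕ → G, (∀ w ∈ rels, ev gen w = 1) → ∀ H : Subgroup G, (∀ w ∈ ([] : List (List ℕ)), ev gen w ∈ H) →
      ∀ w ∈ tg, ev gen w ∈ H) (m : List ℕ) (hc : rels.all (fun w => l.contains (w.map (ren m))) = true) :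
    Rl g (tg.map (List.map (ren m))) := fun w hw => by
  obtain ⟨w, hw', rfl⟩ := List.mem_map.1 hw
  rw [ev_map]
  exact mem_bot.1 (T _ (fun w hw => by rw [← ev_map]; exact rel_ren h hc w hw) ⊥ (by simp) w hw')

/-- relators of `2^(1+4):A₅` -/
def LH : List (List ℕ) := [[0,0],[1,1],[2,2],[3,3],[5,6],[5,5,5],[0,3,1,3],[0,5,0,6],[1,2,1,2],[1,5,1,6],[3,5,3,5],
  [2,3,2,3,2,3],[2,5,2,5,2,5],[0,1,0,1,0,1,0,1],[0,1,0,2,0,1,0,2],[0,1,2,0,6,2,0,5,2,6,0,2,5],[0,1,2,0,1,2,0,2,0,2]]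

/-- relators of `2^(1+4):A₅` and `2^(2+4):(3 × S₃)` -/
def LM : List (List ℕ) := LH ++ [[4,4],[4,5,4,6],[0,4,0,4,0,4],[0,1,0,1,4,1,4],[0,2,0,4,6,2,5,4],[0,2,4,0,2,4,0,2,4]]

/-- the amalgam of `C(z)` and `N(⟨z, e⟩)` -/
structure J1 (z a b c d e x t u s : G) : Prop extends JP z a b c d e x t u where
  syl : ∀ L, C1(z) ≤ L → ∃ S, Hall {2} S L ∧ S ≤ C1(z)
  ss : s * s = 1
  sx : s * x * s⁻¹ = x
  sz : s * z * s⁻¹ = e
  se : s * e * s⁻¹ = z
  st : s * t * s = d * x * t * x⁻¹ * d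
  rel : Rl (gS d e t u s x) LM

namespace JP
variable (J : JP z a b c d e x t u)
include J

theorem relH (s : G) : Rl (gS d e t u s x) LH := allR_iff.1 J.rH

theorem md : d ∈ C1(z) := J.rt.gen_mem 3
theorem me : e ∈ C1(z) := J.rt.gen_mem 4
theorem mx : x ∈ C1(z) := J.rt.gen_mem 5
theorem mt : t ∈ C1(z) := J.rt.gen_mem 7
theorem mu : u ∈ C1(z) := J.rt.gen_mem 8
theorem zz : z * z = 1 := J.ids.1
theorem z1 : z ≠ 1 := J.nes.1
theorem dd : d * d = 1 := J.rH.1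
theorem ee : e * e = 1 := J.rH.2.1
theorem tt : t * t = 1 := J.rH.2.2.1
theorem uu : u * u = 1 := J.rH.2.2.2.1
theorem x3 : x * x * x = 1 := J.rH.2.2.2.2.2.1
theorem xe : x * e = e * x := J.ids.2.1
theorem xd : x * d = d * x := J.ids.2.2.1
theorem te : t * e = e * t := J.ids.2.2.2.1
theorem ez : e * z = z * e := J.ids.2.2.2.2.1
theorem ded : d * e * d⁻¹ = e * z := by rw [inv_sq J.dd]; exact J.ids.2.2.2.2.2.1
theorem dzd : d * z * d⁻¹ = z := conj_eq_self_of_C1 J.md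
theorem ne : e ≠ z := J.nes.2.2.1

theorem fuse [Finite G] (hy : IsConj z y) (hc : y ∈ C1(z)) (hn : y ≠ z) : IsConj z e := by
  by_contra ne
  obtain ⟨z1, e1, -, ez1, ezz, eze, -⟩ := J.nes
  obtain ⟨g, rfl⟩ := isConj_iff.1 hy
  obtain ⟨k, -, h | h | h | h⟩ := J.inv hc (cj_sq1 J.zz g)
  · exact cj_ne z1 g h
  · exact hn h
  · exact ne ((isC rfl).trans (isC h))
  replace h := cj_comp rfl h
  generalize k * g = f at h
  have two : PiGrp {2} (C1(t) ⊓ C1(z) :) := piGrp_of_elt fun w hw =>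
    piElt_of_pow_eq_one Nat.prime_two (by rw [sq]; exact J.ct2 hw.2 (mem_C1.1 hw.1))
  have nrm : C1(t) ⊓ N(C1(t) ⊓ C1(z)) ≤ C1(t) ⊓ C1(z) := fun n hn => ⟨hn.1, by
    have key : ∀ v ∈ C1(t) ⊓ C1(z), v ≠ 1 → IsConj v e → n * v * n⁻¹ = e ∨ n * v * n⁻¹ = e * z := fun v hv v1 ve => by
      have := conj_mem_N hn.2 hv
      obtain ⟨k, -, h' | h' | h' | h' | h'⟩ := J.ct this.2 (mem_C1.1 this.1)
      · exact absurd h' (cj_ne v1 n)
      · exact absurd ((isC h').symm.trans ve) ne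
      · exact .inl h'
      · exact .inr h'
      · exact absurd ((isC h).trans (((isC rfl).trans (isC h')).symm.trans ve)) ne
    have m : e ∈ C1(t) ⊓ C1(z) := ⟨mem_C1.2 J.te.symm, J.me⟩
    have k1 := key e m e1 (IsConj.refl e)
    have k2 := key (e * z) (mul_mem m ⟨mem_C1_comm.1 J.mt, C1_self⟩) ez1 (isC J.ded).symm
    have k3 : n * z * n⁻¹ = n * e * n⁻¹ * (n * (e * z) * n⁻¹) := by rw [conj_mul, ← mul_assoc e, J.ee, one_mul]
    have k4 : n * e * n⁻¹ ≠ n * (e * z) * n⁻¹ := by simpa using z1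
    refine mem_C1.2 (mul_inv_eq_iff_eq_mul.1 ?_)
    rcases k1 with k1 | k1 <;> rcases k2 with k2 | k2
    · exact absurd (k1.trans k2.symm) k4
    · rw [k3, k1, k2, ← mul_assoc, J.ee, one_mul]
    · rw [k3, k1, k2, J.ez, mul_assoc, J.ee, mul_one]
    · exact absurd (k1.trans k2.symm) k4⟩
  have hS : Hall {2} (C1(t) ⊓ C1(z)) C1(t) := H2.sylow_of_norm Nat.prime_two inf_le_left (by
    rw [le_antisymm nrm (le_inf inf_le_left le_N)]; exact hall_self two)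
  have o4 : (f * (d * e) * f⁻¹) ^ 2 ^ 2 = 1 := by
    rw [conj_pow, show (d * e) ^ 2 ^ 2 = 1 by rw [← J.zz, ← J.zd]; simp [pow_succ, mul_assoc]]; simp
  obtain ⟨k, -, hk⟩ := sylow_le_cj Nat.prime_two hS (Q := zpowers (f * (d * e) * f⁻¹))
    (piGrp_zpowers.2 ((piNat_pow_self Nat.prime_two 2).of_dvd (orderOf_dvd_of_pow_eq_one o4))) (zpowers_le.2 (mem_C1.2 (h ▸ cjc (mem_C1.1 (mul_mem J.md J.me)) f)))
  have := hk (conj_mem_cj (mem_zpowers _))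
  have := J.ct2 this.2 (mem_C1.1 this.1)
  rw [conj_mul, conj_mul, ← mul_assoc (d * e), J.zd] at this
  exact cj_ne (cj_ne z1 f) k this

theorem rot {w : G} (h1 : w * z * w⁻¹ = e) (h2 : w * e * w⁻¹ = z * e) :
    w * (z * e) * w⁻¹ = z ∧ w * w * w ∈ C1(z) ∧ w * w * w * e = e * (w * w * w) := by
  have h3 : w * (z * e) * w⁻¹ = z := by rw [← conj_mul, h1, h2, ← mul_assoc, J.ez, mul_assoc, J.ee, mul_one]
  refine ⟨h3, mem_C1.2 (mul_inv_eq_iff_eq_mul.1 ?_), mul_inv_eq_iff_eq_mul.1 ?_⟩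
  · calc _ = w * (w * (w * z * w⁻¹) * w⁻¹) * w⁻¹ := by group
      _ = _ := by rw [h1, h2, h3]
  · calc _ = w * (w * (w * e * w⁻¹) * w⁻¹) * w⁻¹ := by group
      _ = _ := by rw [h2, h3, h1]

theorem rotd (h1 : g * z * g⁻¹ = e) (h2 : g * e * g⁻¹ = z) :
    g * d * z * (g * d)⁻¹ = e ∧ g * d * e * (g * d)⁻¹ = z * e :=
  ⟨cj_comp J.dzd h1, cj_comp J.ded (by rw [← conj_mul, h1, h2])⟩

theorem exists_s (hc : IsConj z e) : ∃ s, s * s = 1 ∧ s * x * s⁻¹ = x ∧ s * z * s⁻¹ = e ∧ s * e * s⁻¹ = z ∧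
    s * d * s * d * s * d = 1 := by
  obtain ⟨z1, e1, ne, ez1, ezz, eze, t1, x1, -, -, -, xX, -⟩ := J.nes
  obtain ⟨g, h⟩ := isConj_iff.1 hc
  obtain ⟨m1, m2, m3, m4⟩ := back h J.ez J.zz z1 ne
  obtain ⟨k, hk, h' | h' | h' | h'⟩ := J.inv m1 m2
  · exact absurd h' m3
  · exact absurd h' m4
  swap
  · obtain ⟨s1, s2⟩ := sw_of h hk h'
    generalize g * k⁻¹ = f at s1 s2
    have := J.ct2 (h := f⁻¹ * x * f⁻¹⁻¹) (mem_C1.2 (cj_symm s1 ▸ cjc J.xe f⁻¹))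
      (cj_symm s2 ▸ cjc (mem_C1.1 J.mx) f⁻¹)
    rw [conj_mul] at this
    have h3 := J.x3
    rw [show x * x = 1 from of_not_not fun h => cj_ne h _ this, one_mul] at h3
    exact absurd h3 x1
  obtain ⟨s1, s2⟩ := sw_of h hk h'
  generalize g * k⁻¹ = f at s1 s2
  obtain ⟨f, s1, s2, s3⟩ : ∃ f, f * z * f⁻¹ = e ∧ f * e * f⁻¹ = z ∧ f * x * f⁻¹ = x := by
    obtain ⟨A1, A2⟩ := sw_mem s1 s2 J.mx J.xe
    have sw : ∀ k ∈ C1(z), k * e = e * k → k * f * z * (k * f)⁻¹ = e ∧ k * f * e * (k * f)⁻¹ = z := fun k hk ke =>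
      ⟨cj_comp s1 (cj_fix ke), cj_comp s2 (conj_eq_self_of_C1 hk)⟩
    obtain ⟨k, hk, h | ⟨ke, h⟩ | ⟨ke, h⟩⟩ := J.ce3 A1 A2 (by rw [conj_mul, conj_mul, J.x3]; simp)
    · exact absurd h (cj_ne x1 f)
    · exact ⟨k * f, (sw k hk ke).1, (sw k hk ke).2, cj_comp rfl h⟩
    obtain ⟨r1, r2⟩ := J.rotd (sw k hk ke).1 (sw k hk ke).2
    obtain ⟨-, r3, r4⟩ := J.rot r1 r2
    have r5 : k * f * d * x * (k * f * d)⁻¹ = x⁻¹ := cj_comp (cj_fix J.xd.symm) (cj_comp rfl h)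
    generalize k * f * d = w at *
    refine (J.cex r3 r4 ?_).elim
    calc _ = w * (w * (w * x * w⁻¹) * w⁻¹) * w⁻¹ := by group
      _ = _ := by rw [r5, ← conj_inv, r5, inv_inv, r5]
  obtain ⟨s, ss, s1, s2, s3⟩ : ∃ f, f * f = 1 ∧ f * z * f⁻¹ = e ∧ f * e * f⁻¹ = z ∧ f * x * f⁻¹ = x := by
    have c3 : ∀ y, f * f * f * y * (f * f * f)⁻¹ = f * (f * (f * y * f⁻¹) * f⁻¹) * f⁻¹ := fun y => by group
    have c2 : ∀ y, f * (f * y * f⁻¹) * f⁻¹ = y → f * f * y = y * (f * f) := fun y h => by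
      nth_rw 2 [← h]; group
    have t1 : f * f * f * z * (f * f * f)⁻¹ = e := by rw [c3, s1, s2, s1]
    have t2 : f * f * f * e * (f * f * f)⁻¹ = z := by rw [c3, s2, s1, s2]
    have t3 : f * f * f * x * (f * f * f)⁻¹ = x := by rw [c3, s3, s3, s3]
    have c6 : f * (f * f * (f * f) * (f * f)) * f⁻¹ = f * f * (f * f) * (f * f) := by group
    have q6 : f * f * f * (f * f * f) = f * f * (f * f) * (f * f) := by group
    rcases J.cxe3 (mem_C1.2 (c2 z (by rw [s1, s2]))) (c2 x (by rw [s3, s3])) (c2 e (by rw [s2, s1])) with h | h | h | h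
    · exact ⟨_, q6.trans h, t1, t2, t3⟩
    · rw [h, s1] at c6; exact absurd c6 ne
    · rw [h, s2] at c6; exact absurd c6.symm ne
    generalize f * f * f = f at *
    refine ⟨f * z, ?_, ?_, ?_, ?_⟩
    · calc _ = f * z * f⁻¹ * (f * f) * z := by group
        _ = _ := by rw [t1, q6, h, ← mul_assoc, J.ee, one_mul, J.zz]
    · exact cj_comp (cj_fix rfl) t1
    · exact cj_comp (cj_fix J.ez.symm) t2
    · exact cj_comp (cj_fix (mem_C1.1 J.mx).symm) t3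
  refine ⟨s, ss, s3, s1, s2, ?_⟩
  obtain ⟨r1, r2⟩ := J.rotd s1 s2
  obtain ⟨r0, r3, r4⟩ := J.rot r1 r2
  have r5 : s * d * x = x * (s * d) := by rw [mul_assoc, ← J.xd, ← mul_assoc, mul_inv_eq_iff_eq_mul.1 s3, mul_assoc]
  have r6 : s * (s * d * (s * d) * (s * d)) * s⁻¹ = (s * d * (s * d) * (s * d))⁻¹ := by
    simp only [mul_inv_rev, inv_sq ss, inv_sq J.dd, ← mul_assoc, ss, one_mul]
  rw [show s * d * s * d * s * d = s * d * (s * d) * (s * d) by simp only [mul_assoc]]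
  generalize s * d = w at *
  have r7 : w * w * w * x = x * (w * w * w) := by
    rw [mul_assoc, r5, mul_assoc w, ← mul_assoc w x, r5, ← mul_assoc, ← mul_assoc, r5]; simp only [mul_assoc]
  have c9 : w * (w * w * w * (w * w * w) * (w * w * w)) * w⁻¹ = w * w * w * (w * w * w) * (w * w * w) := by group
  have r8 := J.cx4 r3 r7
  rcases J.cxe3 r3 r7 r4 with h | h | h | h
  · rw [h, one_mul] at r8
    rcases r8 with h | h | h
    · exact h
    · rw [h, s3] at r6; exact absurd r6 xX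
    · rw [h, ← conj_inv, s3, inv_inv] at r6; exact absurd r6.symm xX
  · rw [h, r1] at c9; exact absurd c9 ne
  · rw [h, r2, ← J.ez] at c9; exact absurd c9 eze
  · rw [h, J.ez, r0, ← J.ez] at c9; exact absurd c9.symm ezz

theorem exists_st (hc : IsConj z e) : ∃ s, s * s = 1 ∧ s * x * s⁻¹ = x ∧ s * z * s⁻¹ = e ∧ s * e * s⁻¹ = z ∧
    s * t * s = d * x * t * x⁻¹ * d ∧ Rl (gS d e t u s x) LM := by
  obtain ⟨s, ss, sx, sz, se, sd⟩ := J.exists_s hc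
  have si := inv_sq ss
  have r0 : Rl (gS d e t u s x) (LH ++ [[4,4],[4,5,4,6],[4,0,1,0,1,4,1],[4,0,4,0,4,0]]) :=
    (J.relH s).app (allR_iff.1 ⟨ss, show s * x * s * x⁻¹ = 1 by rw [si] at sx; rw [sx, mul_inv_cancel],
      show s * d * e * d * e * s * e = 1 by
        rw [si, ← J.zd] at sz; simp only [← mul_assoc] at sz; rw [sz, J.ee], sd⟩)
  have tau : ∀ y ∈ C1(z), y * e = e * y → y * y = 1 → x * y * x * y * x * y = 1 → s * y * s⁻¹ ∈ C1(z) ∧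
      s * y * s⁻¹ * e = e * (s * y * s⁻¹) ∧ s * y * s⁻¹ * (s * y * s⁻¹) = 1 ∧
      x * (s * y * s⁻¹) * x * (s * y * s⁻¹) * x * (s * y * s⁻¹) = 1 := fun y h1 h2 h3 h4 =>
    ⟨(sw_mem sz se h1 h2).1, (sw_mem sz se h1 h2).2, cj_sq1 h3 s, by
      rw [← sx]; simp only [conj_mul]; rw [h4]; simp⟩
  obtain ⟨t1, t2, t3, t4⟩ := tau t J.mt J.te J.tt (by
    have := J.rH.2.2.2.2.2.2.2.2.2.2.2.2.1
    calc _ = t⁻¹ * (t * x * t * x * t * x) * t := by group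
      _ = _ := by rw [this]; simp)
  have h := J.tau t1 t2 t3 t4
  rw [si] at h t3
  have k : ∀ {w}, s * t * s = w → s * t * s * w = 1 := fun h => h ▸ t3
  have zd : ¬ Rl (gS d e t u s x) [[0,1,0,1]] := fun h => J.z1 (J.zd.symm.trans (allR_iff.2 h))
  rcases h with h | h | h | h | h | h | h
  · exact absurd (by rw [si, h]) (cj_ne J.nes.2.2.2.2.2.2.1 s)
  · obtain ⟨-, -, -, -, -, -, -, -, -, -, -, -, -, -, -, i1, i2⟩ := J.ids
    obtain ⟨u1, u2, u3, u4⟩ := tau (d * t * d) (mul_mem (mul_mem J.md J.mt) J.md) (by rw [i1]; simp only [mul_assoc])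
      (by have := cj_sq1 J.tt d; rwa [inv_sq J.dd] at this) (by simpa only [mul_assoc] using i2)
    refine absurd (J.taud u1 u2 u3 u4 ?_) (cj_ne J.nes.2.2.2.2.2.2.2.2.2.2.1 s)
    have e1 : s * d * s = d * s * d := by
      calc _ = (s * d * s * d * s * d) * (d⁻¹ * s⁻¹ * d⁻¹) := by group
        _ = _ := by rw [sd, si, inv_sq J.dd, one_mul]
    have e2 : s * d = d * s * d * s := by rw [← e1, mul_assoc, ss, mul_one]
    calc _ = s * d * t * (d * s * d) := by rw [si]; simp only [mul_assoc]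
      _ = d * s * d * s * t * (s * d * s) := by rw [← e2, e1]
      _ = d * s * d * (s * t * s) * d * s := by simp only [mul_assoc]
      _ = _ := by rw [h, si]; simp only [mul_assoc]
  · exact absurd ((r0.add (w := [4,2,4,5,2,6]) (by have := k h; simp only [← mul_assoc] at this; exact this)).use (fun g => E1.mem g)
      [0,1,2,4,5,6] (by decide +kernel)) zd
  · exact absurd ((r0.add (w := [4,2,4,6,2,5]) (by have := k h; simp only [← mul_assoc] at this; exact this)).use (fun g => E2.mem g)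
      [0,1,2,4,5,6] (by decide +kernel)) zd
  · exact absurd ((r0.add (w := [4,2,4,0,2,0]) (by have := k h; simp only [← mul_assoc] at this; exact this)).use (fun g => E3.mem g)
      [0,1,2,4,5,6] (by decide +kernel)) zd
  · exact absurd ((r0.add (w := [4,2,4,0,6,2,5,0]) (by have := k h; simp only [← mul_assoc] at this; exact this)).use (fun g => E4.mem g)
      [0,1,2,4,5,6] (by decide +kernel)) zd
  · exact ⟨s, ss, sx, sz, se, h, (r0.app ((r0.add (w := [4,2,4,0,5,2,6,0]) (by have := k h; simp only [← mul_assoc] at this; exact this)).use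
      (fun g => EM.mem g) [0,1,2,4,5,6] (by decide +kernel))).sub (by decide +kernel)⟩

end JP

theorem XS.exists_J1 [Finite G] (X : XS z Q) (hy : IsConj z y) (hc : y ∈ C1(z)) (hn : y ≠ z) :
    ∃ a b c d e x t u s, J1 z a b c d e x t u s := by
  obtain ⟨a, b, c, d, e, x, t, u, J | J, -⟩ := X.gens
  · obtain ⟨s, h1, h2, h3, h4, h5, h6⟩ := J.exists_st (J.fuse hy hc hn)
    exact ⟨a, b, c, d, e, x, t, u, s, J, fun _ => X.syl, h1, h2, h3, h4, h5, h6⟩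
  · exact absurd (J.iso hy hc) hn

end H25
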