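import Mathlib.LinearAlgebra.Matrix.Notation
import Mathlib.Data.ZMod.Basic
import Mathlib.GroupTheory.SpecificGroups.Alternating

/-! Finite checks in `A₅`, `A₆` and `GL₃(2)`. -/

set_option synthInstance.maxSize 2000
set_option synthInstance.maxHeartbeats 200000

namespace H25
open Equiv

theorem a5_four : ∀ a : Perm (Fin 5), Perm.sign a = 1 → a ^ 4 = 1 → a ^ 2 = 1 := by decide +kernel

theorem a6_exp : ∀ a : Perm (Fin 6), Perm.sign a = 1 → a ^ 3 = 1 ∨ a ^ 4 = 1 ∨ a ^ 5 = 1 := by decide +kernel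

/-- a matrix as a tuple -/
abbrev T9 := ZMod 2 × ZMod 2 × ZMod 2 × ZMod 2 × ZMod 2 × ZMod 2 × ZMod 2 × ZMod 2 × ZMod 2

/-- product of tuples -/
def t9 : T9 → T9 → T9
  | (a, b, c, d, e, f, g, h, i), (a', b', c', d', e', f', g', h', i') =>
    (a * a' + b * d' + c * g', a * b' + b * e' + c * h', a * c' + b * f' + c * i',
     d * a' + e * d' + f * g', d * b' + e * e' + f * h', d * c' + e * f' + f * i',
     g * a' + h * d' + i * g', g * b' + h * e' + i * h', g * c' + h * f' + i * i')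

/-- entries of a matrix -/
def m9 (A : Matrix (Fin 3) (Fin 3) (ZMod 2)) : T9 := (A 0 0, A 0 1, A 0 2, A 1 0, A 1 1, A 1 2, A 2 0, A 2 1, A 2 2)

theorem m9_mul (A B : Matrix (Fin 3) (Fin 3) (ZMod 2)) : m9 (A * B) = t9 (m9 A) (m9 B) := by
  simp only [m9, t9, Matrix.mul_apply, Fin.sum_univ_three]

theorem m9_one {A : Matrix (Fin 3) (Fin 3) (ZMod 2)} : A = 1 ↔ m9 A = (1, 0, 0, 0, 1, 0, 0, 0, 1) :=
  ⟨fun h => h ▸ rfl, fun h => by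
    simp only [m9, Prod.mk.injEq] at h
    ext i j; fin_cases i <;> fin_cases j <;> simp [h]⟩

/-- the solutions of `A * A = 1` -/
def l9 : List T9 := [(0,0,1,0,1,0,1,0,0), (0,0,1,1,1,1,1,0,0), (0,1,0,1,0,0,0,0,1), (0,1,0,1,0,0,1,1,1), (0,1,1,0,1,0,1,1,0), (0,1,1,1,0,1,0,0,1), (1,0,0,0,0,1,0,1,0), (1,0,0,0,1,0,0,0,1), (1,0,0,0,1,0,0,1,1), (1,0,0,0,1,0,1,0,1), (1,0,0,0,1,0,1,1,1), (1,0,0,0,1,1,0,0,1), (1,0,0,1,0,1,1,1,0), (1,0,0,1,1,0,0,0,1), (1,0,0,1,1,0,1,0,1), (1,0,0,1,1,1,0,0,1), (1,0,1,0,1,0,0,0,1), (1,0,1,0,1,1,0,0,1), (1,1,0,0,1,0,0,0,1), (1,1,0,0,1,0,0,1,1), (1,1,1,0,0,1,0,1,0), (1,1,1,0,1,0,0,0,1)]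

theorem l9_mem : ∀ a b c d e f g h i : ZMod 2, t9 (a, b, c, d, e, f, g, h, i) (a, b, c, d, e, f, g, h, i) =
    (1, 0, 0, 0, 1, 0, 0, 0, 1) → (a, b, c, d, e, f, g, h, i) ∈ l9 := by decide +kernel

theorem l9_prod : ∀ A ∈ l9, ∀ B ∈ l9, t9 (t9 (t9 A B) (t9 A B)) (t9 A B) = (1, 0, 0, 0, 1, 0, 0, 0, 1) ∨
    t9 (t9 (t9 (t9 A B) (t9 A B)) (t9 A B)) (t9 A B) = (1, 0, 0, 0, 1, 0, 0, 0, 1) := by decide +kernel

theorem gl3_inv {A B : Matrix (Fin 3) (Fin 3) (ZMod 2)} (hA : A * A = 1) (hB : B * B = 1) :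
    (A * B) ^ 3 = 1 ∨ (A * B) ^ 4 = 1 := by
  rw [m9_one, m9_mul] at hA hB
  simp only [m9_one, pow_succ, pow_zero, one_mul, m9_mul]
  exact l9_prod _ (l9_mem _ _ _ _ _ _ _ _ _ hA) _ (l9_mem _ _ _ _ _ _ _ _ _ hB)

end H25
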