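import Cfsg.Agent.H25.JC
import Cfsg.Agent.H25.JDec
import Cfsg.Agent.H25.JC1
import Cfsg.Agent.H25.JC2
import Cfsg.Agent.H25.JC3
import Cfsg.Agent.H2.BSWCor
import Cfsg.Agent.S3035

/-! The centralizer of the element `x` of order three in the amalgam `J1` is `3·A₆` (`J1.cx`); the three possible
relations between `x` and `(susud)⁴`: the relators `L2` of `J₂` or the relators `L3` of `3·J₃` hold (`J1.cases`). -/

set_option autoImplicit false

namespace H25
open Subgroup H18 H15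

variable {G : Type*} [Group G] {z a b c d e x t u s g h y : G} {Q L : Subgroup G}

theorem ev_rep (g : ℕ → G) (w : List ℕ) (n : ℕ) : ev g (List.replicate n w).flatten = evL g w ^ n := by
  induction n with
  | zero => simp
  | succ n ih => rw [List.replicate_succ, List.flatten_cons, ev_append, ih, evL_eq, pow_succ']

theorem Rl.addp {g : ℕ → G} {l : List (List ℕ)} (h : Rl g l) (w : List ℕ) (n : ℕ) (h' : evL g w ^ n = 1) :
    Rl g ((List.replicate n w).flatten :: l) := List.forall_mem_cons.2 ⟨ev_rep g w n ▸ h', h⟩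

theorem Rl.pow {g : ℕ → G} {l : List (List ℕ)} (h : Rl g l) (w : List ℕ) (n : ℕ)
    (hc : l.contains (List.replicate n w).flatten = true) : evL g w ^ n = 1 :=
  ev_rep g w n ▸ h _ (List.contains_iff_mem.1 hc)

theorem Rl.get {g : ℕ → G} {l : List (List ℕ)} (h : Rl g l) (w : List ℕ) (hc : l.contains w = true) : evL g w = 1 :=
  evL_eq g w ▸ h _ (List.contains_iff_mem.1 hc)

theorem subs_of {g : ℕ → G} {m : List ℕ} {l : List (List ℕ)} (h : ∀ i ∈ m, g i ∈ L)
    (hc : l.all (·.all m.contains) = true) : ∀ w ∈ l, ev g w ∈ L := fun w hw =>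
  ev_mem fun i hi => h i (List.contains_iff_mem.1 (List.all_eq_true.1 (List.all_eq_true.1 hc w hw) i hi))

theorem JP.subH (J : JP z a b c d e x t u) (s : G) : ∀ i ∈ [0, 1, 2, 3, 5, 6], gS d e t u s x i ∈ C1(z) := by
  simp only [List.forall_mem_cons]
  exact ⟨J.md, J.me, J.mt, J.mu, J.mx, inv_mem J.mx, by simp⟩

theorem eq_one_of_three (x3 : x * x * x = 1) (hy : y ∈ zpowers x) (h : y ^ 4 = 1) : y = 1 := by
  obtain ⟨n, rfl⟩ := hy
  have : (x ^ n) ^ 3 = 1 := by
    rw [← zpow_natCast, ← zpow_mul, mul_comm, zpow_mul, zpow_natCast, pow_three, ← mul_assoc, x3, one_zpow]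
  rwa [pow_succ, this, one_mul] at h

theorem sq_four (h : y * y = 1) : y ^ 4 = 1 := by rw [show 4 = 2 * 2 from rfl, pow_mul, sq y, h, one_pow]

/-- inverse letters -/
def ivS : ℕ → ℕ
  | 0 => 0 | 1 => 1 | 2 => 2 | 3 => 3 | 4 => 4 | 5 => 6 | _ => 5

/-- free reduction -/
def redW (iv : ℕ → ℕ) : List ℕ → List ℕ
  | [] => []
  | x :: w => match redW iv w with
    | [] => [x]
    | y :: r => if y = iv x then r else x :: y :: r

theorem ev_redW {g : ℕ → G} {iv : ℕ → ℕ} (h : ∀ i, g (iv i) = (g i)⁻¹) (w : List ℕ) : ev g (redW iv w) = ev g w := by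
  induction w with
  | nil => rfl
  | cons x w ih =>
    rw [redW, ev_cons, ← ih]
    split
    · next e => rw [e, ev_cons]
    · next y r e =>
      rw [e]
      split_ifs with e'
      · rw [ev_cons, e', h, mul_inv_cancel_left]
      · rw [ev_cons]

/-- relators of `J₂` -/
def L2 : List (List ℕ) := LM ++ [[0,3,4,3,4,1,4,3,4,3], (List.replicate 10 [3,4]).flatten,
  [0,1,4,3,4,0,3,4,3,4,0,5,3,4,3,4,3,4,3,4,3], (List.replicate 7 [1,2,3,4]).flatten]

/-- relators of `3·J₃` -/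
def L3 : List (List ℕ) := LM ++ [[0,3,4,3,4,1,4,3,4,3], [0,1,4,3,4,0,3,4,3,4,0,3,4,3,4,3,4,3,4,3],
  (List.replicate 9 [4,3,2,3]).flatten]

theorem cent_cj {w : G} (hw : w ∈ C1(z)) (e : g * w = w * g) : w * (g * z * g⁻¹) = g * z * g⁻¹ * w := by
  have := cjc (mem_C1.1 hw) g
  rwa [cj_fix e] at this

namespace J1
variable (J : J1 z a b c d e x t u s)
include J

theorem sH : s ∉ C1(z) := fun h => J.ne (J.sz.symm.trans (conj_eq_self_of_C1 h))
theorem uxu : u * x * u⁻¹ = x⁻¹ := by rw [inv_sq J.uu]; exact J.ids.2.2.2.2.2.2.2.1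
theorem ueu : u * e * u⁻¹ = d := by rw [inv_sq J.uu]; exact J.ids.2.2.2.2.2.2.1
theorem kz : z ∈ C1(x) := mem_C1_comm.1 J.mx
theorem kd : d ∈ C1(x) := mem_C1.2 J.xd.symm
theorem ke : e ∈ C1(x) := mem_C1.2 J.xe.symm
theorem ks : s ∈ C1(x) := mem_C1.2 (mul_inv_eq_iff_eq_mul.1 J.sx)
theorem rr : u * s * u * (u * s * u) = 1 := by have := cj_sq1 J.ss u; rwa [inv_sq J.uu] at this
theorem rz : u * s * u * z * (u * s * u)⁻¹ = d := cj_comp (conj_eq_self_of_C1 J.mu) (cj_comp J.sz J.ueu)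
theorem kr : u * s * u ∈ C1(x) := mem_C1.2 (mul_inv_eq_iff_eq_mul.1
  (cj_comp J.uxu (cj_comp (b := x⁻¹) (by rw [← conj_inv, J.sx]) (by rw [← conj_inv, J.uxu, inv_inv]))))

theorem nx : zpowers x ⊴ C1(x) := ⟨zpowers_le.2 C1_self, C1_le_N_zpowers⟩

theorem cx [Finite G] : (s * u * s * u) ^ 5 = 1 ∧ ∃ φ : C1(x) →* alternatingGroup (Fin 6), Function.Surjective φ ∧
    ∀ k, φ k = 1 ↔ (k : G) ∈ zpowers x := by
  have := J.nx.subgroupOf_normal
  let π := QuotientGroup.mk' ((zpowers x).subgroupOf C1(x))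
  have hπ : ∀ k, π k = 1 ↔ (k : G) ∈ zpowers x := fun k => (QuotientGroup.eq_one_iff k).trans mem_subgroupOf
  let Z : C1(x) := ⟨z, J.kz⟩
  let D : C1(x) := ⟨d, J.kd⟩
  let E : C1(x) := ⟨e, J.ke⟩
  let S : C1(x) := ⟨s, J.ks⟩
  let R : C1(x) := ⟨u * s * u, J.kr⟩
  have ZZ : Z * Z = 1 := Subtype.ext J.zz
  have DD : D * D = 1 := Subtype.ext J.dd
  have EE : E * E = 1 := Subtype.ext J.ee
  have SS : S * S = 1 := Subtype.ext J.ss
  have RR : R * R = 1 := Subtype.ext J.rr
  have ZD : (D * E) ^ 2 = Z := Subtype.ext (by rw [sq]; exact (mul_assoc _ _ _).symm.trans J.zd)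
  have Z1 : π Z ≠ 1 := fun h => J.z1 (eq_one_of_three J.x3 ((hπ Z).1 h) (sq_four J.zz))
  have iv : π D * π (D * E) * (π D)⁻¹ = (π (D * E))⁻¹ := by
    rw [← map_inv, ← map_inv, ← map_mul, ← map_mul, ← mul_assoc, DD, one_mul, mul_inv_rev, inv_sq EE]
  have o4 : orderOf (π (D * E)) = 2 ^ (1 + 1) := orderOf_eq_prime_pow (by rw [pow_one, ← map_pow, ZD]; exact Z1)
    (by rw [pow_succ, pow_mul, pow_one, ← map_pow, ZD, ← map_pow, sq, ZZ, map_one])
  have tx : π Z ∈ zpowers (π (D * E)) := by rw [← ZD, map_pow]; exact pow_mem (mem_zpowers _) 2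
  have dih : H2.DihC (π Z) (π (D * E)) (π D) :=
    { ht := H9.orderOf_eq_two.2 ⟨by rw [← map_mul, ZZ, map_one], Z1⟩
      two := by rw [PiElt, o4]; exact piNat_pow_self Nat.prime_two _
      tx := tx
      yy := by rw [← map_mul, DD, map_one]
      yx := fun h => Z1 (by
        rw [cj_fix (mem_C1.1 (C1_le_of_mem_zpowers h C1_self)).symm] at iv
        rw [← ZD, map_pow, sq]; nth_rw 2 [iv]; exact mul_inv_cancel _)
      inv := iv
      cent := fun g hg => by
        obtain ⟨k, rfl⟩ := QuotientGroup.mk'_surjective _ g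
        have h1 : (k : G) * z * (k : G)⁻¹ * z ∈ zpowers x := (hπ (k * Z * k⁻¹ * Z)).1 (by
          rw [map_mul, map_mul, map_mul, map_inv, hg, mul_inv_cancel_right, ← map_mul, ZZ, map_one])
        have h2 : (k : G) ∈ C1(z) := by
          have h3 := mem_C1.1 (zpowers_le.2 J.mx h1)
          have h4 := eq_one_of_three J.x3 h1 (sq_four (by
            rw [mul_assoc _ z, ← h3, mul_assoc _ z z, J.zz, mul_one, cj_sq1 J.zz]))
          rw [mul_eq_one_iff_eq_inv, inv_sq J.zz] at h4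
          exact mem_C1.2 (mul_inv_eq_iff_eq_mul.1 h4)
        have h3 : π k = (π (k * k * k))⁻¹ := eq_inv_of_mul_eq_one_right (by
          rw [← map_mul, hπ]
          change (k : G) * k * k * k ∈ _
          rcases J.cx4 h2 (mem_C1.1 k.2) with h | h | h <;> rw [h]
          exacts [one_mem _, mem_zpowers _, inv_mem (mem_zpowers _)])
        have ed : π (E * D) ∈ zpowers (π (D * E)) := by
          rw [← inv_mem_iff, ← map_inv, mul_inv_rev, inv_sq DD, inv_sq EE]; exact mem_zpowers _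
        change π k ∈ _ ∨ π k * π D ∈ _
        rw [h3, inv_mem_iff]
        rcases J.cx3 h2 (mem_C1.1 k.2) with h | h | h | h | h | h | h | h
        · rw [show k * k * k = 1 from Subtype.ext h, map_one]; exact .inl (one_mem _)
        · rw [show k * k * k = D * E from Subtype.ext h]; exact .inl (mem_zpowers _)
        · rw [show k * k * k = Z from Subtype.ext h]; exact .inl tx
        · rw [show k * k * k = E * D from Subtype.ext h]; exact .inl ed
        · rw [show k * k * k = D from Subtype.ext h, inv_mul_cancel]; exact .inr (one_mem _)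
        · rw [show k * k * k = E from Subtype.ext h, ← map_inv, inv_sq EE, ← map_mul]; exact .inr ed
        · rw [show k * k * k = D * Z from Subtype.ext h, map_mul π D Z, mul_inv_rev, inv_mul_cancel_right]
          exact .inr (inv_mem tx)
        · rw [show k * k * k = E * Z from Subtype.ext h, map_mul π E Z, mul_inv_rev, mul_assoc, ← map_inv π E, inv_sq EE,
            ← map_mul]
          exact .inr (mul_mem (inv_mem tx) ed) }
  have no2 : ∀ M : Subgroup (C1(x) ⧸ (zpowers x).subgroupOf C1(x)), M.index ≠ 2 := fun M hM => by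
    have := normal_of_index_eq_two hM
    have h1 : π Z ∈ M := by rw [← ZD, map_pow]; exact sq_mem_of_index_two hM _
    have h2 : π E ∈ M := by
      rw [show E = S * Z * S⁻¹ from Subtype.ext J.sz.symm, map_mul, map_mul, map_inv]; exact this.conj_mem _ h1 _
    have h3 : π D ∈ M := by
      rw [show D = R * Z * R⁻¹ from Subtype.ext J.rz.symm, map_mul, map_mul, map_inv]; exact this.conj_mem _ h1 _
    have h4 : zpowers (π (D * E)) ≤ M := zpowers_le.2 (map_mul π D E ▸ mul_mem h3 h2)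
    have h5 : C1(π Z) ≤ M := fun g hg => (dih.cent g (mem_C1.1 hg)).elim (h4 ·) fun h =>
      (mul_mem_cancel_right h3).1 (h4 h)
    have h6 := (dih.hall fun e => Z1 (by rw [← ZD, map_pow, sq, e])).idx_of_le h5
    rw [relIndex_top_right, hM] at h6
    exact h6 2 Nat.prime_two dvd_rfl rfl
  have red : ∀ n : ℕ, π (S * R) ^ n = 1 → (s * u * s * u) ^ n = 1 := fun n h => by
    rw [← map_pow, hπ] at h
    replace h : (s * (u * s * u)) ^ n ∈ zpowers x := h
    have h1 := conj_eq_self_of_C1 (C1_le_of_mem_zpowers h J.ks)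
    rw [← conj_pow, ← mul_assoc s s, J.ss, one_mul, show u * s * u * s⁻¹ = (s * (u * s * u))⁻¹ by
      rw [mul_inv_rev, inv_sq J.rr], inv_pow] at h1
    rw [mul_assoc, mul_assoc, ← mul_assoc u]
    exact eq_one_of_three J.x3 h (sq_four (by nth_rw 1 [← h1]; exact inv_mul_cancel _))
  have n3 : π (S * R) ^ 3 ≠ 1 := fun h => J.sH (allM_iff.2 (F3.mem _
    ((J.rel.addp [4,3,4,3] 3 (red 3 h)).sub (by decide +kernel)) C1(z) (subs_of (J.subH s) (by decide +kernel))))
  have n4 : π (S * R) ^ 4 ≠ 1 := fun h => J.sH (allM_iff.2 (F4.mem _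
    ((J.rel.addp [4,3,4,3] 4 (red 4 h)).sub (by decide +kernel)) C1(z) (subs_of (J.subH s) (by decide +kernel))))
  rcases H2.psl_of_eight dih o4 no2 with ⟨⟨φ⟩⟩ | ⟨F, _, _, hF, ⟨φ⟩⟩
  · refine ⟨red 5 ?_, φ.toMonoidHom.comp π, φ.surjective.comp (QuotientGroup.mk'_surjective _), fun k => ?_⟩
    · have := a6_exp (φ (π (S * R))) (Equiv.Perm.mem_alternatingGroup.1 (φ (π (S * R))).2)
      simp only [← Subgroup.coe_pow, OneMemClass.coe_eq_one, ← map_pow φ, map_eq_one_iff φ φ.injective] at this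
      tauto
    · rw [← hπ]; exact map_eq_one_iff φ φ.injective
  · have ψ := (φ.trans (Cfsg.Agent.S0255.result hF (ZMod.card 2)).some).trans Cfsg.Agent.S3035.sl3.some
    have h2 : ∀ k, k * k = 1 → (ψ (π k)).1 * (ψ (π k)).1 = 1 := fun k hk => by
      rw [← Matrix.SpecialLinearGroup.coe_mul, ← map_mul, ← map_mul, hk, map_one, map_one]; rfl
    have := gl3_inv (h2 S SS) (h2 R RR)
    rw [← Matrix.SpecialLinearGroup.coe_mul, ← map_mul, ← map_mul, ← Matrix.SpecialLinearGroup.coe_pow,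
      ← Matrix.SpecialLinearGroup.coe_pow, ← map_pow ψ, ← map_pow ψ] at this
    exact (this.elim (fun h => n3 ((map_eq_one_iff ψ ψ.injective).1 (Subtype.ext h)))
      fun h => n4 ((map_eq_one_iff ψ ψ.injective).1 (Subtype.ext h))).elim

theorem hiv : ∀ i, gS d e t u s x (ivS i) = (gS d e t u s x i)⁻¹
  | 0 => (inv_sq J.dd).symm | 1 => (inv_sq J.ee).symm | 2 => (inv_sq J.tt).symm | 3 => (inv_sq J.uu).symm
  | 4 => (inv_sq J.ss).symm | 5 => rfl | _ + 6 => (inv_inv x).symm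

theorem expo [Finite G] {k : G} (hk : k ∈ C1(x)) : k ^ 180 = 1 := by
  obtain ⟨-, φ, -, h⟩ := J.cx
  have h1 : φ (⟨k, hk⟩ ^ 60) = 1 := by
    rw [map_pow]
    refine Subtype.ext ?_
    rcases a6_exp (φ ⟨k, hk⟩) (Equiv.Perm.mem_alternatingGroup.1 (φ ⟨k, hk⟩).2) with e | e | e
    · exact (pow_mul _ 3 20).trans (by rw [e, one_pow]; rfl)
    · exact (pow_mul _ 4 15).trans (by rw [e, one_pow]; rfl)
    · exact (pow_mul _ 5 12).trans (by rw [e, one_pow]; rfl)
  obtain ⟨n, e⟩ := (h _).1 h1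
  replace e : x ^ n = k ^ 60 := e
  rw [show 180 = 60 * 3 from rfl, pow_mul, ← e, ← zpow_natCast, ← zpow_mul, mul_comm, zpow_mul, zpow_natCast,
    pow_three, ← mul_assoc, J.x3, one_zpow]

theorem pw [Finite G] {n : ℕ} (h1 : g ^ n ∈ C1(z)) (h2 : g ^ n * e = e * g ^ n) (h3 : g ^ n * c = c * g ^ n)
    (h4 : g ∉ C1(z)) : g ^ n = 1 ∨ (g ^ (n * 3) = 1 ∧ g ^ 180 = 1) := by
  have key : ∀ m, g ^ m ≠ z := fun m h => h4 (h ▸ C1_pow_le m C1_self)
  obtain ⟨k, hk, h | h | h | h | h⟩ := J.cce h1 h2 h3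
  · exact .inl h
  · exact absurd h (key _)
  · exact absurd ((pow_add _ _ _).trans h) (key _)
  · exact absurd (by rw [pow_add, pow_add, h]) (key (n + n + n))
  refine .inr ⟨of_not_not fun e => cj_ne e k ?_, of_not_not fun e => cj_ne e k ?_⟩
  · rw [pow_mul, ← conj_pow, h, pow_three, ← mul_assoc, J.x3]
  · rw [← conj_pow]
    exact J.expo (by rw [← h, ← conj_pow]; exact C1_pow_le n C1_self)

theorem cases [Finite G] : Rl (gS d e t u s x) L2 ∨ Rl (gS d e t u s x) L3 := by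
  have r1 := J.rel.addp [4,3,4,3] 5 J.cx.1
  have r2 := r1.use (fun g => FN.mem g) [0,1,3,4] (by decide +kernel)
  have c3 : (s * u * s * u * d) ^ 12 = 1 := r2.pow [4,3,4,3,0] 12 (by decide +kernel)
  have cz : (s * u * s * u * d) ^ 4 ∈ C1(z) := by
    have := r2 (redW ivS ((List.replicate 4 [4,3,4,3,0]).flatten ++ [0,1,0,1] ++
      invW ivS (List.replicate 4 [4,3,4,3,0]).flatten ++ [0,1,0,1])) (by decide +kernel)
    rw [ev_redW J.hiv, ev_append, ev_append, ev_append, ev_invW (fun i _ => J.hiv i), ev_rep, ← evL_eq,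
      show evL (gS d e t u s x) [0,1,0,1] = z from J.zd, mul_eq_one_iff_eq_inv, inv_sq J.zz] at this
    exact mem_C1.2 (mul_inv_eq_iff_eq_mul.1 this)
  have cx : (s * u * s * u * d) ^ 4 ∈ C1(x) := pow_mem (mul_mem (by
    rw [mul_assoc, mul_assoc, ← mul_assoc u]; exact mul_mem J.ks J.kr) J.kd) 4
  have h := J.cx4 cz (mem_C1.1 cx)
  rw [← pow_add, ← pow_add, c3, one_mul] at h
  obtain ⟨-, -, -, -, -, -, -, -, tdt, ucu, ece, udu, -⟩ := J.ids
  rw [← inv_sq J.tt] at tdt
  rw [← inv_sq J.uu] at ucu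
  rw [← inv_sq J.ee] at ece
  nth_rw 1 [inv_sq J.tt] at tdt
  nth_rw 1 [inv_sq J.uu] at ucu
  nth_rw 1 [inv_sq J.ee] at ece
  have tet := cj_fix J.te
  have ap : ∀ w : List ℕ, (s * u * s * u * d) ^ 4 * evL (gS d e t u s x) w = 1 →
      Rl (gS d e t u s x) [(List.replicate 4 [4,3,4,3,0]).flatten ++ w] := fun w h =>
    List.forall_mem_singleton.2 (by rw [ev_append, ev_rep, ← evL_eq]; exact h)
  rcases h with h | h | h
  · have r3 := r1.app ((r1.app (ap [] (by rw [h]; exact mul_one 1))).use (fun g => FN0.mem g) [0,1,3,4,5,6]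
      (by decide +kernel))
    have h1 : (s * u * t * u) ^ 9 ∈ C1(z) := ev_rep (gS d e t u s x) [4,3,2,3] 9 ▸ JC3.mem _
      (r3.sub (by decide +kernel)) C1(z) (subs_of (J.subH s) (by decide +kernel)) _ (by decide +kernel)
    have m : u * t * u ∈ C1(z) := mul_mem (mul_mem J.mu J.mt) J.mu
    have h2 : s * u * t * u * z * (s * u * t * u)⁻¹ = e := by
      rw [mul_assoc s, mul_assoc s]; exact cj_comp (conj_eq_self_of_C1 m) J.sz
    have h3 : (s * u * t * u)⁻¹ * z * (s * u * t * u)⁻¹⁻¹ = c := by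
      rw [show (s * u * t * u)⁻¹ = u * t * u * s by
        simp only [mul_inv_rev, inv_sq J.ss, inv_sq J.uu, inv_sq J.tt, mul_assoc]]
      exact cj_comp J.sz (cj_comp J.ueu (cj_comp tdt ucu))
    have h4 := J.pw h1 (h2 ▸ cent_cj h1 (Commute.self_pow _ 9)) (h3 ▸ cent_cj h1 (Commute.self_pow _ 9).inv_left)
      fun h => J.ne (h2.symm.trans (conj_eq_self_of_C1 h))
    refine .inr ((r3.addp [4,3,2,3] 9 (h4.elim id fun h => ?_)).sub (by decide +kernel))
    exact pow_gcd_eq_one.2 h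
  · have r3 := r1.app ((r1.app (ap [5,5] (by rw [h]; exact (mul_assoc _ _ _).symm.trans J.x3))).use
      (fun g => FN2.mem g) [0,1,3,4,5,6] (by decide +kernel))
    have h1 : (e * t * u * s) ^ 7 ∈ C1(z) := ev_rep (gS d e t u s x) [1,2,3,4] 7 ▸ JC2.mem _
      (r3.sub (by decide +kernel)) C1(z) (subs_of (J.subH s) (by decide +kernel)) _ (by decide +kernel)
    have m : e * t * u ∈ C1(z) := mul_mem (mul_mem J.me J.mt) J.mu
    have h2 : e * t * u * s * z * (e * t * u * s)⁻¹ = c * z := cj_comp J.sz (cj_comp J.ueu (cj_comp tdt ece))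
    have h3 : (e * t * u * s)⁻¹ * z * (e * t * u * s)⁻¹⁻¹ = e := by
      rw [mul_inv_rev, inv_sq J.ss]; exact cj_comp (conj_eq_self_of_C1 (inv_mem m)) J.sz
    have h5 : e * t * u * s ∉ C1(z) := fun h => J.sH ((mul_mem_cancel_left m).1 h)
    have h4 := J.pw h1 (by have := cent_cj h1 (Commute.self_pow _ 7).inv_left; rwa [h3] at this) (by
      have := cent_cj h1 (Commute.self_pow _ 7)
      rwa [h2, mul_assoc c, ← mem_C1.1 h1, ← mul_assoc, ← mul_assoc, mul_left_inj] at this) h5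
    refine .inl ((r3.addp [1,2,3,4] 7 (h4.elim id fun h => (h5 ?_).elim)).sub (by decide +kernel))
    rwa [pow_succ, show 6 = 3 * 2 from rfl, pow_mul, show _ ^ 3 = (1 : G) from pow_gcd_eq_one.2 h, one_pow,
      one_mul] at h1
  · have r3 := r1.app ((r1.app (ap [5] (by rw [h]; exact inv_mul_cancel x))).use (fun g => FN1.mem g) [0,1,3,4,5,6]
      (by decide +kernel))
    have h1 : t ∈ N(zpowers x) := allM_iff.2 (JC1.mem _ (r3.sub (by decide +kernel)) N(zpowers x)
      (subs_of (m := [0,1,3,4,5]) (by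
        simp only [List.forall_mem_cons]
        exact ⟨J.nx.norm J.kd, J.nx.norm J.ke, mem_N_of_cj_le (by
          rw [cj_zpowers]; exact zpowers_le.2 (J.uxu ▸ inv_mem (mem_zpowers x))), J.nx.norm J.ks, J.nx.norm C1_self,
          by simp⟩) (by decide +kernel)))
    have h2 := conj_mem_N h1 (mem_zpowers x)
    have h3 := J.cx4 (zpowers_le.2 J.mx h2) (mem_C1.1 (J.nx.le h2))
    rw [conj_mul, conj_mul, J.x3, mul_one, mul_inv_cancel, one_mul] at h3
    obtain ⟨-, -, -, -, -, -, -, x1, n1, n2, -⟩ := J.nes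
    rw [← inv_sq J.tt] at n1 n2
    nth_rw 1 [inv_sq J.tt] at n1 n2
    exact (h3.elim (cj_ne x1 t) fun h => h.elim n1 n2).elim

end J1
end H25
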