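import Cfsg.Agent.H25.JH

/-! More identities and solutions of equations in `2^(1+4):A₅`. -/

set_option autoImplicit false
set_option maxRecDepth 8000

namespace H25
open Subgroup H18 H15

variable {G : Type*} [Group G] {z a b c d e x t u : G}

namespace JP
variable (J : JP z a b c d e x t u)
include J

theorem ids2 :
    a = x * t * d * t * x⁻¹ ∧
    b = x⁻¹ * t * d * t * x ∧
    c = t * d * t ∧
    t * x * t * x⁻¹ = x * t * x⁻¹ * t ∧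
    t * u * x * t * u * x * t * u * x * t * u * x * t * u * x = 1 ∧
    x * x * t * x⁻¹ * x⁻¹ = t * x * t * x⁻¹ ∧
    x * t * x * t * x⁻¹ * x⁻¹ = t :=
  J.rt.ct.eqs (l := [([0],[5,7,3,7,6]), ([1],[6,7,3,7,5]), ([2],[7,3,7]), ([7,5,7,6],[5,7,6,7]), ([7,8,5,7,8,5,7,8,5,7,8,5,7,8,5],[]), ([5,5,7,6,6],[7,5,7,6]), ([5,7,5,7,6,6],[7])]) (by decide +kernel)

theorem nes2 :
    t * u * x ≠ 1 ∧
    x * t * x⁻¹ ≠ t ∧
    d * e ≠ e * d ∧
    x * t ≠ t * x ∧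
    x⁻¹ * t ≠ t * x⁻¹ :=
  J.rt.nes (l := [([7,8,5],[]), ([5,7,6],[7]), ([3,4],[4,3]), ([5,7],[7,5]), ([6,7],[7,6])]) (by decide +kernel)

theorem ctv {h : G} (hh : h ∈ C1(z)) (h1 : h * t = t * h) :
    h * x * h * x⁻¹ * x⁻¹ * h * x = 1 ∨
    h * x * h * x⁻¹ * x⁻¹ * h * x = e ∨
    h * x * h * x⁻¹ * x⁻¹ * h * x = z ∨
    h * x * h * x⁻¹ * x⁻¹ * h * x = e * z := by
  have key : h * x * h * x⁻¹ * x⁻¹ * h * x = 1 ∨
    h * x * h * x⁻¹ * x⁻¹ * h * x = e ∨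
    h * x * h * x⁻¹ * x⁻¹ * h * x = d * e * d * e ∨
    h * x * h * x⁻¹ * x⁻¹ * h * x = e * d * e * d * e :=
    (J.rt.solve (wt := fun _ => 0) (d := 11)
    (hyps := [([0,11],[11,0])])
    (concl := [[([0,9,0,10,10,0,9],[])], [([0,9,0,10,10,0,9],[8])], [([0,9,0,10,10,0,9],[7,8,7,8])], [([0,9,0,10,10,0,9],[8,7,8,7,8])]])
    (by decide +kernel) hh h1).elim fun _ e => e.2
  obtain rfl := J.zd
  simpa only [mul_assoc] using key

theorem ctw {h : G} (hh : h ∈ C1(z)) (h1 : h * t = t * h) :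
    h * x * h * x⁻¹ * x⁻¹ * h * x * h = 1 ∨
    h * x * h * x⁻¹ * x⁻¹ * h * x * h = t ∨
    h * x * h * x⁻¹ * x⁻¹ * h * x * h = x * t * x⁻¹ ∨
    h * x * h * x⁻¹ * x⁻¹ * h * x * h = t * x * t * x⁻¹ :=
  (J.rt.solve (wt := fun _ => 0) (d := 11)
    (hyps := [([0,11],[11,0])])
    (concl := [[([0,9,0,10,10,0,9,0],[])], [([0,9,0,10,10,0,9,0],[11])], [([0,9,0,10,10,0,9,0],[9,11,10])], [([0,9,0,10,10,0,9,0],[11,9,11,10])]])
    (by decide +kernel) hh h1).elim fun _ e => e.2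

end JP
end H25
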