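import Cfsg.Agent.H25.JA

/-! Small coset enumeration certificates: order of 2^(1+4):A5 and a maximality check in J2. -/
set_option maxRecDepth 8000
set_option Elab.async false
namespace H25.G1
open H15 H15.TC

noncomputable def tT : BT := (.node (nat_lit 1) (.leaf (nat_lit 0xd44960005e0000053b038800000ba000008c06800000780005c684420005b58000004433400000b4000002041202959252a9000000002c81b366cd9))
 (.leaf (nat_lit 0x0))
)
noncomputable def tP : BT := (.node (nat_lit 1) (.leaf (nat_lit 0x846400000004201000000000004211847c00000000000840200000000000848e0000000000084860000000420184ae0000000420184a60000000000084da0000000000084020000000000084ec000210e420184e508a6110800000000002107429484170822102c202))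
 (.leaf (nat_lit 0x0))
)
noncomputable def tS : BT := (.node (nat_lit 1) (.leaf (nat_lit 0x1c0108000204008000c0004000100420000c0004000100020000c0004000100420000c0004000100020000c0004000100420000c0004000100020000c00040001004200070680800070061800080c020004008380010000609010001804100186008400018001000060004000180410018600840001800100006000400018041001860084000a0c008000e01430001018040286000000a180410018600840000800100006000400050b80c00060187000101c08000801c700020000c120201c000618021000060004000080210000600040001800285c04008600420000000040000000200014000e280600420000400000001000000010000c2606004200118000800031101007100306014000820030c0108003f00020000c00124008001f800047c04003f00008f008007e00011d01000fc00023802001f800046c040000))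
 (.leaf (nat_lit 0x0))
)
def rels : List (List ℕ) := [[nat_lit 0,nat_lit 0],
  [nat_lit 1,nat_lit 1],
  [nat_lit 2,nat_lit 2],
  [nat_lit 3,nat_lit 3],
  [nat_lit 4,nat_lit 4],
  [nat_lit 5,nat_lit 6],
  [nat_lit 5,nat_lit 5,nat_lit 5],
  [nat_lit 0,nat_lit 3,nat_lit 1,nat_lit 3],
  [nat_lit 0,nat_lit 5,nat_lit 0,nat_lit 6],
  [nat_lit 1,nat_lit 2,nat_lit 1,nat_lit 2],
  [nat_lit 1,nat_lit 5,nat_lit 1,nat_lit 6],
  [nat_lit 3,nat_lit 5,nat_lit 3,nat_lit 5],
  [nat_lit 2,nat_lit 3,nat_lit 2,nat_lit 3,nat_lit 2,nat_lit 3],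
  [nat_lit 2,nat_lit 5,nat_lit 2,nat_lit 5,nat_lit 2,nat_lit 5],
  [nat_lit 0,nat_lit 1,nat_lit 0,nat_lit 1,nat_lit 0,nat_lit 1,nat_lit 0,nat_lit 1],
  [nat_lit 0,nat_lit 1,nat_lit 0,nat_lit 2,nat_lit 0,nat_lit 1,nat_lit 0,nat_lit 2],
  [nat_lit 0,nat_lit 1,nat_lit 2,nat_lit 0,nat_lit 6,nat_lit 2,nat_lit 0,nat_lit 5,nat_lit 2,nat_lit 6,nat_lit 0,nat_lit 2,nat_lit 5],
  [nat_lit 4,nat_lit 5,nat_lit 4,nat_lit 6],
  [nat_lit 0,nat_lit 4,nat_lit 0,nat_lit 4,nat_lit 0,nat_lit 4],
  [nat_lit 0,nat_lit 1,nat_lit 0,nat_lit 1,nat_lit 4,nat_lit 1,nat_lit 4],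
  [nat_lit 0,nat_lit 2,nat_lit 0,nat_lit 4,nat_lit 6,nat_lit 2,nat_lit 5,nat_lit 4],
  [nat_lit 0,nat_lit 2,nat_lit 4,nat_lit 0,nat_lit 2,nat_lit 4,nat_lit 0,nat_lit 2,nat_lit 4],
  [nat_lit 0,nat_lit 1,nat_lit 2,nat_lit 0,nat_lit 1,nat_lit 2,nat_lit 0,nat_lit 2,nat_lit 0,nat_lit 2],
  [nat_lit 0,nat_lit 3,nat_lit 4,nat_lit 3,nat_lit 4,nat_lit 1,nat_lit 4,nat_lit 3,nat_lit 4,nat_lit 3],
  [nat_lit 3,nat_lit 4,nat_lit 3,nat_lit 4,nat_lit 3,nat_lit 4,nat_lit 3,nat_lit 4,nat_lit 3,nat_lit 4,nat_lit 3,nat_lit 4,nat_lit 3,nat_lit 4,nat_lit 3,nat_lit 4,nat_lit 3,nat_lit 4,nat_lit 3,nat_lit 4],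
  [nat_lit 0,nat_lit 1,nat_lit 4,nat_lit 3,nat_lit 4,nat_lit 0,nat_lit 3,nat_lit 4,nat_lit 3,nat_lit 4,nat_lit 0,nat_lit 5,nat_lit 3,nat_lit 4,nat_lit 3,nat_lit 4,nat_lit 3,nat_lit 4,nat_lit 3,nat_lit 4,nat_lit 3],
  [nat_lit 1,nat_lit 2,nat_lit 3,nat_lit 4,nat_lit 1,nat_lit 2,nat_lit 3,nat_lit 4,nat_lit 1,nat_lit 2,nat_lit 3,nat_lit 4,nat_lit 1,nat_lit 2,nat_lit 3,nat_lit 4,nat_lit 1,nat_lit 2,nat_lit 3,nat_lit 4,nat_lit 1,nat_lit 2,nat_lit 3,nat_lit 4,nat_lit 1,nat_lit 2,nat_lit 3,nat_lit 4]]
def subs : List (List ℕ) := [[nat_lit 0],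
  [nat_lit 1],
  [nat_lit 2],
  [nat_lit 3],
  [nat_lit 5],
  [nat_lit 4,nat_lit 3,nat_lit 4,nat_lit 0,nat_lit 3,nat_lit 4,nat_lit 0,nat_lit 3,nat_lit 4]]
def tgts : List (List ℕ) := [[nat_lit 4]]
noncomputable def row (v : ℕ) : ℕ := mkRow (BT.get tT) (nat_lit 32) (nat_lit 68) (nat_lit 0x100000000000000000) v
noncomputable def DC (c r : ℕ) : List ℕ := ruleC (nat_lit 0xfc00000000000000000000000000000000000000000000000000000000000000000000000000000000001c51840c2040) (nat_lit 68) rels c r
noncomputable def D1 (r : ℕ) : List ℕ := rule (nat_lit 0xfc00000000000000000000000000000000000000000000000000000000000000000000000000000000001c51840c2040) (rels ++ subs.map (List.cons 63)) r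
noncomputable def chk (v : ℕ) : Bool := chkRow row (nat_lit 7) (nat_lit 128) (nat_lit 8) (nat_lit 0xfc00000000000000000000000000000000000000000000000000000000000000000000000000000000001c51840c2040) (nat_lit 7) (nat_lit 0) (nat_lit 7) (nat_lit 17) (nat_lit 131072) (nat_lit 16896) (nat_lit 56) (nat_lit 15) (nat_lit 32768) DC D1 [nat_lit 0,nat_lit 1,nat_lit 2,nat_lit 3,nat_lit 4,nat_lit 5,nat_lit 6]
  (mkRow (BT.get tP) (nat_lit 32) (nat_lit 120) (nat_lit 0x1000000000000000000000000000000) v) (Nat.rec 0 (fun j _ => BT.get tS j) (Nat.succ (Nat.div v (nat_lit 32)))) (Nat.succ v)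
theorem c0 : allB chk 11 0 = true := by decide +kernel
theorem g0 : ∀ i < 1, allB chk 11 (0 + i) = true := (fl (c := 0) fl0 c0)
theorem call : ∀ i < 1, allB chk 11 i = true := (fl_add (a := 0) (b := 1) fl0 g0)
theorem sd : side (row 0) (nat_lit 68) (nat_lit 0x100000000000000000) (nat_lit 7) (nat_lit 8) (nat_lit 0xfc00000000000000000000000000000000000000000000000000000000000000000000000000000000001c51840c2040) (nat_lit 7) (nat_lit 0) (nat_lit 7) (nat_lit 56) 11 1 rels subs [nat_lit 0,nat_lit 1,nat_lit 2,nat_lit 3,nat_lit 4,nat_lit 5,nat_lit 6] = true := by decide +kernel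
theorem tc : tgts.all (fun w => w.all (fun x => decide (x < (nat_lit 7))) && Nat.beq (walk row (nat_lit 7) (nat_lit 128) (nat_lit 8) 0 w 1) 1) = true := by decide +kernel
theorem mem {G : Type*} [Group G] (gen : ℕ → G) (hrel : ∀ w ∈ rels, ev gen w = 1) (H : Subgroup G)
    (hsub : ∀ w ∈ subs, ev gen w ∈ H) : ∀ w ∈ tgts, ev gen w ∈ H := fun w hw =>
  TC.mem (final (fun _ => rfl) (fun _ _ => rfl) (fun _ => rfl) (fun _ h => ⟨_, _, h⟩) sd call hrel hsub) (List.all_eq_true.1 tc w hw)


end H25.G1

namespace H25.B1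
open H15 H15.TC

noncomputable def tT : BT := (.node (nat_lit 1) (.leaf (nat_lit 0x7d30800065850a95ea31d1c6f20280073cf45c90e56ac87dd404000f45afb93542b850f3880400111427738f45701596cf08004264c6d75e81d884ad1c2800734f3d6d355636a6d9384000f3dada9b726c694d30684001ac2e4630f393199d5cc0800424632b65e699c244b141800620c31e5c2361cb5d5243000c85ca3ca844c7d4b2840a001c53c96c2c6d2ab934c80c00356842f26103914a890e2800724f21af35a4a6d5511c4000f21a9b5f592949c5203860020fc1e791075aa2513c60c0034c5aef1e0e24d52070a100083706987bc669eb3cd085000e35e1b84832b5d8718108001e1b4e68b0610830d2c204002d7620e19a63c3618512100070cc1e0bbca616c109204000f25aac16816b29a9103800020ac0a828a4944bc81c60800413825045e3a8881230a2800696f1a0840858eb14504000101da5b4c81ee19e1081840018238261af1182a870c110003c268ad3a02ac4696102180081d035e1383818d0c1002000d1602403782e0a0300000001e0c0180300a00c01))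
 (.node (nat_lit 2) (.leaf (nat_lit 0x9df10003e00ca0a0f3aa71cd33820007ba889931a84d059256c500098dee2e744c5905448d80000140a05c047c913dc8d714003197b0b917212624f12c1000538899d13d7532482154200079d2eb637ac394ac40988001ea35672a9798f221))
 (.leaf (nat_lit 0x0))
))
noncomputable def tP : BT := (.node (nat_lit 1) (.leaf (nat_lit 0x8020000601100500300040002c0880154084014804e01000080220054035804201380c00020080005808401080400100000002004601100500300000002c0880154099024804e0100008022004601600d203380c000640c80158084010804c010000000200460110042010004000540d4021804000300cc0100008025008601000020130040002c0880118044014804e01000080200006010000c0330040002c088011804401480400100008022004601600d203380c000000000018040000804c01000150320046010000c03300400000000005808401400cc010000b022005502000020138040002008801500c0000804e0300008022004c044008201300400078288010000401480c001000080220040000001003000400000000000000401480400100000000000000100500300000002c0c8010000000480ce03000000020046010001c0600040002009804180440148040010000802280c6010001003380c000000000018056030000c010000802000000010050030000000200a80ba020000a016802))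
 (.node (nat_lit 2) (.leaf (nat_lit 0x8022809403600d203380c0002008a02500c4010804e030000b022004601640920100040002008e023009c0470080010000b02200550264082010004000640c8015808401400dc05000080260086011004201781c0002008a02500c401480ce03))
 (.leaf (nat_lit 0x0))
))
noncomputable def tS : BT := (.node (nat_lit 1) (.leaf (nat_lit 0x3f000089808007e00011201000fc00022202001f8000440040000))
 (.node (nat_lit 2) (.leaf (nat_lit 0x0))
 (.leaf (nat_lit 0x0))
))
def rels : List (List ℕ) := [[nat_lit 0,nat_lit 0],
  [nat_lit 1,nat_lit 1],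
  [nat_lit 2,nat_lit 2],
  [nat_lit 3,nat_lit 3],
  [nat_lit 4,nat_lit 5],
  [nat_lit 4,nat_lit 4,nat_lit 4],
  [nat_lit 0,nat_lit 3,nat_lit 1,nat_lit 3],
  [nat_lit 0,nat_lit 4,nat_lit 0,nat_lit 5],
  [nat_lit 1,nat_lit 2,nat_lit 1,nat_lit 2],
  [nat_lit 1,nat_lit 4,nat_lit 1,nat_lit 5],
  [nat_lit 3,nat_lit 4,nat_lit 3,nat_lit 4],
  [nat_lit 2,nat_lit 3,nat_lit 2,nat_lit 3,nat_lit 2,nat_lit 3],
  [nat_lit 2,nat_lit 4,nat_lit 2,nat_lit 4,nat_lit 2,nat_lit 4],
  [nat_lit 0,nat_lit 1,nat_lit 0,nat_lit 1,nat_lit 0,nat_lit 1,nat_lit 0,nat_lit 1],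
  [nat_lit 0,nat_lit 1,nat_lit 0,nat_lit 2,nat_lit 0,nat_lit 1,nat_lit 0,nat_lit 2],
  [nat_lit 0,nat_lit 1,nat_lit 2,nat_lit 0,nat_lit 5,nat_lit 2,nat_lit 0,nat_lit 4,nat_lit 2,nat_lit 5,nat_lit 0,nat_lit 2,nat_lit 4]]
def subs : List (List ℕ) := [[nat_lit 0],
  [nat_lit 1],
  [nat_lit 3],
  [nat_lit 4]]
noncomputable def row (v : ℕ) : ℕ := mkRow (BT.get tT) (nat_lit 32) (nat_lit 95) (nat_lit 0x800000000000000000000000) v
noncomputable def DC (c r : ℕ) : List ℕ := ruleC (nat_lit 0xfc00000000000000000000000000000000000000000000000000000000000000000000000000000000000061050c2040) (nat_lit 95) rels c r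
noncomputable def D1 (r : ℕ) : List ℕ := rule (nat_lit 0xfc00000000000000000000000000000000000000000000000000000000000000000000000000000000000061050c2040) (rels ++ subs.map (List.cons 63)) r
noncomputable def chk (v : ℕ) : Bool := chkRow row (nat_lit 11) (nat_lit 2048) (nat_lit 64) (nat_lit 0xfc00000000000000000000000000000000000000000000000000000000000000000000000000000000000061050c2040) (nat_lit 6) (nat_lit 40) (nat_lit 40) (nat_lit 17) (nat_lit 131072) (nat_lit 10240) (nat_lit 77) (nat_lit 14) (nat_lit 16384) DC D1 [nat_lit 0,nat_lit 1,nat_lit 2,nat_lit 3,nat_lit 4,nat_lit 5]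
  (mkRow (BT.get tP) (nat_lit 32) (nat_lit 98) (nat_lit 0x4000000000000000000000000) v) (Nat.rec 0 (fun j _ => BT.get tS j) (Nat.succ (Nat.div v (nat_lit 32)))) (Nat.succ v)
theorem c0 : allB chk 11 0 = true := by decide +kernel
theorem g0 : ∀ i < 1, allB chk 11 (0 + i) = true := (fl (c := 0) fl0 c0)
theorem call : ∀ i < 1, allB chk 11 i = true := (fl_add (a := 0) (b := 1) fl0 g0)
theorem sd : side (row 0) (nat_lit 95) (nat_lit 0x800000000000000000000000) (nat_lit 11) (nat_lit 64) (nat_lit 0xfc00000000000000000000000000000000000000000000000000000000000000000000000000000000000061050c2040) (nat_lit 6) (nat_lit 40) (nat_lit 40) (nat_lit 77) 11 1 rels subs [nat_lit 0,nat_lit 1,nat_lit 2,nat_lit 3,nat_lit 4,nat_lit 5] = true := by decide +kernel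
theorem idx {G : Type*} [Group G] (gen : ℕ → G) (hrel : ∀ w ∈ rels, ev gen w = 1) (H : Subgroup G)
    (hsub : ∀ w ∈ subs, ev gen w ∈ H) :
    H.relIndex (Subgroup.closure (gen '' Set.Iio 6)) ≠ 0 ∧ H.relIndex (Subgroup.closure (gen '' Set.Iio 6)) ≤ 40 :=
  TC.idx (by decide) (final (fun _ => rfl) (fun _ _ => rfl) (fun _ => rfl) (fun _ h => ⟨_, _, h⟩) sd call hrel hsub)
noncomputable def wk : List ℕ → ℕ → ℕ := walk row (nat_lit 11) (nat_lit 2048) (nat_lit 64) 0
theorem ct {G : Type*} [Group G] (gen : ℕ → G) (hrel : ∀ w ∈ rels, ev gen w = 1) (H : Subgroup G)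
    (hsub : ∀ w ∈ subs, ev gen w ∈ H) : CT H gen 6 40 wk :=
  ct_of (by decide) (final (fun _ => rfl) (fun _ _ => rfl) (fun _ => rfl) (fun _ h => ⟨_, _, h⟩) sd call hrel hsub)

end H25.B1

namespace H25.B2
open H15 H15.TC

noncomputable def tT : BT := (.node (nat_lit 1) (.leaf (nat_lit 0x7cc0c00735615b99d58de3020022e8b5cd5899c74b1000675cc5ad6166dc2c3001cc5796c581576cb08008b22b7315457da2840015772ce76415e6490000544d944a2a72982020009a645c95a5135c8000053ce68a4e372561c10018b46ce87211d5461000655c7621135a14183001c755990429674c600008a22762d1c71d20c40018a71185358d94421000625c336986399008200159469c3395843c11000621c25555b618e34100226462257398334c00008922388a0f734c2c1002218821f7320e2ca000087a1d8720d72ca0410021b55d5470a0c2430c0071153618d58688083001c354a19616181c10c007095055a17614604200216855c2612141440c00715c1529525404003001c181953525480c0080084e0a70547544200100212826117054f04000008420881e0b7040000001868160480e02))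
 (.node (nat_lit 2) (.leaf (nat_lit 0xbe110006bde268d2e2a6e843001e25c1a44b4aab5e10006b5df680f04b2c783001df5b9a13bd2badb10006addc674e83baa6c3001dc5b19e39ceda59040039469299da1be85c20002a395d8664709d3100069dd445cac65a64c3001d45a11b2ad9594e1000461cf1a9a444a4382000a92a9cf445a28cd100068dce5bd666862343001ce59170461a084d08008c22f7399f5960304001a07356d67964))
 (.leaf (nat_lit 0x0))
))
noncomputable def tP : BT := (.node (nat_lit 1) (.leaf (nat_lit 0x1808c0240170180040000000001004402a010002408c02401100b0040006023009004402c03000000000040150180040009023009005c020010003011804a0200000040006028011004402a010003010c020001008004000e0430090044020010002408c031027008004000602300c00dc060010000000000a021008004000902300c4084020010002408c0240170080040006023009004402a010002408c02401100b00400000030080004032070000000000000000000400000000000004020000000000000000000000400000030090044020000001808c0300310080000006023008001c060000001808c02401000300c0000000001005406000000180900640110080040006020001004402001000000000040110080040000000000000402001000000000000000000040006020000000000000))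
 (.node (nat_lit 2) (.leaf (nat_lit 0x2408c03102700b004000602300c00dc06c030002408c03102100b004000602300c00c402c030002408c031027008004000602300c00dc060010003811c04a04100800400060280110054060010002408c03102100b004000602300c00c402c030002408c02401700b0040006023009005406a010002408c02401100b0040006023009005c06c03000000000040150180040009023009005c02001))
 (.leaf (nat_lit 0x0))
))
noncomputable def tS : BT := (.node (nat_lit 1) (.leaf (nat_lit 0x0))
 (.node (nat_lit 2) (.leaf (nat_lit 0x0))
 (.leaf (nat_lit 0x0))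
))
def rels : List (List ℕ) := [[nat_lit 0,nat_lit 0],
  [nat_lit 1,nat_lit 1],
  [nat_lit 2,nat_lit 2],
  [nat_lit 3,nat_lit 4],
  [nat_lit 3,nat_lit 3,nat_lit 3],
  [nat_lit 0,nat_lit 2,nat_lit 1,nat_lit 2],
  [nat_lit 0,nat_lit 3,nat_lit 0,nat_lit 4],
  [nat_lit 1,nat_lit 3,nat_lit 1,nat_lit 4],
  [nat_lit 2,nat_lit 3,nat_lit 2,nat_lit 3],
  [nat_lit 0,nat_lit 1,nat_lit 0,nat_lit 1,nat_lit 0,nat_lit 1,nat_lit 0,nat_lit 1]]
def subs : List (List ℕ) := []
noncomputable def row (v : ℕ) : ℕ := mkRow (BT.get tT) (nat_lit 32) (nat_lit 78) (nat_lit 0x40000000000000000000) v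
noncomputable def DC (c r : ℕ) : List ℕ := ruleC (nat_lit 0xfc0000000000000000000000000000000000000000000000000000000000000000000000000000000000000143102040) (nat_lit 78) rels c r
noncomputable def D1 (r : ℕ) : List ℕ := rule (nat_lit 0xfc0000000000000000000000000000000000000000000000000000000000000000000000000000000000000143102040) (rels ++ subs.map (List.cons 63)) r
noncomputable def chk (v : ℕ) : Bool := chkRow row (nat_lit 10) (nat_lit 1024) (nat_lit 64) (nat_lit 0xfc0000000000000000000000000000000000000000000000000000000000000000000000000000000000000143102040) (nat_lit 5) (nat_lit 48) (nat_lit 48) (nat_lit 17) (nat_lit 131072) (nat_lit 5120) (nat_lit 60) (nat_lit 13) (nat_lit 8192) DC D1 [nat_lit 0,nat_lit 1,nat_lit 2,nat_lit 3,nat_lit 4]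
  (mkRow (BT.get tP) (nat_lit 32) (nat_lit 78) (nat_lit 0x40000000000000000000) v) (Nat.rec 0 (fun j _ => BT.get tS j) (Nat.succ (Nat.div v (nat_lit 32)))) (Nat.succ v)
theorem c0 : allB chk 11 0 = true := by decide +kernel
theorem g0 : ∀ i < 1, allB chk 11 (0 + i) = true := (fl (c := 0) fl0 c0)
theorem call : ∀ i < 1, allB chk 11 i = true := (fl_add (a := 0) (b := 1) fl0 g0)
theorem sd : side (row 0) (nat_lit 78) (nat_lit 0x40000000000000000000) (nat_lit 10) (nat_lit 64) (nat_lit 0xfc0000000000000000000000000000000000000000000000000000000000000000000000000000000000000143102040) (nat_lit 5) (nat_lit 48) (nat_lit 48) (nat_lit 60) 11 1 rels subs [nat_lit 0,nat_lit 1,nat_lit 2,nat_lit 3,nat_lit 4] = true := by decide +kernel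
theorem idx {G : Type*} [Group G] (gen : ℕ → G) (hrel : ∀ w ∈ rels, ev gen w = 1) (H : Subgroup G)
    (hsub : ∀ w ∈ subs, ev gen w ∈ H) :
    H.relIndex (Subgroup.closure (gen '' Set.Iio 5)) ≠ 0 ∧ H.relIndex (Subgroup.closure (gen '' Set.Iio 5)) ≤ 48 :=
  TC.idx (by decide) (final (fun _ => rfl) (fun _ _ => rfl) (fun _ => rfl) (fun _ h => ⟨_, _, h⟩) sd call hrel hsub)
noncomputable def wk : List ℕ → ℕ → ℕ := walk row (nat_lit 10) (nat_lit 1024) (nat_lit 64) 0
theorem ct {G : Type*} [Group G] (gen : ℕ → G) (hrel : ∀ w ∈ rels, ev gen w = 1) (H : Subgroup G)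
    (hsub : ∀ w ∈ subs, ev gen w ∈ H) : CT H gen 5 48 wk :=
  ct_of (by decide) (final (fun _ => rfl) (fun _ _ => rfl) (fun _ => rfl) (fun _ h => ⟨_, _, h⟩) sd call hrel hsub)

end H25.B2
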