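import Cfsg.Agent.H25.JD
import Cfsg.Agent.H25.JH2
import Cfsg.Agent.H25.JS2
import Cfsg.Agent.H9.Hv2
import Cfsg.Agent.H9.IsoP

/-! General tools for the amalgam `J1`: four-groups (`kl`, `four`), fusion and transfer inside a subgroup, the
subgroup `G0` generated by the amalgam, its involutions, the relator test `J1.rel_of`, and the order bound `bdH`. -/

set_option autoImplicit false

namespace H25
open Subgroup H18 H15
open scoped commutatorElement

variable {G : Type*} [Group G] {z a b c d e x t u s g h y r : G} {Q L S K D : Subgroup G}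

/-- a four-group `{1, a, b, ab}` -/
structure Kl4 (a b : G) : Prop where
  aa : a * a = 1
  bb : b * b = 1
  ab : a * b = b * a
  a1 : a ≠ 1
  b1 : b ≠ 1
  ne : a ≠ b

/-- the subgroup generated by two elements -/
abbrev kl (a b : G) : Subgroup G := closure {a, b}

theorem kl_a : a ∈ kl a b := subset_closure (by simp)
theorem kl_b : b ∈ kl a b := subset_closure (by simp)
theorem kl_le (h1 : a ∈ L) (h2 : b ∈ L) : kl a b ≤ L := (closure_le _).2 (by rintro _ (rfl | rfl) <;> assumption)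

theorem Kl4.mem (k : Kl4 a b) : y ∈ kl a b ↔ y = 1 ∨ y = a ∨ y = b ∨ y = a * b := H9.mem_closure_klein k.aa k.bb k.ab

theorem Kl4.sq (k : Kl4 a b) (h : y ∈ kl a b) : y * y = 1 := by
  rcases k.mem.1 h with rfl | rfl | rfl | rfl
  exacts [mul_one 1, k.aa, k.bb, by rw [mul_assoc, ← mul_assoc b, ← k.ab, mul_assoc, k.bb, mul_one, k.aa]]

theorem Kl4.card (k : Kl4 a b) : Nat.card (kl a b) = 4 := by
  classical
  have n1 : a * b ≠ 1 := fun e => k.ne (by rw [← inv_sq k.bb]; exact eq_inv_of_mul_eq_one_left e)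
  have : ((kl a b : Subgroup G) : Set G) = ({1, a, b, a * b} : Finset G) := by ext y; simp [k.mem]
  change Nat.card ((kl a b : Subgroup G) : Set G) = 4
  rw [this, Nat.card_coe_set_eq, Set.ncard_coe_finset, Finset.card_insert_of_notMem (by simp [k.a1.symm, k.b1.symm, n1.symm]),
    Finset.card_insert_of_notMem (by simp [k.ne, k.b1]), Finset.card_pair (by simp [k.a1])]

theorem Kl4.norm [Finite G] (h1 : g * a * g⁻¹ ∈ kl a b) (h2 : g * b * g⁻¹ ∈ kl a b) : g ∈ N(kl a b) :=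
  mem_N_of_cj_le (by rw [cj_closure, closure_le]; rintro _ ⟨_, rfl | rfl, rfl⟩ <;> assumption)

theorem odd_mem {M : Subgroup G} (hM : M.index = 2) {n : ℕ} (h : g ^ (2 * n + 1) = 1) : g ∈ M := by
  have := pow_mem (sq_mem_of_index_two hM g) (n + 1)
  rwa [← pow_mul, show 2 * (n + 1) = 2 * n + 1 + 1 by ring, pow_succ, h, one_mul] at this

/-- a self-centralizing four-group normalized by an element of order three -/
theorem four [Finite G] (k : Kl4 a b) (ha : a ∈ L) (hb : b ∈ L) (hr : r ∈ L) (r3 : r ^ 3 = 1)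
    (r1 : r * a * r⁻¹ = b) (r2 : r * b * r⁻¹ = a * b) (hc : ∀ g ∈ L, g * b = b * g → g ∈ kl a b) :
    Nonempty (L ≃* alternatingGroup (Fin 4)) ∨ Nonempty (L ≃* alternatingGroup (Fin 5)) := by
  let A : L := ⟨a, ha⟩
  let B : L := ⟨b, hb⟩
  let R : L := ⟨r, hr⟩
  have k' : Kl4 A B := ⟨Subtype.ext k.aa, Subtype.ext k.bb, Subtype.ext k.ab, fun e => k.a1 (congrArg Subtype.val e),
    fun e => k.b1 (congrArg Subtype.val e), fun e => k.ne (congrArg Subtype.val e)⟩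
  replace r1 : R * A * R⁻¹ = B := Subtype.ext r1
  replace r2 : R * B * R⁻¹ = A * B := Subtype.ext r2
  replace r3 : R ^ (2 * 1 + 1) = 1 := Subtype.ext r3
  replace hc : C1(B) = kl A B := le_antisymm (fun (g : L) (hg : g ∈ C1(B)) => k'.mem.2 ((k.mem.1 (hc g g.2 (congrArg Subtype.val
    (mem_C1.1 hg)))).imp Subtype.ext (Or.imp Subtype.ext (Or.imp Subtype.ext Subtype.ext)))) (kl_le (mem_C1.2 k'.ab) C1_self)
  have hR : cj R (kl A B) = kl A B := cj_eq_self (Kl4.norm (r1 ▸ kl_b) (r2 ▸ mul_mem kl_a kl_b))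
  have two : PiGrp {2} (kl A B) := piGrp_of_card_pow Nat.prime_two (n := 2) k'.card
  have hS : Hall {2} C1(B) ⊤ := sylow_of_max Nat.prime_two le_top (hc ▸ two) fun T hT hle _ => by
    obtain ⟨w, hw, ew⟩ := cauchy Nat.prime_two ((hT.inf_left (B := C(T))).dvd_card
      (hT.nil.Z_ne_bot (ne_bot_of_mem (hle C1_self) k'.b1)))
    have h1 : T ≤ C1(w) := le_C1_iff.2 hw.2
    rcases k'.mem.1 (hc.le (mem_C1_comm.1 (h1 (hle C1_self)))) with e | e | e | e
    · exact absurd e (H9.ne_one_of_orderOf ew)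
    · rwa [hc, ← cj_le_cj (g := R), hR, ← hc, ← r1, ← cj_C1, cj_le_cj, ← e]
    · rwa [← e]
    · rwa [hc, ← hR, ← hc, cj_C1, r2, ← e]
  refine H2.alt_of_four (y := A) ⟨H9.orderOf_eq_two.2 ⟨k'.bb, k'.b1⟩, piElt_of_pow_eq_one Nat.prime_two (by rw [sq, k'.bb]),
    mem_zpowers B, k'.aa, fun h => ?_, by rw [cj_fix k'.ab, inv_sq k'.bb], fun g hg => ?_⟩ hS fun M hM => ?_
  · rcases H9.eq_one_or_eq_of_mem_zpowers k'.bb h with e | e
    exacts [k'.a1 e, k'.ne e]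
  · rcases k'.mem.1 (hc.le (mem_C1.2 hg)) with rfl | rfl | rfl | rfl
    exacts [.inl (one_mem _), .inr (k'.aa ▸ one_mem _), .inl (mem_zpowers _),
      .inr (by rw [k'.ab, mul_assoc, k'.aa, mul_one]; exact mem_zpowers _)]
  · have := normal_of_index_eq_two hM
    have h1 : A ∈ M := by
      have := mul_mem (odd_mem hM r3) (this.conj_mem _ (inv_mem (odd_mem hM r3)) B)
      rwa [← mul_assoc, ← mul_assoc, r2, mul_inv_cancel_right] at this
    have h2 := hS.idx_of_le (hc ▸ kl_le h1 (r1 ▸ this.conj_mem _ h1 R) : C1(B) ≤ M)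
    rw [relIndex_top_right, hM] at h2
    exact h2 2 Nat.prime_two dvd_rfl rfl

theorem burn [Finite G] {p : ℕ} (hp : p.Prime) (hS : Hall {p} S D) (hA : Abel S) (ha : a ∈ S) (hg : g ∈ D)
    (hb : g * a * g⁻¹ ∈ S) : ∃ n ∈ D ⊓ N(S), n * a * n⁻¹ = g * a * g⁻¹ := by
  obtain ⟨c, hc, e⟩ := sylow_conj hp (hS.of_le (le_inf hS.le (hA.trans (C_le_C1 hb))) inf_le_left)
    ((hS.cj_mem hg).of_le (le_inf (hS.cj_mem hg).le (by rw [← cj_C1]; exact cj_mono (hA.trans (C_le_C1 ha)))) inf_le_left)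
  obtain ⟨c1, c2⟩ := mem_inf.1 hc
  exact ⟨c⁻¹ * g, mem_inf.2 ⟨mul_mem (inv_mem c1) hg, mem_N_of_cj_le (by rw [cj_mul, e, cj_inv_cj])⟩,
    cj_comp rfl (conj_eq_self_of_C1 (inv_mem c2))⟩

theorem not_der [Finite G] (hS : Hall {2} S D) (hA : Abel S) (hg : g ∈ S) (hK : g ∉ K)
    (h : ∀ n ∈ D ⊓ N(S), ∀ y ∈ S, n * y * n⁻¹ * y⁻¹ ∈ K) : g ∉ ⁅D, D⁆ := fun e => by
  rw [← map_subtype_commutator] at e
  obtain ⟨g, e, rfl⟩ := e
  refine H9.not_mem_der Nat.prime_two (H := S.subgroupOf D) (K := K.subgroupOf D) ?_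
    ((piNat_compl_iff Nat.prime_two).1 hS.idx) hg hK (by rw [PiElt, ← orderOf_coe]; exact hS.pi.elt hg) ?_ e
  · rw [(abel_iff_der.1 (cent_iff.2 fun a ha b hb => Subtype.ext (comm_of_cent hA ha hb)) :
      ⁅S.subgroupOf D, S.subgroupOf D⁆ = ⊥)]
    exact bot_le
  · intro m a ha
    obtain ⟨n, hn, e⟩ := burn Nat.prime_two hS hA (pow_mem hg m) a.2 ha
    have := h n hn _ (pow_mem hg m)
    rwa [e] at this

/-- conjugacy inside `L` -/
def Cj (L : Subgroup G) (a b : G) : Prop := ∃ g ∈ L, g * a * g⁻¹ = b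

theorem Cj.refl : Cj L a a := ⟨1, one_mem _, by simp⟩
theorem Cj.symm (h : Cj L a b) : Cj L b a := let ⟨g, hg, e⟩ := h; ⟨g⁻¹, inv_mem hg, cj_symm e⟩
theorem Cj.trans (h : Cj L a b) (h' : Cj L b c) : Cj L a c :=
  let ⟨_, hg, e⟩ := h; let ⟨_, hk, e'⟩ := h'; ⟨_, mul_mem hk hg, cj_comp e e'⟩
theorem Cj.isConj (h : Cj L a b) : IsConj a b := let ⟨_, _, e⟩ := h; isC e
theorem Cj.cent (h : Cj L a b) (ha : C1(a) ≤ L) : C1(b) ≤ L := by
  obtain ⟨g, hg, rfl⟩ := h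
  rw [← cj_C1]; exact (cj_mono ha).trans (cj_eq_self (le_N hg)).le

theorem cj_odd (ha : a ∈ L) (hb : b ∈ L) (aa : a * a = 1) (bb : b * b = 1) (n : ℕ) (h : (a * b) ^ (2 * n + 1) = 1) :
    Cj L a b := by
  refine ⟨((a * b) ^ (n + 1))⁻¹, inv_mem (pow_mem (mul_mem ha hb) _), ?_⟩
  have h1 : a * (a * b) ^ (n + 1) * a⁻¹ = ((a * b) ^ (n + 1))⁻¹ := by
    rw [← conj_pow, ← mul_assoc, aa, one_mul, ← inv_pow, mul_inv_rev, inv_sq bb]
  nth_rw 1 [← h1]
  rw [inv_inv, inv_mul_cancel_right, mul_assoc, ← pow_add, show n + 1 + (n + 1) = 2 * n + 1 + 1 by ring, pow_succ, h,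
    one_mul, ← mul_assoc, aa, one_mul]

theorem bdH {g : ℕ → G} (h : Rl g LH) : Bd (Kl g [0,1,2,3,5,6]) 1920 :=
  ((Bd.nil g).step (idx_ren (fun g => B2.idx g) [0,1,3,5,6] rfl (rel_ren h (by decide +kernel)) _
    (sub_ren g (by decide +kernel)))).step (idx_ren (fun g => B1.idx g) [0,1,2,3,5,6] rfl (rel_ren h (by decide +kernel)) _
    (sub_ren g (by decide +kernel)))

/-- the subgroup generated by the amalgam -/
abbrev G0 (g : ℕ → G) : Subgroup G := closure (g '' Set.Iio 7)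

theorem G0.gen (g : ℕ → G) (i : ℕ) (h : i < 7 := by decide) : g i ∈ G0 g := subset_closure ⟨i, h, rfl⟩

theorem G0.ev (g : ℕ → G) (w : List ℕ) (h : w.all (· < 7) = true := by decide) : ev g w ∈ G0 g :=
  ev_mem fun i hi => G0.gen g i (by simpa using List.all_eq_true.1 h i hi)

theorem JP.le_of (J : JP z a b c d e x t u) (h1 : d ∈ L) (h2 : e ∈ L) (h3 : t ∈ L) (h4 : u ∈ L) (h5 : x ∈ L) :
    C1(z) ≤ L := by
  obtain ⟨ea, eb, ec, -⟩ := J.ids2
  rw [← J.rt.top, closure_le]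
  rintro _ ⟨i, hi, rfl⟩
  have : i < 9 := hi
  have hc := mul_mem (mul_mem h3 h1) h3
  interval_cases i
  exacts [ea ▸ mul_mem (mul_mem (mul_mem (mul_mem h5 h3) h1) h3) (inv_mem h5),
    eb ▸ mul_mem (mul_mem (mul_mem (mul_mem (inv_mem h5) h3) h1) h3) h5, ec ▸ hc, h1, h2, h5, inv_mem h5, h3, h4]

/-- words conjugating `z` to `z, e, d, c, a, sds` -/
def cjW : List (List ℕ) := [[], [4], [3,4,3], [2,3,4,3], [5,2,3,4,3], [4,3,4,3]]

/-- membership test for a conjugate -/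
noncomputable def memB (wk : List ℕ → ℕ → ℕ) (w p : List ℕ) : Bool :=
  ok 7 (invW ivS p ++ w ++ p) && Nat.beq (wk (invW ivS p ++ w ++ p) 1) 1

namespace J1
variable (J : J1 z a b c d e x t u s)
include J

theorem HG : C1(z) ≤ G0 (gS d e t u s x) :=
  J.le_of (G0.gen _ 0) (G0.gen _ 1) (G0.gen _ 2) (G0.gen _ 3) (G0.gen _ 5)

theorem sG : s ∈ G0 (gS d e t u s x) := G0.gen _ 4

theorem kV : Kl4 e z := ⟨J.ee, J.zz, J.ez, J.nes.2.1, J.z1, J.ne⟩

theorem inv_cj [Finite G] (hL : G0 (gS d e t u s x) ≤ L) (hy : y ∈ L) (y2 : y * y = 1) (y1 : y ≠ 1) :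
    Cj L y z ∨ Cj L y t := by
  have H := J.HG.trans hL
  obtain ⟨S, hS, h⟩ := J.syl L H
  obtain ⟨g, hg, e⟩ := sylow_le_cj Nat.prime_two hS (Q := zpowers y)
    (piElt_of_pow_eq_one Nat.prime_two (by rw [sq, y2])).zpowers (zpowers_le.2 hy)
  obtain ⟨k, hk, e | e | e | e⟩ := J.inv (h (e (conj_mem_cj (mem_zpowers y)))) (cj_sq1 y2 g)
  · exact absurd e (cj_ne y1 g)
  · exact .inl ⟨g, hg, e⟩
  · exact .inl ⟨_, mul_mem (hL J.sG) (mul_mem (H hk) hg), cj_comp (cj_comp rfl e) J.se⟩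
  · exact .inr ⟨_, mul_mem (H hk) hg, cj_comp rfl e⟩

variable {n : ℕ} {wk : List ℕ → ℕ → ℕ} (T : CT C1(z) (gS d e t u s x) 7 n wk)
include T

theorem comm_of {w p : List ℕ} (h : memB wk w p = true) :
    ev (gS d e t u s x) w ∈ C1(ev (gS d e t u s x) p * z * (ev (gS d e t u s x) p)⁻¹) := by
  have := T.mem h
  rw [ev_append, ev_append, ev_invW fun i _ => J.hiv i] at this
  rwa [← cj_C1, mem_cj]

theorem rel_of {l : List (List ℕ)} (h : l.all (fun w => cjW.all (memB wk w)) = true) : Rl (gS d e t u s x) l := by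
  intro w hw
  have := List.all_eq_true.1 (List.all_eq_true.1 h w hw)
  simp only [cjW, List.forall_mem_cons] at this
  obtain ⟨h0, h1, h2, h3, h4, h5, -⟩ := this
  have rz := J.rz
  have tdt : t * d * t⁻¹ = c := by rw [inv_sq J.tt]; exact J.ids2.2.2.1.symm
  have k0 := J.comm_of T h0
  have k1 := J.comm_of T h1
  have k2 := J.comm_of T h2
  have k3 := J.comm_of T h3
  have k4 := J.comm_of T h4
  have k5 := J.comm_of T h5
  rw [← evL_eq _ [], ← evL_eq _ [4], ← evL_eq _ [3,4,3]] at *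
  rw [ev_cons _ _ [3,4,3], ← evL_eq _ [3,4,3]] at k3 k5
  rw [ev_cons, ev_cons _ _ [3,4,3], ← evL_eq _ [3,4,3]] at k4
  erw [cj_fix (Commute.one_left z)] at k0
  erw [J.sz] at k1
  erw [rz] at k2
  erw [cj_comp rz tdt] at k3
  erw [cj_comp (k := x) (cj_comp rz tdt) rfl] at k4
  erw [cj_comp (k := s) rz rfl] at k5
  rcases J.cq k0 (mem_C1.1 k2) (mem_C1.1 k1) (mem_C1.1 k3) (by simpa only [mul_assoc] using mem_C1.1 k4) with h | h
  · exact h
  · rw [h, ← J.se] at k5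
    exact absurd (by simpa using mem_C1.1 k5) J.nes2.2.2.1.symm

end J1
end H25
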