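import Cfsg.Agent.H25.JE
import Cfsg.Agent.H25.JJ2

/-! The amalgam with the relators of `J₂` (`J2c`): two classes of involutions, `C(t) = 2² × A₅`, the amalgam
generates `G`, and `|G| = 604800`. -/

set_option autoImplicit false

namespace H25
open Subgroup H18 H15
open scoped commutatorElement

variable {G : Type*} [Group G] {z a b c d e x t u s g h y r : G} {Q L S K D : Subgroup G}

theorem card_A5 : Nat.card (alternatingGroup (Fin 5)) = 60 := by rw [nat_card_alternatingGroup]; simp [Nat.factorial]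
theorem card_A4 : Nat.card (alternatingGroup (Fin 4)) = 12 := by rw [nat_card_alternatingGroup]; simp [Nat.factorial]
theorem card_A6 : Nat.card (alternatingGroup (Fin 6)) = 360 := by rw [nat_card_alternatingGroup]; simp [Nat.factorial]

theorem ord_prime {p : ℕ} (hp : p.Prime) (h : g ^ p = 1) (h1 : g ≠ 1) : orderOf g = p :=
  haveI := Fact.mk hp; orderOf_eq_prime h h1

theorem JP.ox (J : JP z a b c d e x t u) : orderOf x = 3 :=
  ord_prime Nat.prime_three (by rw [pow_three, ← mul_assoc, J.x3]) J.nes.2.2.2.2.2.2.2.1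

theorem J1.card_cx [Finite G] (J : J1 z a b c d e x t u s) : Nat.card C1(x) = 1080 := by
  obtain ⟨-, φ, h1, h2⟩ := J.cx
  have := φ.ker.card_mul_index
  rw [index_ker, MonoidHom.range_eq_top.2 h1, card_top, card_A6, show φ.ker = (zpowers x).subgroupOf C1(x) from
    Subgroup.ext h2, card_subgroupOf J.nx.le, card_zpowers', J.ox] at this
  exact this.symm

theorem JP.kW (J : JP z a b c d e x t u) : Kl4 t (x * t * x⁻¹) :=
  ⟨J.tt, cj_sq1 J.tt x, by simpa only [mul_assoc] using J.ids2.2.2.2.1, J.nes.2.2.2.2.2.2.1,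
    cj_ne J.nes.2.2.2.2.2.2.1 x, J.nes2.2.1.symm⟩

theorem JP.xW (J : JP z a b c d e x t u) : x * (x * t * x⁻¹) * x⁻¹ = t * (x * t * x⁻¹) := by
  simpa only [mul_assoc] using J.ids2.2.2.2.2.2.1

theorem JP.xW' (J : JP z a b c d e x t u) : x * (t * (x * t * x⁻¹)) * x⁻¹ = t := by
  simpa only [mul_assoc] using J.ids2.2.2.2.2.2.2

/-- the amalgam with the relators of `J₂` -/
structure J2c (z a b c d e x t u s : G) : Prop extends J1 z a b c d e x t u s where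
  rel2 : Rl (gS d e t u s x) L2

namespace J2c
variable (J : J2c z a b c d e x t u s)
include J

theorem T : CT C1(z) (gS d e t u s x) 7 315 JJ2.wk :=
  JJ2.ct _ (J.rel2.sub (by decide +kernel)) _ (subs_of (J.subH s) (by decide +kernel))

theorem exj : ∃ j ∈ G0 (gS d e t u s x), IsConj z j ∧ j * j = 1 ∧ z * j ≠ 1 ∧ x ∈ C1(j) ∧ t ∈ C1(j) ∧ u ∈ C1(j) ∧
    (z * j) ^ 5 = 1 ∧ j * (x⁻¹ * d * s) * j * (x⁻¹ * d * s) = 1 ∧ (x⁻¹ * d * s) ^ 3 = 1 := by
  let p := [4,3,0,4,3,0,4,3,4]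
  let w := p ++ [0,1,0,1] ++ invW ivS p
  have ez : ev (gS d e t u s x) [0,1,0,1] = z := (evL_eq _ _).symm.trans J.zd
  have ei := ev_invW (w := p) fun i _ => J.hiv i
  have ew : ev (gS d e t u s x) w = ev (gS d e t u s x) p * z * (ev (gS d e t u s x) p)⁻¹ := by
    rw [ev_append, ev_append, ei, ez]
  have h := J.rel_of J.T (l := [(List.replicate 5 ([0,1,0,1] ++ w)).flatten, w ++ [6,0,4] ++ w ++ [6,0,4],
    (List.replicate 3 [6,0,4]).flatten]) (by decide +kernel)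
  simp only [Rl, List.forall_mem_cons, ev_rep, evL_eq, ev_append, ew, ez, ei] at h
  simp only [← evL_eq _ [6,0,4]] at h
  have cm := fun i (h : memB JJ2.wk [i] p = true) => J.comm_of J.T h
  simp only [ev_cons _ _ [], ev_nil, mul_one] at cm
  refine ⟨_, ew ▸ G0.ev _ w, isC rfl, cj_sq1 J.zz _, fun h => J.sH ?_,
    cm 5 (by decide +kernel),
    cm 2 (by decide +kernel),
    cm 3 (by decide +kernel), h.1, h.2.1, h.2.2.1⟩
  rw [mul_eq_one_iff_inv_eq, inv_sq J.zz] at h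
  have h1 := inv_mem (mem_C1.2 (mul_inv_eq_iff_eq_mul.1 h.symm))
  rw [← ei, ← evL_eq] at h1
  exact allM_iff.2 (G1.mem _ (J.rel2.sub (by decide +kernel)) C1(z) (allM_iff.1 ⟨J.md, J.me, J.mt, J.mu, J.mx, h1⟩))

theorem nc : ¬ IsConj z t := fun hc => by
  obtain ⟨j, -, -, -, f1, jx, jt, -, f5, -⟩ := J.exj
  obtain ⟨g, hg⟩ := isConj_iff.1 hc.symm
  have ft : z * j ∈ C1(t) := mul_mem (mem_C1_comm.1 J.mt) (mem_C1_comm.1 jt)
  have fx : z * j ∈ C1(x) := mul_mem J.kz (mem_C1_comm.1 jx)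
  have fw : z * j ∈ C1(x * t * x⁻¹) := mem_C1_comm.1 (mul_mem (mul_mem (mem_C1_comm.1 fx) (mem_C1_comm.1 ft))
    (inv_mem (mem_C1_comm.1 fx)))
  have h1 : g * (z * j) * g⁻¹ ∈ C1(z) := mem_C1.2 (hg ▸ cjc (mem_C1.1 ft) g)
  have key : ∀ k ∈ C1(z), ∀ n, Nat.gcd n 5 = 1 → (k * (g * (z * j) * g⁻¹) * k⁻¹) ^ n ≠ 1 := fun k hk n hn h => by
    have := pow_gcd_eq_one.2 ⟨h, show _ ^ 5 = (1 : G) by rw [conj_pow, conj_pow, f5]; simp⟩
    rw [hn, pow_one] at this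
    exact cj_ne (cj_ne f1 g) k this
  have m : ∀ k ∈ C1(z), k * (g * (z * j) * g⁻¹) * k⁻¹ ∈ C1(z) := fun k hk => mul_mem (mul_mem hk h1) (inv_mem hk)
  obtain ⟨k, hk, h | h | h | h⟩ := J.inv (h := g * (x * t * x⁻¹) * g⁻¹) (mem_C1.2 (hg ▸ cjc J.kW.ab.symm g))
    (cj_sq1 J.kW.bb g)
  · exact cj_ne J.kW.b1 g h
  · exact J.kW.ne (by simpa using hg.trans h.symm)
  · exact key k hk 12 rfl (by
      simpa only [pow_succ, pow_zero, one_mul] using J.ce12 (m k hk) (h ▸ cjc (cjc (mem_C1.1 fw) g) k))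
  · exact key k hk 2 rfl (by rw [sq]; exact J.ct2 (m k hk) (h ▸ cjc (cjc (mem_C1.1 fw) g) k))

theorem ctD [Finite G] : ∃ D0, DP (kl t (x * t * x⁻¹)) D0 C1(t) ∧ Nonempty (D0 ≃* alternatingGroup (Fin 5)) ∧
    D0 ≤ G0 (gS d e t u s x) ∧ D0 ≤ C1(x) := by
  obtain ⟨j, jG, jz, jj, f1, jx, jt, -, f5, jr, r3⟩ := J.exj
  have rz : x⁻¹ * d * s * z * (x⁻¹ * d * s)⁻¹ = e * z := cj_comp J.sz (cj_comp J.ded
    (cj_fix (mem_C1.1 (mul_mem (by rw [C1_inv]; exact J.ke) (by rw [C1_inv]; exact J.kz))).symm))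
  have re : x⁻¹ * d * s * e * (x⁻¹ * d * s)⁻¹ = z := cj_comp J.se (conj_eq_self_of_C1 (mul_mem (inv_mem J.mx) J.md))
  have rt : x⁻¹ * d * s ∈ C1(t) := mem_C1.2 (mul_inv_eq_iff_eq_mul.1 (cj_comp (b := d * x * t * x⁻¹ * d)
    (by rw [inv_sq J.ss, J.st]) (by
      calc _ = x⁻¹ * (d * d) * x * t * x⁻¹ * x := by group
        _ = _ := by rw [J.dd]; group)))
  have rx : x⁻¹ * d * s ∈ C1(x) := mul_mem (mul_mem (inv_mem C1_self) J.kd) J.ks
  have rG : x⁻¹ * d * s ∈ G0 (gS d e t u s x) := mul_mem (mul_mem (G0.gen _ 6) (G0.gen _ 0)) J.sG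
  generalize x⁻¹ * d * s = ρ at *
  have cW : ∀ g ∈ C1(t), g ∈ C1(x) → g ∈ C(kl t (x * t * x⁻¹)) := fun g h1 h2 => le_C1_iff.1 (kl_le
    (mem_C1_comm.1 h1) (mul_mem (mul_mem (mem_C1_comm.1 h2) (mem_C1_comm.1 h1)) (inv_mem (mem_C1_comm.1 h2))))
  have zt : z ∈ C1(t) := mem_C1_comm.1 J.mt
  have et : e ∈ C1(t) := mem_C1.2 J.te.symm
  have VE : kl e z ≤ C1(t) ⊓ C1(z) := kl_le ⟨et, J.me⟩ ⟨zt, C1_self⟩
  have WE : kl t (x * t * x⁻¹) ≤ C1(t) ⊓ C1(z) := kl_le ⟨C1_self, J.mt⟩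
    (mem_inf.2 ⟨mem_C1.2 J.kW.ab.symm, mul_mem (mul_mem J.mx J.mt) (inv_mem J.mx)⟩)
  have sqE : ∀ y ∈ C1(t) ⊓ C1(z), y * y = 1 := fun y hy => J.ct2 hy.2 (mem_C1.1 hy.1)
  have hA : Abel (C1(t) ⊓ C1(z)) := cent_iff.2 fun p hp q hq => by
    rw [← inv_sq (sqE _ (mul_mem hp hq)), mul_inv_rev, inv_sq (sqE p hp), inv_sq (sqE q hq)]
  have EVW : ∀ y ∈ C1(t) ⊓ C1(z), ∃ v ∈ kl e z, ∃ w ∈ kl t (x * t * x⁻¹), y = v * w := fun y hy =>
    ⟨_, inv_mem (J.kV.mem.2 (J.ctv hy.2 (mem_C1.1 hy.1))), _,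
      J.kW.mem.2 (by simpa only [mul_assoc] using J.ctw hy.2 (mem_C1.1 hy.1)), by group⟩
  have nz : ∀ n ∈ C1(t), n * z * n⁻¹ ∈ C1(z) → ∀ L, C1(t) ⊓ C1(z) ≤ L → ρ ∈ L → n ∈ L := fun n hn h L h1 h2 => by
    obtain ⟨k, -, h | h | h | h | h⟩ := J.ct h (by have := cjc (mem_C1.1 zt) n; rwa [conj_eq_self_of_C1 hn] at this)
    · exact absurd h (cj_ne J.z1 n)
    · exact h1 ⟨hn, mem_C1.2 (mul_inv_eq_iff_eq_mul.1 h)⟩
    · exact (mul_mem_cancel_left h2).1 (h1 ⟨mul_mem rt hn, mem_C1.2 (mul_inv_eq_iff_eq_mul.1 (cj_comp h re))⟩)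
    · exact (mul_mem_cancel_left (inv_mem h2)).1 (h1 (mem_inf.2 ⟨mul_mem (inv_mem rt) hn,
        mem_C1.2 (mul_inv_eq_iff_eq_mul.1 (cj_comp h (cj_symm rz)))⟩))
    · exact absurd ((isC rfl).trans (isC h)) J.nc
  have nE : ∀ n ∈ C1(t) ⊓ N(C1(t) ⊓ C1(z)), ∀ L, C1(t) ⊓ C1(z) ≤ L → ρ ∈ L → n ∈ L := fun n hn =>
    nz n hn.1 (conj_mem_N hn.2 (VE kl_b)).2
  have rN : ρ ∈ N(C1(t) ⊓ C1(z)) := mem_N_of_finite fun v hv => mem_inf.2 ⟨mul_mem (mul_mem rt (mem_inf.1 hv).1) (inv_mem rt),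
    mem_C1.2 (re ▸ cjc (comm_of_cent hA hv (VE kl_a)) ρ)⟩
  have two : PiGrp {2} (C1(t) ⊓ C1(z) :) := piGrp_of_elt fun w hw =>
    piElt_of_pow_eq_one Nat.prime_two (by rw [sq, sqE w hw])
  have hS : Hall {2} (C1(t) ⊓ C1(z)) C1(t) := H2.sylow_of_norm Nat.prime_two inf_le_left ((hall_of_sup two
    (K := zpowers ρ) (piGrp_zpowers.2 ((piElt_of_pow_eq_one Nat.prime_three r3).p'_of_ne (by decide)))
    (.inr (zpowers_le.2 rN))).of_le (le_inf inf_le_left le_N) fun n hn =>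
      nE n hn _ le_sup_left (mem_sup_right (mem_zpowers ρ)))
  have DE : ⁅C1(t), C1(t)⁆ ⊓ (C1(t) ⊓ C1(z)) ≤ kl e z := fun g hg => of_not_not fun hn =>
    not_der hS hA hg.2 hn (fun n hn y hy => by
      obtain ⟨v, hv, w, hw, rfl⟩ := EVW y hy
      have := nE n hn (N(kl e z) ⊓ C(kl t (x * t * x⁻¹))) (le_inf (hA.norm VE) (cent_mono hA le_rfl WE))
        ⟨Kl4.norm (re ▸ kl_b) (rz ▸ mul_mem kl_a kl_b), cW ρ rt rx⟩
      rw [← conj_mul, cj_fix (mem_C.1 this.2 w hw).symm, mul_inv_rev, mul_assoc, mul_inv_cancel_left]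
      exact mul_mem (conj_mem_N this.1 hv) (inv_mem hv)) hg.1
  have jt' := mem_C1_comm.1 jt
  have eD : e ∈ ⁅C1(t), C1(t)⁆ := by
    have := commutator_mem_commutator rt zt
    rwa [commutatorElement_def, rz, mul_inv_cancel_right] at this
  have zD : z ∈ ⁅C1(t), C1(t)⁆ := re ▸ conj_mem nml_der.norm rt eD
  have rD : ρ ∈ ⁅C1(t), C1(t)⁆ := by
    have := commutator_mem_commutator jt' rt
    rwa [commutatorElement_def, inv_sq jj, eq_inv_of_mul_eq_one_left jr, ← mul_inv_rev,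
      inv_eq_of_mul_eq_one_right (by rw [← r3, pow_three, mul_assoc])] at this
  have fD : z * j ∈ ⁅C1(t), C1(t)⁆ := by
    have := pow_mem (commutator_mem_commutator zt jt') 3
    rwa [commutatorElement_def, inv_sq jj, inv_sq J.zz, mul_assoc, ← sq, ← pow_mul, pow_succ, f5, one_mul] at this
  have VD : kl e z ≤ ⁅C1(t), C1(t)⁆ := kl_le eD zD
  have o5 := ord_prime Nat.prime_five f5 f1
  have A5 := (four J.kV eD zD rD r3 re rz fun g hg h => DE ⟨hg, der_le hg, mem_C1.2 h⟩).resolve_left fun ⟨φ⟩ => by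
    have := orderOf_dvd_card fD
    rw [o5, Nat.card_congr φ.toEquiv, card_A4] at this
    omega
  have c60 := (Nat.card_congr A5.some.toEquiv).trans card_A5
  have gen : ∀ L, e ∈ L → z ∈ L → ρ ∈ L → j ∈ L → ⁅C1(t), C1(t)⁆ ≤ L := fun L h1 h2 h3 h4 => by
    have d4 := card_dvd (le_inf VD (kl_le h1 h2))
    have d3 := orderOf_dvd_card (mem_inf.2 ⟨rD, h3⟩)
    have d5 := orderOf_dvd_card (mem_inf.2 ⟨fD, mul_mem h2 h4⟩)
    rw [J.kV.card] at d4
    rw [ord_prime Nat.prime_three r3 fun h => J.ne (by rw [← re, h]; simp)] at d3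
    rw [o5] at d5
    refine inf_eq_left.1 (eq_of_card_ge inf_le_left ?_)
    have := card_pos' (H := ⁅C1(t), C1(t)⁆ ⊓ L)
    omega
  have hV : Hall {2} (kl e z) ⁅C1(t), C1(t)⁆ := by
    rw [← le_antisymm DE (le_inf VD VE)]; exact hS.inf_nml' nml_der
  refine ⟨_, ⟨cent_symm (gen _ (cW e et J.ke) (cW z zt J.kz) (cW ρ rt rx) (cW j jt' (mem_C1_comm.1 jx))),
    eq_bot_iff.2 fun y hy => ?_, le_antisymm (sup_le (WE.trans inf_le_left) der_le) fun g hg => ?_⟩, A5,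
    gen _ (J.HG J.me) (J.HG C1_self) rG jG, gen _ J.ke J.kz rx (mem_C1_comm.1 jx)⟩
  · by_contra y1
    have h1 : IsConj z y := by
      rcases J.kV.mem.1 (DE ⟨hy.2, WE hy.1⟩) with rfl | rfl | rfl | rfl
      exacts [absurd (one_mem _) y1, isC J.sz, IsConj.refl _, isC rz]
    have h2 : IsConj t y := by
      rcases J.kW.mem.1 hy.1 with rfl | rfl | rfl | rfl
      exacts [absurd (one_mem _) y1, IsConj.refl _, isC rfl, (isC J.xW').symm]
    exact J.nc (h1.trans h2.symm)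
  · obtain ⟨k, hk, h⟩ := sylow_le_cj Nat.prime_two hV (Q := zpowers (g * z * g⁻¹)) (piElt_of_pow_eq_one Nat.prime_two
      (by rw [sq, cj_sq1 J.zz])).zpowers (zpowers_le.2 (conj_mem nml_der.norm hg zD))
    refine (mul_mem_cancel_left (mem_sup_right hk)).1 (nz _ (mul_mem (der_le hk) hg)
      (by rw [cj_comp rfl rfl]; exact (VE (h (conj_mem_cj (mem_zpowers _)))).2) _ (fun y hy => ?_) (mem_sup_right rD))
    obtain ⟨v, hv, w, hw, rfl⟩ := EVW y hy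
    exact mul_mem (mem_sup_right (VD hv)) (mem_sup_left hw)

theorem top [Finite G] : G0 (gS d e t u s x) = ⊤ := by
  obtain ⟨D0, h1, -, h2, -⟩ := J.ctD
  have h3 : C1(t) ≤ G0 (gS d e t u s x) := h1.sup ▸ sup_le
    (kl_le (J.HG J.mt) (J.HG (mul_mem (mul_mem J.mx J.mt) (inv_mem J.mx)))) h2
  refine eq_top_iff.2 fun g _ => ?_
  obtain ⟨v, v2, -, c1, c2⟩ := (H9.isConj_or_exists_commute (cj_sq1 J.zz g) J.tt).resolve_left fun h =>
    J.nc ((isC rfl).trans h)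
  have h4 : C1(v) ≤ G0 (gS d e t u s x) := (J.inv_cj le_rfl (h3 (mem_C1.2 c2)) (H9.mul_self_of_orderOf v2)
    (H9.ne_one_of_orderOf v2)).elim (·.symm.cent J.HG) (·.symm.cent h3)
  rcases J.inv_cj le_rfl (h4 (mem_C1.2 c1.symm)) (cj_sq1 J.zz g) (cj_ne J.z1 g) with ⟨k, hk, h⟩ | h
  · exact (mul_mem_cancel_left hk).1 (J.HG (mem_C1.2 (mul_inv_eq_iff_eq_mul.1 (cj_comp rfl h))))
  · exact absurd ((isC rfl).trans h.isConj) J.nc

theorem card [Finite G] : Nat.card G = 604800 := by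
  obtain ⟨j, -, -, jj, f1, jx, jt, ju, f5, -⟩ := J.exj
  have h1 := (JJ2.idx _ (J.rel2.sub (by decide +kernel)) _ (subs_of (J.subH s) (by decide +kernel))).2
  rw [show Subgroup.closure _ = ⊤ from J.top, relIndex_top_right] at h1
  have h2 := C1(z).card_mul_index
  have h3 := card_subgroup_dvd_card C1(x)
  have h4 := orderOf_dvd_natCard (e * t * u * s)
  rw [ord_prime (g := e * t * u * s) (by decide : Nat.Prime 7) (J.rel2.pow [1,2,3,4] 7 (by decide +kernel)) fun h => J.sH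
    ((mul_mem_cancel_left (mul_mem (mul_mem J.me J.mt) J.mu)).1 (h ▸ one_mem _))] at h4
  have m : t * u * x ∈ C1(z) := mul_mem (mul_mem J.mt J.mu) J.mx
  have o1 : orderOf (t * u * x) = 5 := ord_prime Nat.prime_five
    (by simpa only [pow_succ, pow_zero, one_mul, mul_assoc] using J.ids2.2.2.2.2.1) J.nes2.1
  have o2 := ord_prime Nat.prime_five f5 f1
  have h5 := card_subgroup_dvd_card (zpowers (z * j) ⊔ zpowers (t * u * x))
  rw [card_sup_of_cent (by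
    rw [C_zpowers, zpowers_le]
    exact mul_mem (mem_C1_comm.1 m) (mem_C1_comm.1 (mul_mem (mul_mem jt ju) jx)))
    (prime_TI (by rw [card_zpowers', o2]; exact Nat.prime_five) fun h => by
      have h6 := mem_C1.1 (zpowers_le.2 m (h (mem_zpowers _)))
      rw [mul_assoc, mul_right_inj] at h6
      have : (z * j) ^ 2 = 1 := by rw [sq, mul_assoc, ← mul_assoc j, h6, mul_assoc, jj, mul_one, J.zz]
      exact f1 (by simpa using pow_gcd_eq_one.2 ⟨this, f5⟩)), card_zpowers', card_zpowers', o1, o2] at h5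
  rw [J.rt.card] at h2
  rw [J.card_cx] at h3
  have h6 : 128 * 27 * (5 * 5) * 7 ∣ Nat.card G := Nat.Coprime.mul_dvd_of_dvd_of_dvd (by decide)
    (Nat.Coprime.mul_dvd_of_dvd_of_dvd (by decide) (Nat.Coprime.mul_dvd_of_dvd_of_dvd (by decide)
      (h2 ▸ Dvd.dvd.mul_right (by decide) _) (Nat.dvd_trans (by decide) h3)) h5) h4
  exact le_antisymm (h2 ▸ Nat.mul_le_mul_left 1920 h1) (Nat.le_of_dvd Nat.card_pos h6)

end J2c
end H25
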