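import Cfsg.Agent.H25.JF
import Cfsg.Agent.H9.ZStarMain
import Cfsg.Agent.H11.Std
import Cfsg.Agent.S1265

/-! From the hypotheses of the recognition theorems for `J₂`, `J₃` to the amalgam: `xs_of`, `xs_of_alt` (no
constraint assumed), `ni_of_simple`, `j2_of_large`, `j1_of_simple`. -/

set_option autoImplicit false

namespace H25
open Subgroup H18 H21 H15 Cfsg
open scoped commutatorElement

variable {G : Type*} [Group G] [Finite G] {z : G}

theorem card_omega4 : Nat.card (Omega (ZMod 2) (quadFormMinus 1 (ZMod 2) 1 1)) = 60 := by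
  have hab : ∀ z₁ z₂ : ZMod 2, z₁ ^ 2 + 1 * z₁ * z₂ + 1 * z₂ ^ 2 = 0 → z₁ = 0 ∧ z₂ = 0 := by decide
  erw [Nat.card_congr (H11.omegaEquiv (H11.qMinus (2 - 1) (ZMod 2) 1 1)).toEquiv]
  have hS := H11.sMinus_nondeg (2 - 1) hab
  have h := H11.sMinus_not_hasTS' (m := 2) (by omega) hab
  have h1 := hS.orth_card_minus (H11.finrank_minus_fun' (m := 2) (by omega)) h
  rw [← (commutator _).index_mul_card, hS.orth_index_commutator_even rfl (.inr (.inr h))] at h1
  simp [Finset.prod_range_succ] at h1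
  exact Nat.eq_of_mul_eq_mul_left two_pos h1

theorem xs_of (hz : orderOf z = 2) (Q : Subgroup C1(z)) [Q.Normal] (hQ : IsExtraspecial 2 Q) (hc : Nat.card Q = 32)
    (h2c : C(Q) ≤ Q) (h : Nat.card (C1(z) ⧸ Q) = 60) : XS z (Q.map C1(z).subtype) where
  hz := hz
  es := (es_map_iff (subtype_injective _)).2 ((isExtraspecial_iff Nat.prime_two).1 hQ).1
  cQ := card_map_subtype.trans hc
  nml := nml_map_subtype
  cent := fun g hg => ⟨⟨g, hg.1⟩, h2c (mem_C.2 fun q hq => Subtype.ext (mem_C.1 hg.2 _ ⟨q, hq, rfl⟩)), rfl⟩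
  cH := by rw [card_eq_card_quotient_mul_card_subgroup Q, h, hc]

theorem ni_of_simple [IsSimpleGroup G] (hz : orderOf z = 2) (Q : Subgroup C1(z)) (hQ : IsExtraspecial 2 Q) :
    ∃ y, IsConj z y ∧ y ∈ C1(z) ∧ y ≠ z := by
  by_contra! h
  have h1 := H9.zstar_center (H9.isolated_of_forall hz fun y h1 h2 => h y h1 (mem_C1.2 h2.symm))
    (H9.pPrimeCore_eq_bot_of_forall fun N hN ho => (hN.eq_bot_or_eq_top).resolve_right fun e => by
      rw [e, card_top, ← Nat.not_even_iff_odd, even_iff_two_dvd, ← hz] at ho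
      exact ho (orderOf_dvd_natCard z))
  rcases (inferInstance : (center G).Normal).eq_bot_or_eq_top with e | e
  · exact H9.ne_one_of_orderOf hz (by simpa [e] using h1)
  · exact ((isExtraspecial_iff Nat.prime_two).1 hQ).2 (cent_iff.2 fun a _ b _ =>
      Subtype.ext (mem_center_iff.1 (e.ge (mem_top _)) _))

theorem xs_of_alt (hz : orderOf z = 2) (E : Subgroup C1(z)) [E.Normal] (hQ : IsExtraspecial 2 E) (hc : Nat.card E = 32)
    (φ : C1(z) ⧸ E ≃* alternatingGroup (Fin 5)) {y : G} (hy : IsConj z y) (hy1 : y ∈ C1(z)) (hy2 : y ≠ z) :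
    XS z (E.map C1(z).subtype) := by
  refine xs_of hz E hQ hc ?_ ((Nat.card_congr φ.toEquiv).trans card_A5)
  let ψ := φ.toMonoidHom.comp (QuotientGroup.mk' E)
  have ψ1 : ∀ g, ψ g = 1 ↔ g ∈ E := fun g => (map_eq_one_iff φ φ.injective).trans (QuotientGroup.eq_one_iff g)
  have ψs : Function.Surjective ψ := φ.surjective.comp (QuotientGroup.mk'_surjective E)
  have nC : C(E).Normal := (nml_cent (H := ⊤) norm_of_normal).normal |> fun h => by rwa [top_inf_eq] at h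
  rcases (nC.map ψ ψs).eq_bot_or_eq_top with e | e
  · exact fun g hg => (ψ1 g).1 (mem_bot.1 (e ▸ mem_map_of_mem ψ hg))
  exfalso
  have dec : ∀ g, ∃ a ∈ E, ∃ c ∈ C(E), g = a * c := fun g => by
    obtain ⟨c, hc, e⟩ := e.ge (mem_top (ψ g))
    exact ⟨g * c⁻¹, (ψ1 _).1 (by rw [map_mul, map_inv, e, mul_inv_cancel]), c, hc, by simp⟩
  obtain ⟨es, na⟩ := (isExtraspecial_iff Nat.prime_two).1 hQ
  let Z : C1(z) := ⟨z, C1_self⟩
  have Zc : ∀ g : C1(z), g * Z = Z * g := fun g => Subtype.ext (mem_C1.1 g.2)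
  have Z1 : Z ≠ 1 := fun e => H9.ne_one_of_orderOf hz (congrArg Subtype.val e)
  have ZE : Z ∈ E := (ψ1 Z).1 (by
    have : ψ Z ∈ center _ := mem_center_iff.2 fun a => by obtain ⟨g, rfl⟩ := ψs a; rw [← map_mul, Zc, map_mul]
    rwa [alternatingGroup.center_eq_bot (by simp), mem_bot] at this)
  have ofZ : ∀ a ∈ Z(E), a = 1 ∨ a = Z := fun a ha => H9.eq_one_or_eq_of_mem_zpowers
    (Subtype.ext (H9.mul_self_of_orderOf hz)) (es.zpowers_eq Nat.prime_two ⟨ZE, mem_C.2 fun g _ => Zc g⟩ Z1 ▸ ha)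
  have key : ∀ p q : C1(z), p ^ 4 = 1 → q ^ 4 = 1 → (p * q) ^ 4 = 1 → ⁅p, q⁆ = 1 ∨ ⁅p, q⁆ = Z := fun p q h1 h2 h3 => by
    have two : ∀ p : C1(z), p ^ 4 = 1 → ψ p * ψ p = 1 := fun p h => Subtype.ext (by
      have := a5_four (ψ p) (Equiv.Perm.mem_alternatingGroup.1 (ψ p).2) (by
        rw [← Subgroup.coe_pow, ← map_pow, h, map_one]; rfl)
      rwa [sq] at this)
    have h4 : ψ ⁅p, q⁆ = 1 := by
      have := two _ h3
      rwa [map_commutatorElement, commutatorElement_def, inv_sq (two p h1), inv_sq (two q h2), mul_assoc, ← map_mul]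
    refine ofZ _ ⟨(ψ1 _).1 h4, ?_⟩
    obtain ⟨a, ha, c, hc, rfl⟩ := dec p
    obtain ⟨b, hb, d, hd, rfl⟩ := dec q
    have : ⁅a * c, b * d⁆ = ⁅a, b⁆ * ⁅c, d⁆ := by
      have e1 := mem_C.1 hc b hb
      have e2 := mem_C.1 (commutator_mem_commutator hc hd |> der_le) _ (inv_mem ha)
      have e3 := mem_C.1 (commutator_mem_commutator hc hd |> der_le) _ (inv_mem hb)
      have e4 := mem_C.1 (inv_mem hd) _ (inv_mem ha)
      calc _ = a * (c * b) * d * c⁻¹ * (a⁻¹ * d⁻¹) * b⁻¹ := by rw [commutatorElement_def]; group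
        _ = a * b * (⁅c, d⁆ * a⁻¹) * b⁻¹ := by rw [← e1, e4, commutatorElement_def]; group
        _ = a * b * a⁻¹ * (⁅c, d⁆ * b⁻¹) := by rw [← e2]; group
        _ = _ := by rw [← e3, commutatorElement_def a]; group
    rw [this]
    exact mul_mem (es.comm_mem ha hb).2 (commutator_mem_commutator hc hd |> der_le)
  obtain ⟨a, ha, c, hc', e1⟩ := dec ⟨y, hy1⟩
  have h16 : ¬ Abel (E ⊓ C1(a)) := fun h => by
    have h1 := es.card_abel_le Nat.prime_two (n := 2) hc h inf_le_left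
    by_cases h2 : a ∈ C(E)
    · exact na (by rwa [inf_eq_left.2 (le_C1_iff.2 h2)] at h)
    · have := es.card_cent Nat.prime_two ha h2
      omega
  rw [Abel, cent_iff] at h16
  push Not at h16
  obtain ⟨p, hp, q, hq, hpq⟩ := h16
  obtain ⟨g, rfl⟩ := isConj_iff.1 hy
  have m : ∀ p ∈ E ⊓ C1(a), g⁻¹ * p * g ∈ C1(z) := fun p hp => by
    rw [← mem_cj, cj_C1]
    have : p * ⟨_, hy1⟩ = ⟨_, hy1⟩ * p := by
      rw [e1, ← mul_assoc, mem_C1.1 hp.2, mul_assoc, mem_C.1 hc' p hp.1, mul_assoc]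
    exact mem_C1.2 (congrArg Subtype.val this)
  have f4 : ∀ p (hp : p ∈ E ⊓ C1(a)), (⟨_, m p hp⟩ : C1(z)) ^ 4 = 1 := fun p hp => Subtype.ext (by
    have := congrArg Subtype.val (es.pow_Z (es.pow_mem hp.1))
    rw [← pow_mul] at this
    simpa using (conj_pow (a := g⁻¹) (b := (p : G)) (i := 4)).trans (by rw [show (p : G) ^ 4 = 1 from this]; simp))
  have h3 := key _ _ (f4 p hp) (f4 q hq) (by
    have := f4 _ (mul_mem hp hq)
    rwa [show (⟨_, m _ (mul_mem hp hq)⟩ : C1(z)) = ⟨_, m p hp⟩ * ⟨_, m q hq⟩ from Subtype.ext (by push_cast; group)] at this)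
  have h4 : ((⁅(⟨_, m p hp⟩ : C1(z)), ⟨_, m q hq⟩⁆ : C1(z)) : G) = g⁻¹ * z * g := by
    have := congrArg Subtype.val ((ofZ _ (es.comm_mem hp.1 hq.1)).resolve_left fun h =>
      hpq (commutatorElement_eq_one_iff_mul_comm.1 h))
    simp only [commutatorElement_def] at this ⊢
    push_cast at this ⊢
    exact Eq.trans (by group) (congrArg (g⁻¹ * · * g) this)
  rcases h3 with h | h <;> rw [h] at h4
  · exact cj_ne (H9.ne_one_of_orderOf hz) g⁻¹ (by rw [inv_inv, ← h4]; rfl)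
  · exact hy2 (by nth_rw 1 [show z = _ from h4]; group)

theorem J1.j2 {a b c d e x t u s : G} (J : J1 z a b c d e x t u s) (h : ¬ IsConj z t) : J2c z a b c d e x t u s :=
  ⟨J, J.cases.resolve_right fun h3 => h (by
    have h1 := cj_odd (L := ⊤) (mem_top s) (mem_top (u * t * u)) J.ss
      (by have := cj_sq1 J.tt u; rwa [inv_sq J.uu] at this) 4
      (by rw [← mul_assoc, ← mul_assoc]; exact h3.pow [4,3,2,3] 9 (by decide +kernel))
    have h2 := cj_odd (L := ⊤) (mem_top d) (mem_top s) J.dd J.ss 1 (J.rel.pow [0,4] 3 (by decide +kernel))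
    exact ((isC J.rz).trans (h2.trans h1).isConj).trans
      (isC (g := u) (by rw [inv_sq J.uu]; simp only [← mul_assoc, J.uu, one_mul]; rw [mul_assoc, J.uu, mul_one])))⟩

theorem J1.j2' {a b c d e x t u s : G} (J : J1 z a b c d e x t u s)
    (h : ∃ x y : G, orderOf x = 2 ∧ orderOf y = 2 ∧ ¬ IsConj x y) : J2c z a b c d e x t u s := J.j2 fun hc => by
  obtain ⟨p, q, hp, hq, h⟩ := h
  have : ∀ y : G, orderOf y = 2 → IsConj y z := fun y hy => (J.inv_cj le_top (mem_top y) (H9.mul_self_of_orderOf hy)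
    (H9.ne_one_of_orderOf hy)).elim Cj.isConj fun h => h.isConj.trans hc.symm
  exact h ((this p hp).trans (this q hq).symm)

theorem j2_of_large (hz : orderOf z = 2) (Q : Subgroup C1(z)) [Q.Normal] (hF : generalizedFittingSubgroup C1(z) = Q)
    (hQ : IsExtraspecial 2 Q) (hcard : Nat.card Q = 2 ^ 5)
    (φ : C1(z) ⧸ Q ≃* Omega (ZMod 2) (quadFormMinus 1 (ZMod 2) 1 1))
    (hnwc : ∃ g : G, (∃ hq : g * z * g⁻¹ ∈ C1(z), (⟨g * z * g⁻¹, hq⟩ : C1(z)) ∈ Q) ∧ g * z * g⁻¹ ≠ z)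
    (hcl : ∃ x y : G, orderOf x = 2 ∧ orderOf y = 2 ∧ ¬ IsConj x y) : ∃ a b c d e x t u s, J2c z a b c d e x t u s := by
  obtain ⟨g, ⟨h1, -⟩, h2⟩ := hnwc
  obtain ⟨a, b, c, d, e, x, t, u, s, J⟩ := (xs_of hz Q hQ hcard (hF ▸ Agent.S1265.result)
    ((Nat.card_congr φ.toEquiv).trans card_omega4)).exists_J1 (isC rfl) h1 h2
  exact ⟨a, b, c, d, e, x, t, u, s, J.j2' hcl⟩

theorem j1_of_simple [IsSimpleGroup G] (hz : orderOf z = 2) (E : Subgroup C1(z)) [E.Normal] (hQ : IsExtraspecial 2 E)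
    (hc : Nat.card E = 32) (φ : C1(z) ⧸ E ≃* alternatingGroup (Fin 5)) : ∃ a b c d e x t u s, J1 z a b c d e x t u s :=
  let ⟨_, h1, h2, h3⟩ := ni_of_simple hz E hQ
  (xs_of_alt hz E hQ hc φ h1 h2 h3).exists_J1 h1 h2 h3

end H25
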