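import Cfsg.Agent.H25.JJ3B0
import Cfsg.Agent.H25.JJ3B1

/-! Coset enumeration certificate JJ3 (3.J3 over 2^(1+4):A5, letters d e t u s x X), definitions. -/
set_option maxRecDepth 8000
set_option Elab.async false
namespace H25.JJ3
open H15 H15.TC

noncomputable def tT : BT := (.node (nat_lit 1243) (.node (nat_lit 621) tT_0 tT_621) (.node (nat_lit 1865) tT_1243 tT_1865))
noncomputable def tP : BT := (.node (nat_lit 1243) tP_0 tP_1243)
noncomputable def tS : BT := tS_0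
def rels : List (List ℕ) := [[nat_lit 0,nat_lit 0],
  [nat_lit 1,nat_lit 1],
  [nat_lit 2,nat_lit 2],
  [nat_lit 3,nat_lit 3],
  [nat_lit 4,nat_lit 4],
  [nat_lit 5,nat_lit 6],
  [nat_lit 5,nat_lit 5,nat_lit 5],
  [nat_lit 0,nat_lit 3,nat_lit 1,nat_lit 3],
  [nat_lit 0,nat_lit 5,nat_lit 0,nat_lit 6],
  [nat_lit 1,nat_lit 2,nat_lit 1,nat_lit 2],
  [nat_lit 1,nat_lit 5,nat_lit 1,nat_lit 6],
  [nat_lit 3,nat_lit 5,nat_lit 3,nat_lit 5],
  [nat_lit 2,nat_lit 3,nat_lit 2,nat_lit 3,nat_lit 2,nat_lit 3],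
  [nat_lit 2,nat_lit 5,nat_lit 2,nat_lit 5,nat_lit 2,nat_lit 5],
  [nat_lit 0,nat_lit 1,nat_lit 0,nat_lit 1,nat_lit 0,nat_lit 1,nat_lit 0,nat_lit 1],
  [nat_lit 0,nat_lit 1,nat_lit 0,nat_lit 2,nat_lit 0,nat_lit 1,nat_lit 0,nat_lit 2],
  [nat_lit 0,nat_lit 1,nat_lit 2,nat_lit 0,nat_lit 6,nat_lit 2,nat_lit 0,nat_lit 5,nat_lit 2,nat_lit 6,nat_lit 0,nat_lit 2,nat_lit 5],
  [nat_lit 4,nat_lit 5,nat_lit 4,nat_lit 6],
  [nat_lit 0,nat_lit 4,nat_lit 0,nat_lit 4,nat_lit 0,nat_lit 4],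
  [nat_lit 0,nat_lit 1,nat_lit 0,nat_lit 1,nat_lit 4,nat_lit 1,nat_lit 4],
  [nat_lit 0,nat_lit 2,nat_lit 0,nat_lit 4,nat_lit 6,nat_lit 2,nat_lit 5,nat_lit 4],
  [nat_lit 0,nat_lit 2,nat_lit 4,nat_lit 0,nat_lit 2,nat_lit 4,nat_lit 0,nat_lit 2,nat_lit 4],
  [nat_lit 0,nat_lit 1,nat_lit 2,nat_lit 0,nat_lit 1,nat_lit 2,nat_lit 0,nat_lit 2,nat_lit 0,nat_lit 2],
  [nat_lit 0,nat_lit 3,nat_lit 4,nat_lit 3,nat_lit 4,nat_lit 1,nat_lit 4,nat_lit 3,nat_lit 4,nat_lit 3],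
  [nat_lit 0,nat_lit 1,nat_lit 4,nat_lit 3,nat_lit 4,nat_lit 0,nat_lit 3,nat_lit 4,nat_lit 3,nat_lit 4,nat_lit 0,nat_lit 3,nat_lit 4,nat_lit 3,nat_lit 4,nat_lit 3,nat_lit 4,nat_lit 3,nat_lit 4,nat_lit 3],
  [nat_lit 4,nat_lit 3,nat_lit 2,nat_lit 3,nat_lit 4,nat_lit 3,nat_lit 2,nat_lit 3,nat_lit 4,nat_lit 3,nat_lit 2,nat_lit 3,nat_lit 4,nat_lit 3,nat_lit 2,nat_lit 3,nat_lit 4,nat_lit 3,nat_lit 2,nat_lit 3,nat_lit 4,nat_lit 3,nat_lit 2,nat_lit 3,nat_lit 4,nat_lit 3,nat_lit 2,nat_lit 3,nat_lit 4,nat_lit 3,nat_lit 2,nat_lit 3,nat_lit 4,nat_lit 3,nat_lit 2,nat_lit 3]]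
def subs : List (List ℕ) := [[nat_lit 0],
  [nat_lit 1],
  [nat_lit 2],
  [nat_lit 3],
  [nat_lit 5]]
noncomputable def row (v : ℕ) : ℕ := mkRow (BT.get tT) (nat_lit 32) (nat_lit 280) (nat_lit 0x10000000000000000000000000000000000000000000000000000000000000000000000) v
noncomputable def DC (c r : ℕ) : List ℕ := ruleC (nat_lit 0xfc00000000000000000000000000000000000000000000000000000000000000000000000000000000001c51840c2040) (nat_lit 280) rels c r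
noncomputable def D1 (r : ℕ) : List ℕ := rule (nat_lit 0xfc00000000000000000000000000000000000000000000000000000000000000000000000000000000001c51840c2040) (rels ++ subs.map (List.cons 63)) r
noncomputable def chk (v : ℕ) : Bool := chkRow row (nat_lit 30) (nat_lit 1073741824) (nat_lit 131072) (nat_lit 0xfc00000000000000000000000000000000000000000000000000000000000000000000000000000000001c51840c2040) (nat_lit 7) (nat_lit 78489) (nat_lit 79551) (nat_lit 23) (nat_lit 8388608) (nat_lit 15872) (nat_lit 240) (nat_lit 15) (nat_lit 32768) DC D1 [nat_lit 0,nat_lit 1,nat_lit 2,nat_lit 3,nat_lit 4,nat_lit 5,nat_lit 6]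
  (mkRow (BT.get tP) (nat_lit 32) (nat_lit 120) (nat_lit 0x1000000000000000000000000000000) v) (Nat.rec 0 (fun j _ => BT.get tS j) (Nat.succ (Nat.div v (nat_lit 32)))) (Nat.succ v)

end H25.JJ3
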