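import Cfsg.Agent.H25.JG
import Cfsg.Agent.H25.JJ3
import Cfsg.Agent.H15.J3
import Cfsg.Agent.H15.Three
import Cfsg.Agent.H9.Bender
import Cfsg.Agent.S0223

/-! Identification with a model: `diag` (homomorphism onto a simple model from an order bound), `rl_of_chk`
(relators in a permutation machine), the amalgam with the relators of `3·J₃` (`J3c`, `J3c.top`, `J3c.iso`). -/

set_option autoImplicit false

namespace H25
open Subgroup H18 H15 Cfsg

variable {G K : Type*} [Group G] [Group K] {z a b c d e x t u s y : G}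

/-- substitution of machine words for letters -/
noncomputable def fl (W : List (List ℕ)) (w : List ℕ) : List ℕ :=
  @List.rec ℕ (fun _ => List ℕ) [] (fun x _ ih => List.append ih (W.getD x [])) w

/-- the values of machine words -/
def wv (gen : ℕ → K) (W : List (List ℕ)) (i : ℕ) : K := H14.ev gen (W.getD i [])

theorem ev_fl (gen : ℕ → K) (W : List (List ℕ)) (w : List ℕ) : H14.ev gen (fl W w) = ev (wv gen W) w := by
  induction w with
  | nil => rfl
  | cons x w ih =>
    have : fl W (x :: w) = fl W w ++ W.getD x [] := rfl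
    rw [this, H14.ev_append, ih, ev_cons]; rfl

theorem rl_of_rels {gen : ℕ → K} {W l : List (List ℕ)} (h : H14.Rels gen (l.map fun w => (fl W w, []))) :
    Rl (wv gen W) l := fun w hw => ev_fl gen W w ▸ h _ (List.mem_map_of_mem hw)

theorem Rl.prod {g : ℕ → G} {k : ℕ → K} {l : List (List ℕ)} (h : Rl g l) (h' : Rl k l) :
    Rl (fun i => (g i, k i)) l := fun w hw =>
  Prod.ext ((map_ev (MonoidHom.fst G K) _ w).trans (h w hw)) ((map_ev (MonoidHom.snd G K) _ w).trans (h' w hw))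

theorem diag [Finite K] [IsSimpleGroup K] {g : ℕ → G} {k : ℕ → K} {A : Set ℕ} (hg : closure (g '' A) = ⊤)
    (hk : closure (k '' A) = ⊤) {N : ℕ} (hb : Bd (closure ((fun i => (g i, k i)) '' A)) N)
    (hN : N < Nat.card K * Nat.card G) : ∃ φ : G →* K, Function.Surjective φ ∧ ∀ i ∈ A, φ (g i) = k i := by
  let D := closure ((fun i => (g i, k i)) '' A)
  let α : D →* G := (MonoidHom.fst _ _).comp D.subtype
  let β : D →* K := (MonoidHom.snd _ _).comp D.subtype
  have hα : Function.Surjective α := MonoidHom.range_eq_top.1 (by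
    rw [MonoidHom.range_comp, range_subtype, MonoidHom.map_closure, Set.image_image]; exact hg)
  have hβ : Function.Surjective β := MonoidHom.range_eq_top.1 (by
    rw [MonoidHom.range_comp, range_subtype, MonoidHom.map_closure, Set.image_image]; exact hk)
  have := hb.finite
  rcases (α.normal_ker.map β hβ).eq_bot_or_eq_top with h | h
  · refine ⟨α.liftOfSurjective hα ⟨β, (Subgroup.map_eq_bot_iff _).1 h⟩, fun y => ?_, fun i hi => ?_⟩
    · obtain ⟨w, rfl⟩ := hβ y
      exact ⟨α w, MonoidHom.liftOfRightInverse_comp_apply _ _ _ _ _⟩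
    · exact MonoidHom.liftOfRightInverse_comp_apply α _ _ _ ⟨_, subset_closure ⟨i, hi, rfl⟩⟩
  · have h1 := α.ker.card_mul_index
    have h2 := Nat.card_le_card_of_surjective _ (β.subgroupMap_surjective α.ker)
    rw [index_ker, MonoidHom.range_eq_top.2 hα, card_top] at h1
    rw [h, card_top] at h2
    exact absurd ((Nat.mul_le_mul_right _ h2).trans (h1.le.trans hb.2)) hN.not_ge

theorem bd3 {g : ℕ → G} (h : Rl g L3) : Bd (G0 g) (1920 * 78489) :=
  (bdH (h.sub (by decide +kernel))).step (JJ3.idx g (h.sub (by decide +kernel)) _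
    (subs_of (m := [0,1,2,3,5,6]) (fun _ => gen_mem_Kl g) (by decide +kernel)))

/-- words for the amalgam in the letters of the machine for `J₃` -/
def W3 : List (List ℕ) := [[2,15,4,4,9,13,5], [19,11,13,7,12,25], [8,23,4,7,15,15,10], [23,17,0,24,9,14,17],
  [15,15,0,12,15,18,18], [16,9,0,15,15,5,24], [25,4,14,14,1,8,17]]

theorem sep3 (S : StdJ3.St K) : S.M.Sep 3 (basePl 6156 [0, 923, 532, 1] 3) :=
  S.M.sep_of_base (fun g => StdJ3.fixw0 S.M (StdJ3.rels_of_all S.rels) g (S.top ▸ mem_top g)) (by decide +kernel)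

theorem chk3 : H14.relsChk 6156 StdJ3.nets 3 (basePl 6156 [0, 923, 532, 1] 3) (L3.map fun w => (fl W3 w, [])) = true := by
  decide +kernel

theorem chk3' : H14.relsChk 6156 StdJ3.nets 3 (basePl 6156 [0, 923, 532, 1] 3)
    [([0], fl W3 [4,1,4]), ([2], fl W3 [6,2,4,2,3,4,2,3,4,3,2,4,2,5])] = true := by decide +kernel

theorem rel3 (S : StdJ3.St K) : Rl (wv S.M.gen W3) L3 := rl_of_rels (S.M.rels_of_chk (sep3 S) chk3)

theorem top3 (S : StdJ3.St K) : G0 (wv S.M.gen W3) = ⊤ := by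
  have h := S.M.rels_of_chk (sep3 S) chk3'
  refine eq_top_iff.2 (S.top ▸ StdJ3.gen_mem S.rels fun l hl => ?_)
  interval_cases l
  · have := h _ (List.mem_cons_self ..)
    rw [ev_fl] at this
    exact H14.ev_single S.M.gen 0 ▸ this ▸ G0.ev _ _
  · have := h _ (List.mem_cons_of_mem _ (List.mem_cons_self ..))
    rw [ev_fl] at this
    exact H14.ev_single S.M.gen 1 ▸ this ▸ G0.ev _ _

/-- the amalgam with the relators of `3·J₃` -/
structure J3c (z a b c d e x t u s : G) : Prop extends J1 z a b c d e x t u s where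
  rel3 : Rl (gS d e t u s x) L3

namespace J3c
variable (J : J3c z a b c d e x t u s)
include J

theorem tz : Cj (G0 (gS d e t u s x)) t z := by
  have hu := J.HG J.mu
  have h1 := cj_odd J.sG (mul_mem (mul_mem hu (J.HG J.mt)) hu) J.ss
    (by have := cj_sq1 J.tt u; rwa [inv_sq J.uu] at this) 4
    (by rw [← mul_assoc, ← mul_assoc]; exact J.rel3.pow [4,3,2,3] 9 (by decide +kernel))
  have h2 := cj_odd (J.HG J.md) J.sG J.dd J.ss 1 (J.rel.pow [0,4] 3 (by decide +kernel))
  exact (Cj.trans ⟨u, hu, by rw [inv_sq J.uu]⟩ (h2.trans h1).symm).trans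
    (Cj.symm ⟨_, mul_mem (mul_mem hu J.sG) hu, J.rz⟩)

variable [Finite G]

theorem inv0 (hy : y ∈ G0 (gS d e t u s x)) (o : orderOf y = 2) : Cj (G0 (gS d e t u s x)) y z :=
  (J.inv_cj le_rfl hy (H9.mul_self_of_orderOf o) (H9.ne_one_of_orderOf o)).elim id (·.trans J.tz)

theorem top [IsSimpleGroup G] : G0 (gS d e t u s x) = ⊤ := by
  by_contra h
  obtain ⟨Q, w, A, hQ⟩ := H9.bender_simple ((Agent.S0223.result _ h (H5.even_of_inv (J.HG C1_self) J.zz J.z1)).2
    ⟨fun y hy o => (J.inv0 hy o).symm.cent J.HG, fun p hp q hq o1 o2 _ => (J.inv0 hp o1).trans (J.inv0 hq o2).symm⟩)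
  have m : ∀ y ∈ G0 (gS d e t u s x), y * y = 1 → y ∈ Q := fun y hy h =>
    (piElt_of_pow_eq_one Nat.prime_two (by rw [sq, h])).mem_of_nml hy A.sd.nml
      (A.sd.relIndex ▸ H5.piNat_two_compl.2 A.odd)
  have h1 := hQ.elt (mul_mem (m d (J.HG J.md) J.dd) (m s J.sG J.ss))
  rw [PiElt, ord_prime (g := d * s) Nat.prime_three (J.rel.pow [0,4] 3 (by decide +kernel)) fun h =>
    J.sH ((mul_mem_cancel_left J.md).1 (h ▸ one_mem _))] at h1
  exact absurd (h1 3 Nat.prime_three dvd_rfl) (by decide)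

theorem iso [IsSimpleGroup G] (S : StdJ3.St K) :
    ∃ φ : G ≃* K, ∀ i < 7, φ (gS d e t u s x i) = wv S.M.gen W3 i := by
  have := S.finite
  have := StdJ3.St.simple S
  obtain ⟨φ, h1, h2⟩ := diag J.top (top3 S) (bd3 (J.rel3.prod (H25.rel3 S))) (by
    have := Nat.le_of_dvd Nat.card_pos (card_subgroup_dvd_card C1(z))
    rw [J.rt.card] at this
    rw [S.card]; omega)
  refine ⟨MulEquiv.ofBijective φ ⟨φ.ker_eq_bot_iff.1 (φ.normal_ker.eq_bot_or_eq_top.resolve_right fun h => ?_), h1⟩, h2⟩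
  obtain ⟨k, hk⟩ := exists_ne (1 : K)
  obtain ⟨g, rfl⟩ := h1 k
  exact hk (h.ge (mem_top g))

theorem isoJ3 [IsSimpleGroup G] : Spor.IsoJ3 G := by
  classical
  have := Fintype.ofFinite (GaloisField 2 2)
  have hF : Fintype.card (GaloisField 2 2) = 4 := by
    rw [← Nat.card_eq_fintype_card, GaloisField.card 2 2 two_ne_zero]; rfl
  obtain ⟨-, ω, hω⟩ := exists_w4 hF
  obtain ⟨S⟩ := J3.std (hω := hω) hF
  obtain ⟨φ, -⟩ := J.iso S
  exact ⟨_, _, _, ω, hF, hω, ⟨φ⟩⟩

theorem card [IsSimpleGroup G] : Nat.card G = 50232960 :=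
  let ⟨S⟩ := StdJ3.std
  let ⟨φ, _⟩ := J.iso S
  (Nat.card_congr φ.toEquiv).trans S.card

end J3c

theorem J1.j3 [Finite G] (J : J1 z a b c d e x t u s) (h : IsConj z t) : J3c z a b c d e x t u s :=
  ⟨J, J.cases.resolve_left fun h2 => J2c.nc ⟨J, h2⟩ h⟩

theorem J1.j3' [Finite G] (J : J1 z a b c d e x t u s)
    (h : ∀ x y : G, orderOf x = 2 → orderOf y = 2 → IsConj x y) : J3c z a b c d e x t u s :=
  J.j3 (h _ _ (H9.orderOf_eq_two.2 ⟨J.zz, J.z1⟩) (H9.orderOf_eq_two.2 ⟨J.tt, J.nes.2.2.2.2.2.2.1⟩))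

end H25
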