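import Cfsg.Agent.H25.JL
import Cfsg.Agent.H25.JS3
import Cfsg.Agent.H1.Harv3
import Cfsg.Agent.H9.InvCount

/-! Subgroups of `J₃`: `hom_of` (homomorphism out of a group of maximal order), the subgroup `L₂(16):2` (`exists_l216`),
Sylow subgroups of prime order (`sylp`, `syl_fin`) and the normalizers `17:8`, `19:9`. -/

set_option autoImplicit false

namespace H25
open Subgroup H18 H15 Cfsg Matrix

variable {G K : Type*} [Group G] [Group K] {y w : G} {P : Subgroup G} {p : ℕ}

theorem hom_of [Finite K] {g : ℕ → G} {k : ℕ → K} {A : Set ℕ} (hk : closure (k '' A) = ⊤)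
    (hb : Bd (closure ((fun i => (g i, k i)) '' A)) (Nat.card K)) :
    ∃ φ : K →* G, φ.range = closure (g '' A) ∧ ∀ i ∈ A, φ (k i) = g i := by
  let D := closure ((fun i => (g i, k i)) '' A)
  let α : D →* G := (MonoidHom.fst _ _).comp D.subtype
  let β : D →* K := (MonoidHom.snd _ _).comp D.subtype
  have hβ : Function.Surjective β := MonoidHom.range_eq_top.1 (by
    rw [MonoidHom.range_comp, range_subtype, MonoidHom.map_closure, Set.image_image]; exact hk)
  have := hb.finite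
  let e := MulEquiv.ofBijective β (hβ.bijective_of_nat_card_le hb.2)
  have h : ∀ i ∈ A, α.comp e.symm.toMonoidHom (k i) = g i := fun i hi =>
    congrArg α (e.symm_apply_apply ⟨_, subset_closure ⟨i, hi, rfl⟩⟩)
  refine ⟨_, ?_, h⟩
  rw [MonoidHom.range_eq_map, ← hk, MonoidHom.map_closure, Set.image_image, Set.image_congr h]

theorem bd16 {g : ℕ → G} (h : Rl g P1.rels) : Bd (closure (g '' Set.Iio 3)) 4080 :=
  ((Bd.nil g).step (idx_ren (fun g => P2.idx g) [1,2] rfl (rel_ren h (by decide +kernel)) _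
    (sub_ren g (by decide +kernel)))).step (P1.idx g h _ (subs_of (m := [1,2]) (fun _ => gen_mem_Kl g) (by decide +kernel)))

/-- arithmetic in the field with sixteen elements -/
noncomputable def c16 : Ar Unit := cE 2 1 3 3 (by decide)

theorem ar_16 {F : Type*} [Field F] [Fintype F] (h : Fintype.card F = 16) : ∃ a : Ar F, Ok a c16 2 := by
  classical
  have h2 : (2 : F) = 0 := cast_eq_zero_of_card (p := 2) (k := 4) h
  obtain ⟨x, hx⟩ := IsCyclic.exists_ofOrder_eq_natCard (α := Fˣ)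
  rw [Nat.card_units, Nat.card_eq_fintype_card, h, ← orderOf_units] at hx
  have h1 := pow_orderOf_eq_one (x : F)
  have h3 := pow_ne_one_of_lt_orderOf (x := (x : F)) (n := 3) (by decide) (by omega)
  have h5 := pow_ne_one_of_lt_orderOf (x := (x : F)) (n := 5) (by decide) (by omega)
  rw [hx] at h1
  generalize (x : F) = x at *
  have : (x ^ 5 - 1) * ((x ^ 3 - 1) * ((x ^ 4 + x + 1) * (x ^ 4 + x ^ 3 + 1))) = 0 := by
    linear_combination (x - 1) * h1 + (x ^ 15 + x ^ 12 - x ^ 10 - x ^ 9 - x ^ 7 - x ^ 6 + x ^ 4 + x) * h2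
  have e : ∀ ω : F, vE ω 1 (3 + 1) 3 = 1 + ω := fun ω => by simp [vE, Finset.sum_range_succ, fld_eq]
  obtain ⟨ω, hω⟩ : ∃ ω : F, vE ω 1 (3 + 1) 3 = ω ^ (3 + 1) := by
    rcases mul_eq_zero.1 ((mul_eq_zero.1 ((mul_eq_zero.1 this).resolve_left (sub_ne_zero.2 h5))).resolve_left
      (sub_ne_zero.2 h3)) with h4 | h4
    · exact ⟨x, by rw [e]; linear_combination h4 - x ^ 4 * h2⟩
    · exact ⟨x ^ 3 + x ^ 2, by
        rw [e]
        linear_combination (1 + x ^ 2 + x ^ 4 + x ^ 5 + x ^ 6 + x ^ 7 + x ^ 8) * h4 - (x ^ 4 + x ^ 5 + x ^ 6 + x ^ 7 +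
          2 * x ^ 8 + 3 * x ^ 9 + 4 * x ^ 10 + 3 * x ^ 11 + x ^ 12) * h2⟩
  exact ⟨arE 2 1 3 3 (Nat.cast_ofNat.trans h2) (by decide) hω, rfl,
    Ar.inj_of_chk _ arE_red (c := c16) rfl (m := 1) (k := 14) (by decide +kernel), Nat.cast_ofNat.trans h2⟩

theorem simple_sl {F : Type} [Field F] [Fintype F] (h2 : (2 : F) = 0) (h : 4 ≤ Fintype.card F) :
    IsSimpleGroup (SpecialLinearGroup (Fin 2) F) := by
  have h1 := ProjectiveSpecialLinearGroup.rank_two_simple (F := F) (by rwa [Nat.card_eq_fintype_card])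
  have h3 : center (SpecialLinearGroup (Fin 2) F) = ⊥ := eq_bot_iff.2 fun g hg => by
    obtain ⟨r, hr, e⟩ := Matrix.SpecialLinearGroup.mem_center_iff.1 hg
    have : (r - 1) ^ 2 = 0 := by
      rw [Fintype.card_fin] at hr
      linear_combination hr + (1 - r) * h2
    rw [sub_eq_zero.1 (pow_eq_zero_iff'.1 this).1, map_one] at e
    exact Subtype.ext e.symm
  exact ((QuotientGroup.quotientMulEquivOfEq h3).trans QuotientGroup.quotientBot).symm.isSimpleGroup

theorem exists_gen16 {F : Type} [Field F] [Fintype F] (hF : Fintype.card F = 16) :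
    ∃ k : ℕ → SpecialLinearGroup (Fin 2) F, Rl k P1.rels ∧ closure (k '' Set.Iio 3) = ⊤ ∧
      Nat.card (SpecialLinearGroup (Fin 2) F) = 4080 := by
  obtain ⟨a, ha⟩ := ar_16 hF
  have := simple_sl (F := F) (Nat.cast_ofNat.symm.trans ha.2.2) (by omega)
  have hc : Nat.card (SpecialLinearGroup (Fin 2) F) = 4080 := by
    have := Agent.S0242.result hF 2 one_le_two
    simp only [Fin.prod_univ_two, Fin.val_zero, Fin.val_one] at this
    omega
  obtain ⟨M⟩ := (mem_sl (Equiv.refl (Fin 2)) ha.1 ha.2.2 Nat.prime_two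
    (L := [(0x1011, 0x1011), (0x10e1, 0x10e1), (0x1101, 0x1101)]) (by decide +kernel)).mm ha.1 (by decide +kernel)
  have R : Rl (wv M.gen [[0],[2],[4]]) P1.rels :=
    rl_of_rels (M.rels' ha.1 (Units.val_injective.comp SpecialLinearGroup.toGL_injective) (by decide +kernel))
  have N : ∀ u v t, (Nat.blt t (2 * 2) && c16.neAt t (c16.evM 2 _ (fl [[0],[2],[4]] u))
      (c16.evM 2 _ (fl [[0],[2],[4]] v))) = true → evL (wv M.gen [[0],[2],[4]]) u ≠ evL (wv M.gen [[0],[2],[4]]) v :=
    fun u v t h => by rw [evL_eq, evL_eq, ← ev_fl, ← ev_fl]; exact M.ne ha h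
  refine ⟨_, R, by_contra fun h => ?_, hc⟩
  have m : ∀ i < 3, wv M.gen [[0],[2],[4]] i ∈ closure (wv M.gen [[0],[2],[4]] '' Set.Iio 3) :=
    fun i hi => subset_closure ⟨i, hi, rfl⟩
  have m0 := m 0 (by decide)
  have m1 := m 1 (by decide)
  have m2 := m 2 (by decide)
  have r0 := R.get [0,0] (by decide +kernel)
  have r1 := R.get [1,1] (by decide +kernel)
  have d4 := card_dvd (kl_le m0 m1)
  have d3 := orderOf_dvd_card (mul_mem m0 m2)
  have d5 := orderOf_dvd_card (pow_mem (mul_mem m1 m2) 3)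
  have d17 := orderOf_dvd_card (mul_mem (mul_mem m0 m1) m2)
  rw [Kl4.card ⟨r0, r1, by
    have := R.get [0,1,0,1] (by decide +kernel)
    rw [← inv_sq (show _ * _ * (_ * _) = 1 from (mul_assoc _ _ _).symm.trans this), _root_.mul_inv_rev, inv_sq r0, inv_sq r1],
    N [0] [] 1 (by decide +kernel), N [1] [] 1 (by decide +kernel), N [0] [1] 1 (by decide +kernel)⟩] at d4
  erw [ord_prime Nat.prime_three (R.pow [0,2] 3 (by decide +kernel)) (N [0,2] [] 1 (by decide +kernel))] at d3
  rw [ord_prime Nat.prime_five (by rw [← pow_mul]; exact R.pow [1,2] 15 (by decide +kernel))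
    (by simp only [pow_three, ← mul_assoc]; exact N [1,2,1,2,1,2] [] 1 (by decide +kernel))] at d5
  erw [ord_prime (p := 17) (by norm_num) (R.pow [0,1,2] 17 (by decide +kernel)) (N [0,1,2] [] 1 (by decide +kernel))] at d17
  have h1 := H9.card_dvd_factorial_index h
  have h2 := (closure (wv M.gen [[0],[2],[4]] '' Set.Iio 3)).card_mul_index
  have h3 := card_pos' (H := closure (wv M.gen [[0],[2],[4]] '' Set.Iio 3))
  rw [hc] at h1 h2
  have h4 : 1020 ≤ Nat.card (closure (wv M.gen [[0],[2],[4]] '' Set.Iio 3)) := by omega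
  have h5 := Nat.le_of_dvd (Nat.factorial_pos 4) (h1.trans (Nat.factorial_dvd_factorial (by nlinarith)))
  simp [Nat.factorial] at h5

theorem stab3 (S : StdJ3.St G) : Nat.card (MulAction.stabilizer G (S.M.dec 0)) = 8160 := by
  have h := StdJ3.stab0 S.M (StdJ3.rels_of_all S.rels)
  rw [S.top, top_inf_eq] at h
  rw [h, StdJ3.card1 S.M (StdJ3.rels_of_all S.rels)]

theorem exists_l216 (S : StdJ3.St G) : ∃ (H : Subgroup G) (N : Subgroup H) (K : Type) (_ : Field K) (_ : Fintype K),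
    N.Normal ∧ N.index = 2 ∧ Fintype.card K = 16 ∧ Nonempty (N ≃* SpecialLinearGroup (Fin 2) K) := by
  have := Fintype.ofFinite (GaloisField 2 4)
  have hF : Fintype.card (GaloisField 2 4) = 16 := by
    rw [← Nat.card_eq_fintype_card, GaloisField.card 2 4 (by decide)]; rfl
  have := simple_sl (F := GaloisField 2 4) CharTwo.two_eq_zero (by omega)
  obtain ⟨k, R, h1, hc⟩ := exists_gen16 hF
  have R' : Rl (wv S.M.gen [[17,23,18],[16,22,18],[10]]) P1.rels :=
    rl_of_rels (S.M.rels_of_chk (sep3 S) (by decide +kernel))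
  obtain ⟨φ, h2, h3⟩ := hom_of h1 (hc ▸ bd16 (R'.prod R))
  have e := MonoidHom.ofInjective (inj_of_simple φ (g := k 2) (h3 2 (by decide) ▸
    ne_one_of_move S.M (w := [10]) (b := 923) (by decide) (by decide +kernel)))
  have le : φ.range ≤ MulAction.stabilizer G (S.M.dec 0) := by
    have f := S.M.fix_sound (ws := [[17,23,18],[16,22,18],[10]]) (b := 0) (by decide) (by decide +kernel)
    rw [h2, closure_le]
    rintro _ ⟨i, hi, rfl⟩
    have : i < 3 := hi
    interval_cases i <;> exact f (H14.ev_mem_sub _ (by decide))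
  have e' := (subgroupOfEquivOfLe le).trans e.symm
  have h4 := (φ.range.subgroupOf (MulAction.stabilizer G (S.M.dec 0))).card_mul_index
  rw [Nat.card_congr e'.toEquiv, hc, stab3] at h4
  exact ⟨_, _, _, _, _, normal_of_index_eq_two (by omega), by omega, hF, ⟨e'⟩⟩

theorem fix_sub {Ω : Type*} [MulAction G Ω] {n : ℕ} {L : List H14.Net} (M : H14.PM G Ω n L) {w : List ℕ} {A B : ℕ}
    {sc : List (List ℕ)} (h : (Nat.beq (Nat.land A (H14.runW (H14.letN L) w A)) 0 &&
      H14.subs (H14.full n) (Nat.lor B (H14.orbRun L [w] sc A))) = true) {x : Ω} (hx : H14.ev M.gen w • x = x) :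
    x ∈ M.S B := by
  rw [Bool.and_eq_true, Nat.beq_eq] at h
  refine ((M.mem_S_lor _ _ x).1 (M.S_mono h.2 ((H14.testBit_full n _).trans (decide_eq_true (M.enc_lt x))))).resolve_right
    fun h1 => ?_
  obtain ⟨g, hg, a, ha, rfl⟩ := M.orb_sound _ _ _ h1
  have h2 : g ∈ C1(H14.ev M.gen w) := (H14.sub_le _).2 (by simp [C1_self]) hg
  rw [← mul_smul, ← mem_C1.1 h2, mul_smul, smul_left_cancel_iff] at hx
  have h3 : a ∈ M.S (H14.runW (H14.letN L) w A) := (M.mem_S_runW w A a).2 (by rwa [inv_smul_eq_iff.2 hx.symm])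
  have h4 := congrArg (·.testBit (M.enc a)) h.1
  simp only [show ∀ a b, Nat.land a b = a &&& b from fun _ _ => rfl, Nat.testBit_and, Nat.zero_testBit] at h4
  rw [M.mem_S.1 ha, M.mem_S.1 h3] at h4
  exact absurd h4 (by decide)

variable [Finite G]

theorem sylp (hp : p.Prime) (hc : Nat.card P = p) (hP : Hall {p} P ⊤) {n : ℕ} (hG : Nat.card G = p * n) :
    ∃ k j, Nat.card C(P) = p * k ∧ Nat.card N(P) = p * (k * j) ∧ j ∣ p - 1 ∧ C(P).relIndex N(P) = j ∧
      k * j ≡ n [MOD p] := by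
  have := Fact.mk hp
  have := isCyclic_of_prime_card hc
  obtain ⟨k, hk⟩ := card_dvd (show P ≤ C(P) from Cyc.abel this)
  have h1 := relIndex_C_dvd_card_aut (le_refl N(P))
  rw [IsCyclic.card_mulAut, hc, Nat.totient_prime hp] at h1
  have h2 : Nat.card N(P) = p * (k * C(P).relIndex N(P)) := by rw [← mul_assoc, ← hc, ← hk, card_mul_relIndex C_le_N]
  have h3 := N(P).card_mul_index
  have h4 := (H1.relIndex_N_modEq hp hP).mul_left (k * C(P).relIndex N(P))
  rw [h2, hG, mul_assoc, Nat.mul_right_inj hp.ne_zero] at h3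
  rw [relIndex_top_right, h3, mul_one] at h4
  exact ⟨k, _, hc ▸ hk, h2, h1, rfl, h4.symm⟩

theorem syl_fin (hp : p.Prime) (hc : Nat.card P = p) (hC : C(P) = P) {j : ℕ} (hj : C(P).relIndex N(P) = j) :
    ∃ _ : (P.subgroupOf N(P)).Normal, IsCyclic (N(P) ⧸ P.subgroupOf N(P)) ∧ Nat.card (N(P) ⧸ P.subgroupOf N(P)) = j := by
  have := H1.isCyclic_mulAut hp hc
  refine ⟨inferInstance, ?_, by rwa [hC] at hj⟩
  have e := (QuotientGroup.quotientMulEquivOfEq (by rw [normalizerMonoidHom_ker, hC])).symm.trans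
    (QuotientGroup.quotientKerEquivRange P.normalizerMonoidHom)
  exact isCyclic_of_surjective _ e.symm.surjective

theorem odd_C (hI : ∀ v : G, orderOf v = 2 → Nat.card C1(v) = 1920) (hc : ¬ Nat.card P ∣ 1920) :
    ¬ 2 ∣ Nat.card C(P) := fun h => by
  obtain ⟨v, hv, o⟩ := cauchy Nat.prime_two h
  exact hc (hI v o ▸ card_dvd (le_C1_iff.2 hv))

theorem hall_of_prime (hp : p.Prime) (hc : Nat.card P = p) {n : ℕ} (hG : Nat.card G = p * n) (hn : ¬ p ∣ n) :
    Hall {p} P ⊤ := by
  refine ⟨le_top, piGrp_of_card_pow hp (n := 1) (by rw [hc, pow_one]), (piNat_compl_iff hp).2 ?_⟩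
  have := P.card_mul_index
  rw [hc, hG, Nat.mul_right_inj hp.ne_zero] at this
  rwa [relIndex_top_right, this]

theorem syl17 (S : StdJ3.St G) (hI : ∀ v : G, orderOf v = 2 → Nat.card C1(v) = 1920) (hc : Nat.card P = 17) :
    C(P) = P ∧ C(P).relIndex N(P) = 8 := by
  have hp : Nat.Prime 17 := by norm_num
  have hG : Nat.card G = 17 * 2954880 := S.card
  have oy : orderOf (H14.ev S.M.gen [8]) = 17 := ord_prime hp (H14.pow_eq_one_of_rels (S.M.rels_of_chk (sep3 S)
    (by decide +kernel))) (ne_one_of_move S.M (b := 923) (by decide) (by decide +kernel))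
  have hP := hall_of_prime hp hc hG (by decide)
  obtain ⟨g, -, e⟩ := sylow_conj hp hP (hall_of_prime hp (card_zpowers'.trans oy) hG (by decide))
  have fy : H14.ev S.M.gen [8] • S.M.dec 0 = S.M.dec 0 :=
    S.M.fix_sound (ws := [[8]]) (b := 0) (by decide) (by decide +kernel) (H14.ev_mem_sub _ (by decide))
  have h1 := H14.PM.card_eq_mul N(zpowers (H14.ev S.M.gen [8])) (S.M.dec 0)
  have h2 := Set.ncard_le_ncard (s := {y | ∃ g ∈ N(zpowers (H14.ev S.M.gen [8])), g • S.M.dec 0 = y})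
    (t := S.M.S (2 ^ 6140 + 1)) (by
      rintro _ ⟨n, hn, rfl⟩
      refine fix_sub S.M (w := [8]) (A := 0x20000000000000000100000000000000000000000a00000000000000000000000000020000000000000000000000000000000000000000000000000002010000040000001000000000000000000000000000010000000080000000000000000000000000000000000000a000000000010000040002000000800000001000004000000000000000000000000000008000900001000010000001000600000000000000000000000080000040008023001000210a2000308000840000020000420050a0030000000100800014040020000000014120009023401008004001200000000c400000c0200802441000220000100008a2b48a200001800400401a200a0224040210000c5cd009e007841009a09090052000200661847186c134a2380103040209a40b46242090c0a124418702101f43328c0480d04301a4803ef498679a7972889730e818f298d4f29f6093e9f7a74ce766634fa770e)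
        (sc := [[0], [0,0], [0,0,0,0], [0,0,0,0,0,0,0,0], [0]]) (by decide +kernel) ?_
      have : n⁻¹ * H14.ev S.M.gen [8] * n⁻¹⁻¹ ∈ MulAction.stabilizer G (S.M.dec 0) :=
        zpowers_le.2 fy (conj_mem_N (inv_mem hn) (mem_zpowers _))
      rwa [MulAction.mem_stabilizer_iff, inv_inv, mul_smul, mul_smul, inv_smul_eq_iff] at this)
    (have := S.M.finite; Set.toFinite _)
  rw [S.M.ncard_S, show H14.pop 6156 (2 ^ 6140 + 1) = 2 by decide +kernel] at h2
  have h3 := card_dvd (inf_le_right (a := N(zpowers (H14.ev S.M.gen [8]))) (b := MulAction.stabilizer G (S.M.dec 0)))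
  have h4 : Nat.card N(P) ∣ 8160 * 2 := by
    have := card_pos' (H := N(zpowers (H14.ev S.M.gen [8])))
    rw [← card_cj (g := g), cj_N, ← e, h1]
    refine mul_dvd_mul (stab3 S ▸ h3) ?_
    rw [h1] at this
    generalize Set.ncard _ = m at *
    interval_cases m <;> simp at this ⊢
  obtain ⟨k, j, c1, c2, c3, c4, c5⟩ := sylp hp hc hP hG
  have c6 := odd_C hI (P := P) (by rw [hc]; decide)
  rw [c2, show 8160 * 2 = 17 * 960 from rfl, Nat.mul_dvd_mul_iff_left hp.pos] at h4
  have c7 := (by decide +kernel : ∀ m ∈ Nat.divisors 960, m % 17 = 2954880 % 17 → m = 8 ∨ m = 960) _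
    (Nat.mem_divisors.2 ⟨h4, by decide⟩) c5
  have c8 := Nat.le_of_dvd (by decide) c3
  rw [c1] at c6
  have : k = 1 ∧ j = 8 := by interval_cases j <;> omega
  exact ⟨(eq_of_card_ge (Cyc.abel (haveI := Fact.mk hp; isCyclic_of_prime_card hc)) (by rw [c1, hc, this.1])).symm, this.2 ▸ c4⟩

theorem syl19 (S : StdJ3.St G) (hI : ∀ v : G, orderOf v = 2 → Nat.card C1(v) = 1920) (hc : Nat.card P = 19) :
    C(P) = P ∧ C(P).relIndex N(P) = 9 := by
  have hp : Nat.Prime 19 := by norm_num
  have hG : Nat.card G = 19 * 2643840 := S.card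
  have R := S.M.rels_of_chk (sep3 S) (l := [(H14.powW [4] 19, []), (H14.conjW [4] [25,5,22,14,22,2], H14.powW [4] 4)])
    (by decide +kernel)
  have r1 := R _ (List.mem_cons_self ..)
  have r2 := R _ (List.mem_cons_of_mem _ (List.mem_cons_self ..))
  have n1 := ne_one_of_move S.M (w := H14.powW [4] 6) (b := 0) (by decide) (by decide +kernel)
  simp only [H14.ev_powW, H14.ev_conjW, H14.ev_nil] at r1 r2 n1
  generalize H14.ev S.M.gen [4] = y, H14.ev S.M.gen [25,5,22,14,22,2] = w at r1 r2 n1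
  have hP := hall_of_prime hp hc hG (by decide)
  obtain ⟨g, -, e⟩ := sylow_conj hp (hall_of_prime hp (card_zpowers'.trans (ord_prime hp r1 fun h =>
    n1 (by rw [h, one_pow]))) hG (by decide)) hP
  obtain ⟨k, j, c1, c2, c3, c4, c5⟩ := sylp hp hc hP hG
  have c6 := odd_C hI (P := P) (by rw [hc]; decide)
  have c7 : ¬ 17 ∣ Nat.card C(P) := fun h => by
    obtain ⟨v, hv, o⟩ := cauchy (by norm_num) h
    have h1 := (syl17 S hI (card_zpowers'.trans o)).1
    have h2 := card_dvd (cent_symm (zpowers_le.2 hv))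
    rw [h1, hc, card_zpowers', o] at h2
    omega
  have c8 : ¬ j ∣ 3 := fun h => by
    have m : g * w * g⁻¹ ∈ N(P) := by
      rw [e, ← cj_N]
      exact conj_mem_cj (mem_N_of_cj_le (by rw [cj_zpowers, zpowers_le, r2]; exact pow_mem (mem_zpowers y) 4))
    have h1 : (g * w * g⁻¹) ^ j ∈ C(P) := c4 ▸
      haveI := (nml_C_N (H := P)).subgroupOf_normal; (C(P).subgroupOf N(P)).pow_index_mem ⟨_, m⟩
    obtain ⟨c, hc⟩ := h
    have h2 := mem_C.1 (pow_mem h1 c) _ (e ▸ conj_mem_cj (mem_zpowers y))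
    rw [← pow_mul, ← hc, conj_pow, conj_mul, conj_mul, mul_left_inj, mul_right_inj] at h2
    have h3 : w ^ 3 * y * (w ^ 3)⁻¹ = y ^ 64 := by
      rw [pow_three]
      exact cj_comp (cj_comp r2 (by rw [← conj_pow, r2])) (by rw [← conj_pow, ← conj_pow, r2, ← pow_mul, ← pow_mul])
    rw [← h2, mul_inv_cancel_right, show 64 = 19 * 3 + 6 + 1 from rfl, pow_succ, pow_add, pow_mul, r1] at h3
    exact n1 (by simpa using h3.symm)
  have c9 := card_subgroup_dvd_card N(P)
  rw [c2, hG, Nat.mul_dvd_mul_iff_left hp.pos] at c9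
  rw [c1] at c6 c7
  have c10 : k ∣ 1215 := (Nat.Coprime.dvd_mul_left (m := 2 ^ 7 * 17) (Nat.Coprime.mul_right (Nat.Coprime.pow_right 7
    ((Nat.prime_two.coprime_iff_not_dvd.2 fun h => c6 (h.mul_left _)).symm))
    (((by norm_num : Nat.Prime 17).coprime_iff_not_dvd.2 fun h => c7 (h.mul_left _)).symm))).1 (dvd_of_mul_right_dvd c9)
  have := (by decide +kernel : ∀ k ∈ Nat.divisors 1215, ∀ j ∈ Nat.divisors 18, k * j ∣ 2643840 →
    k * j % 19 = 2643840 % 19 → ¬ j ∣ 3 → k = 1 ∧ j = 9) k (Nat.mem_divisors.2 ⟨c10, by decide⟩) j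
    (Nat.mem_divisors.2 ⟨c3, by decide⟩) c9 c5 c8
  exact ⟨(eq_of_card_ge (Cyc.abel (haveI := Fact.mk hp; isCyclic_of_prime_card hc)) (by rw [c1, hc, this.1])).symm, this.2 ▸ c4⟩

theorem J3c.std [IsSimpleGroup G] {z a b c d e x t u s : G} (J : J3c z a b c d e x t u s) : Nonempty (StdJ3.St G) :=
  let ⟨S⟩ := StdJ3.std
  let ⟨φ, _⟩ := J.iso S
  let ⟨S', _⟩ := S.congr φ
  ⟨S'⟩

theorem J3c.cent [IsSimpleGroup G] {z a b c d e x t u s : G} (J : J3c z a b c d e x t u s) (v : G)
    (o : orderOf v = 2) : Nat.card C1(v) = 1920 := by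
  obtain ⟨g, -, rfl⟩ := (J.inv0 (J.top ▸ mem_top v) o).symm
  rw [← cj_C1, card_cj, J.rt.card]

end H25
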