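import Cfsg.Agent.H25.JM
import Cfsg.Agent.H15.J2

/-! The amalgam with the relators of `J₂` generates the Hall-Janko group (`J2c.iso`, `J2c.isoJ2`, `J2c.std`). -/

set_option autoImplicit false

namespace H25
open Subgroup H18 H15 Cfsg

variable {G K : Type*} [Group G] [Group K] {z a b c d e x t u s : G}

theorem bd2 {g : ℕ → G} (h : Rl g L2) : Bd (G0 g) 604800 :=
  (bdH (h.sub (by decide +kernel))).step (JJ2.idx g (h.sub (by decide +kernel)) _
    (subs_of (m := [0,1,2,3,5,6]) (fun _ => gen_mem_Kl g) (by decide +kernel)))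

/-- words for the amalgam in the letters of the machine for `J₂` -/
def W2 : List (List ℕ) := [[3,14,20,2], [0,9,15,0,12], [7,7,18,3,23], [7,7,14,13], [2,19,20,3], [18,3,23,6], [7,22,2,19]]

theorem sep2 (S : StdJ2.St K) : S.M.Sep 3 (basePl 100 [0, 1, 2, 7, 4] 3) :=
  S.M.sep_of_base (fun g => StdJ2.fixw0 S.M (StdJ2.rels_of_all S.rels) g (S.top ▸ mem_top g)) (by decide +kernel)

theorem relJ2 (S : StdJ2.St K) : Rl (wv S.M.gen W2) L2 := rl_of_rels (S.M.rels_of_chk (sep2 S) (by decide +kernel))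

theorem top2 (S : StdJ2.St K) : G0 (wv S.M.gen W2) = ⊤ := by
  have h := S.M.rels_of_chk (sep2 S) (l := [([0], fl W2 [3,4,2,3,4,3,4,3,2,4,2,6,2]), ([2], fl W2 [6,3,4,2,6,3,0,4,3,2,0])])
    (by decide +kernel)
  refine eq_top_iff.2 (S.top ▸ StdJ2.gen_mem S.rels fun l hl => ?_)
  interval_cases l
  · have := h _ (List.mem_cons_self ..)
    rw [ev_fl] at this
    exact H14.ev_single S.M.gen 0 ▸ this ▸ G0.ev _ _
  · have := h _ (List.mem_cons_of_mem _ (List.mem_cons_self ..))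
    rw [ev_fl] at this
    exact H14.ev_single S.M.gen 1 ▸ this ▸ G0.ev _ _

theorem iso2 (S : StdJ2.St K) {g : ℕ → G} (h : Rl g L2) (h1 : g 0 ≠ 1) :
    ∃ φ : K →* G, Function.Injective φ ∧ φ.range = G0 g ∧ ∀ i < 7, φ (wv S.M.gen W2 i) = g i := by
  have := S.finite
  have := StdJ2.St.simple S
  obtain ⟨φ, h2, h3⟩ := hom_of (top2 S) (by rw [S.card]; exact bd2 (h.prod (relJ2 S)))
  exact ⟨φ, inj_of_simple φ (h3 0 (by decide) ▸ h1), h2, h3⟩

namespace J2c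
variable [Finite G] (J : J2c z a b c d e x t u s)
include J

theorem iso (S : StdJ2.St K) : ∃ φ : K ≃* G, ∀ i < 7, φ (wv S.M.gen W2 i) = gS d e t u s x i :=
  let ⟨φ, h1, h2, h3⟩ := iso2 S J.rel2 fun h => J.nes2.2.2.1 (by rw [show d = 1 from h, one_mul, mul_one])
  ⟨MulEquiv.ofBijective φ ⟨h1, MonoidHom.range_eq_top.1 (h2.trans J.top)⟩, h3⟩

theorem isoJ2 : Spor.IsoJ2 G :=
  let ⟨S⟩ := J2.std
  let ⟨φ, _⟩ := J.iso S
  ⟨φ.symm⟩

theorem std : ∃ S : StdJ2.St G, ∀ i < 7, wv S.M.gen W2 i = gS d e t u s x i := by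
  obtain ⟨S⟩ := StdJ2.std
  obtain ⟨φ, h⟩ := J.iso S
  obtain ⟨S', h'⟩ := S.congr φ.symm
  refine ⟨S', fun i hi => φ.symm.injective ?_⟩
  rw [← h i hi, φ.symm_apply_apply, ← funext h']
  exact H14.map_ev φ.symm.toMonoidHom _

end J2c
end H25
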