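import Cfsg.Agent.H25.JN
import Cfsg.Agent.H14.Obj5

/-! Local computations in the machine for `J₂`: normalizers and centralizers of Sylow subgroups for `p = 3, 5, 7`
(`J2m.n3`, `n5`, `n7`, `c5`, `c7`), classes of their elements (`cls_tab`), transport to a given Sylow subgroup
(`J2m.syl`). -/

set_option autoImplicit false
set_option maxRecDepth 100000

namespace H25
open Subgroup H14 H15 H15.StdJ2 MulAction

variable {G : Type*} [Group G]

/-- the table lists triples (element, conjugating word, representative) -/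
theorem cls_tab {gen : ℕ → G} {X : Subgroup G} (tab : List (Word × Word × Word)) (rs : List Word)
    (hc : Cover gen X [tab.map (·.1)]) (h : Rels gen (tab.map fun e => (conjW e.1 e.2.1, e.2.2)))
    (hr : ∀ e ∈ tab, e.2.2 ∈ rs) {t : G} (ht : t ∈ X) : ∃ r ∈ rs, ∃ g, g * t * g⁻¹ = H14.ev gen r := by
  obtain ⟨w, hw, rfl⟩ := hc t ht
  simp only [prods, List.mem_flatMap, List.mem_map, List.mem_singleton, exists_eq_left, List.append_nil] at hw
  obtain ⟨_, ⟨e, he, rfl⟩, rfl⟩ := hw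
  exact ⟨_, hr e he, _, (ev_conjW e.1 e.2.1).symm.trans (h _ (List.mem_map_of_mem he))⟩

theorem inv_fix {Ω : Type*} [MulAction G Ω] {n D : ℕ} {L : List Net} {M : PM G Ω n L} (hD : n ≤ 2 ^ D)
    {A : Subgroup G} {xs : List Word} (hA : A ≤ normalizer (sub M.gen xs : Set G)) :
    M.Inv A (andL n (fun w => agr n D (arW n L D w) (arI n D)) xs) := by
  have k : ∀ (xs : List Word) (x : Ω), x ∈ M.S (andL n (fun w => agr n D (arW n L D w) (arI n D)) xs) ↔
      sub M.gen xs ≤ stabilizer G x := fun xs x => by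
    rw [sub_le]
    induction xs with
    | nil => exact iff_of_true (M.mem_S_full' x) fa_nil
    | cons w xs ih => exact (M.mem_S_land ..).trans (List.forall_mem_cons.trans
        (and_congr (M.mem_S_fix hD w x) ih).symm).symm
  intro g hg x hx
  rw [k] at hx ⊢
  intro h hh
  have := hx ((mem_normalizer_iff.1 (inv_mem (hA hg)) h).1 hh)
  rwa [inv_inv, mem_stabilizer_iff, mul_smul, mul_smul, inv_smul_eq_iff] at this

namespace J2m
variable (S : St G)

theorem rl : Rels S.M.gen rels := rels_of_all S.rels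
theorem eq1 : ⊤ ⊓ S.M.fixL [0] = sub S.M.gen ws1 :=
  S.M.inf_fixL_cons (S.M.inf_fixL_nil S.top) (stab0 _ (rl S))
theorem eq2 : ⊤ ⊓ S.M.fixL [1, 0] = sub S.M.gen ws2 := S.M.inf_fixL_cons (eq1 S) (stab1 _ (rl S))
noncomputable def T2 : List (List Word) := [List.map (flat ws2) [[],[1],[1,1],[3,1],[6,1],[0],[0,0]],
  List.map (flat ws3) [[],[2,0],[5,0],[0],[3],[4],[1,4],[2],[3,3],[5],[4,0],[1]], List.map (flat ws4) [[],[0]]]
theorem cov2 : Cover S.M.gen (sub S.M.gen ws2) T2 :=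
  S.M.cover_step (stab2 _ (rl S)) (orb2 _ (rl S)) (by decide +kernel) (S.M.cover_step (StdJ2.stab3 _ (rl S)) (orb3 _ (rl S))
    (by decide +kernel) (S.M.cover_step (stab4 _ (rl S)) (orb4 _ (rl S)) (by decide +kernel) Cover.nil))

theorem syl {p k m : ℕ} [Fact p.Prime] {xs : List Word} (hX : Nat.card (sub S.M.gen xs) = p ^ k)
    (hG : 604800 = p ^ k * m) (hm : ¬ p ∣ m) (P : Sylow p G) : ∃ S' : St G, sub S'.M.gen xs = P := by
  have := S.finite
  obtain ⟨T, hT⟩ := exists_sylow_eq hX (S.card.trans hG) hm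
  obtain ⟨g, rfl⟩ := exists_smul_eq G T P
  obtain ⟨S', h⟩ := S.congr (MulAut.conj g).symm
  refine ⟨S', ?_⟩
  rw [Sylow.coe_subgroup_smul, hT, show S'.M.gen = fun l => (MulAut.conj g).toMonoidHom (S.M.gen l) from
    funext fun l => (MulEquiv.symm_apply_eq _).1 (h l), ← H14.map_sub]
  rfl

abbrev NX (xs : List Word) : Subgroup G := ⊤ ⊓ normalizer (sub S.M.gen xs : Set G)

theorem nml {xs us vs : List Word} {p k m N a b c Y0 Y1 : ℕ} [Fact p.Prime] {Ys : List ℕ} (cX cN : Lv)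
    (h0 : S.M.Inv (NX S xs ⊓ S.M.fixL []) Y0) (h1 : S.M.Inv (NX S xs ⊓ S.M.fixL [0]) Y1)
    (h2 : ∀ Y ∈ Ys, S.M.Inv (NX S xs ⊓ S.M.fixL [1, 0]) Y) (hG : 604800 = p ^ k * m)
    (k0 : clsdChk 100 nets 7 xs us = true)
    (k1 : (Nat.beq (lenP [us]) (p ^ k) && Nat.ble (p ^ k) ((cX.sbst xs).val 100 nets)) = true)
    (k2 : (Nat.ble (Nat.succ 0) 100 && H14.tb Y0 0 && Nat.ble (pop 100 Y0) a) = true)
    (k3 : (Nat.ble (Nat.succ 1) 100 && H14.tb Y1 1 && Nat.ble (pop 100 Y1) b) = true)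
    (k4 : (PM.mapsTo 100 nets [] [1, 0] [1, 0] && Nat.ble (cntA (fun _ => Net.nil)
      (fun w B => PM.presAll nets (Ys.map (runW (letN nets) (invW []))) w B &&
        xs.all fun s => PM.memP 100 nets 7 [us] (conjW s (conjW w []))) T2 [] 0) c) = true)
    (k5 : relsChk 100 nets 3 (basePl 100 [0, 1, 2, 7, 4] 3) (memRels xs (conjs xs cN.gens) vs) = true)
    (k6 : (cN.clChk nets && (Nat.beq (cN.val 100 nets) N && (Nat.ble (Nat.succ (a * (b * c))) (Nat.mul (Nat.succ p) N) &&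
      (!Nat.beq (Nat.mod m p) 0 && Nat.beq (Nat.mod (Nat.div (Nat.mul (Nat.pow p k) m) N) p) 1)))) = true)
    (k7 : Nat.ble N (cN.val 100 nets) = true) :
    Cover S.M.gen (sub S.M.gen xs) [us] ∧ Nat.card (sub S.M.gen xs) = p ^ k ∧
      sub S.M.gen cN.gens = normalizer (sub S.M.gen xs : Set G) ∧
      Nat.card (normalizer (sub S.M.gen xs : Set G)) = N := by
  have := S.faithful
  have := S.finite
  have cv := S.M.cover_of_closed (by decide) (by decide) us k0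
  have cd := S.M.card_of_cover cv cX k1
  have le : sub S.M.gen cN.gens ≤ NX S xs := le_inf le_top (le_normalizer_of (S.M.rels_of_chk (sep2 S) k5))
  have := S.M.eq_sub_of_low le (S.M.card_nml_le cd (S.card.trans hG) cN le (S.M.card_le_of_nil (S.M.card_le_step h0 k2
    (S.M.card_le_step h1 k3 (S.M.card_le_nml (by decide) (eq2 S) (cov2 S) [] h2 inf_le_right cv k4)))) k6) k7
  rw [NX, top_inf_eq] at this
  exact ⟨cv, cd, this⟩

theorem i36 {A : Subgroup G} : S.M.Inv (A ⊓ S.M.fixL [0]) (nat_lit 0x30003c9c50479c358900218de) :=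
  (PM.Inv.of_chk (ws := ws1) (by decide +kernel)).mono (eq1 S ▸ inf_le_inf_right _ le_top)

/-- the centralizer of an abelian group from an enumeration of its normalizer -/
theorem cen {xs : List Word} {n N : ℕ} (cN : Lv) (vs : List (List Word)) (h1 : Nat.card (sub S.M.gen xs) = n)
    (h2 : sub S.M.gen cN.gens = normalizer (sub S.M.gen xs : Set G))
    (h3 : Nat.card (normalizer (sub S.M.gen xs : Set G)) = N)
    (k : ((Nat.ble N (cN.val 100 nets) && cN.trChk 100 nets vs) && (xs.all (fun w => commAll 100 nets 7 xs w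
      (arW 100 nets 7 w)) && Nat.ble (cntA (arF 100 nets 7) (commAll 100 nets 7 xs) (cN.trs vs) [] (arI 100 7)) n)) = true) :
    centralizer (sub S.M.gen xs : Set G) = sub S.M.gen xs := by
  have := S.faithful
  have := S.finite
  simp only [Bool.and_eq_true (_ && _), Bool.and_eq_true (List.all _ _)] at k
  refine (eq_of_le_of_card_ge ((sub_le _).2 fun w hw => ?_) (h1 ▸ ((S.M.cover_of_low cN vs h2.le h3.le k.1).card_le
    (centralizer_le_normalizer _) fun w hw => S.M.commAll_of (by decide) fun s hs => hw _ (ev_mem_sub _ hs)).2.trans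
    (Nat.le_of_ble_eq_true k.2.2))).symm
  rw [sub, centralizer_closure]
  rintro _ ⟨s, hs, rfl⟩
  exact (S.M.commAll_iff (by decide) (by decide)).1 (List.all_eq_true.1 k.2.1 w hw) s hs

noncomputable def N7 : Lv := .cons 5 [[12],[0,15]] [[0],[2],[0,0],[2,2],[0],[2,2],[0,0]] .nil
theorem n7 : Cover S.M.gen (sub S.M.gen [[12]]) [[[], [12], [9, 10], [9, 10, 12], [9, 17, 10], [11, 8], [13]]] ∧
    Nat.card (sub S.M.gen [[12]]) = 7 ^ 1 ∧ sub S.M.gen N7.gens = normalizer (sub S.M.gen [[12]] : Set G) ∧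
    Nat.card (normalizer (sub S.M.gen [[12]] : Set G)) = 42 :=
  have := Fact.mk (by decide : Nat.Prime 7)
  nml S (a := 2) (b := 1) (c := 21) (m := 86400) (vs := [[0], [0, 0, 0]]) (Ys := []) (.cons 2 [[0]] [[0], [0, 0], [0, 0, 0]] .nil) N7
    (inv_fix (D := 7) (by decide) (inf_le_left.trans inf_le_right))
    ((inv_fix (D := 7) (by decide) (inf_le_left.trans inf_le_right)).land (i36 S)) fa_nil rfl (by decide +kernel)
    (by decide +kernel) (by decide +kernel) (by decide +kernel) (by decide +kernel) (by decide +kernel)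
    (by decide +kernel) (by decide +kernel)
theorem c7 : centralizer (sub S.M.gen [[12]] : Set G) = sub S.M.gen [[12]] :=
  cen S N7 [[[],[2,0,0],[3,3],[0,0,0],[1,2],[3,3,3,0],[2,1,2],[2,1,1],[3],[3,3,1],[3,1],[3,1,3],[1,1,1],[3,3,3],[2,2,1,2],
    [3,0,3],[1,2,2],[2,1],[0,3,3],[2,0,2],[3,3,0],[0,2],[3,3,1,3],[2],[2,0],[1],[2,2,0,2],[0,0],[3,0],[2,2,1],[1,3,0],
    [3,3,0,3],[2,2],[1,3,3],[2,2,0],[0],[0,3,1],[0,3],[1,3],[3,3,3,1],[1,1],[0,2,2]]] (n7 S).2.1 (n7 S).2.2.1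
    (n7 S).2.2.2 (by decide +kernel)

def x3 : List Word := [[10], [8, 18]]
def t3 : List (Word × Word × Word) := [([],[],[]),([10],[],[10]),([8,18],[9,12,17],[10]),([11],[2,19,20,3],[10]),
  ([10,8,18],[8,2,4],[10]),([8,18,10],[15,8],[10]),([19,9],[14,5,3],[10]),([11,8,18],[9,14],[10]),
  ([9,23,12,16],[5,3,9],[10]),([10,19,9],[5,3,19],[10]),([8,18,11],[17,14],[10]),([11,19,9,11],[16,16,12],[10]),
  ([19,9,10],[0,10,16,18],[10]),([11,8,18,10],[2,4,15],[10]),([11,19,9],[8,2,20,4],[10]),([9,23,12,8],[17,12,17],[10]),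
  ([19,9,11],[13,8,13],[10]),([8,13,14,20],[12,10,8],[10]),([8,22,17,13],[8,18],[10]),([12,18,8,20],[19,9],[10]),
  ([11,8,18,11],[11,15,8],[10]),([8,13,10,20],[2,8,15],[10]),([11,19,9,10],[16,13,8],[10]),([20,9,19,13],[8,19],[10]),
  ([12,16,23,9],[18,18],[10]),([8,19,8,19],[16,22],[8,8,19]),([12,20,16,15],[12,8],[8,8,19])]
noncomputable def N3 : Lv :=
  .cons 5 [[9,14]] [[0],[0,0],[0,2],[0,3],[0],[0,2],[0],[0,0]] (.cons 2 [[2,4,9,22]] [[0],[0,0]] .nil)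
theorem n3 : Cover S.M.gen (sub S.M.gen x3) [t3.map (·.1)] ∧ Nat.card (sub S.M.gen x3) = 3 ^ 3 ∧
    sub S.M.gen N3.gens = normalizer (sub S.M.gen x3 : Set G) ∧ Nat.card (normalizer (sub S.M.gen x3 : Set G)) = 216 :=
  have := Fact.mk (by decide : Nat.Prime 3)
  nml S (a := 1) (b := 36) (c := 6) (m := 22400) (vs := [[2, 0], [2, 1], [1, 3, 0], [2, 0, 3]])
    (.cons 5 [[0], [2]] [[0], [2], [0, 3], [0], [0, 3], [0, 2]] .nil) N3
    (inv_fix (D := 7) (by decide) (inf_le_left.trans inf_le_right)) (i36 S)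
    (fa_cons (PM.Inv.clos (ws := x3) [[0], [2], [0], [0]] (inf_le_left.trans inf_le_right)
      (PM.Inv.pt (b := 1) (by decide)) (by decide +kernel)) fa_nil) rfl (by decide +kernel)
    (by decide +kernel) (by decide +kernel) (by decide +kernel) (by decide +kernel) (by decide +kernel)
    (by decide +kernel) (by decide +kernel)
theorem cls3 {t : G} (ht : t ∈ sub S.M.gen x3) : ∃ r ∈ [[], [10], [8, 8, 19]], ∃ g, g * t * g⁻¹ = H14.ev S.M.gen r :=
  cls_tab t3 _ (n3 S).1 (S.M.rels_of_chk (sep2 S) (by decide +kernel)) (by decide) ht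

def a5 : Word := [11, 8, 7, 17]
def b5 : Word := [7, 4, 11]
def t5 : List (Word × Word × Word) := [([],[],[]),([7,4,11],[],b5),([11,8,7,17],[],a5),([4,20,16,2,7],[],b5 ++ b5),
  ([0,18,12,5,11],[6,11],a5 ++ a5),([20,7,20,6,14],[],a5 ++ a5),([3,4,17,20,5],[10,0,11],b5 ++ b5),
  ([6,2,6,22,0],[2,12,22,3],b5),([2,0,7,12,20],[0,2,15,8],b5 ++ b5),([15,7,20,6,20],[15,20],a5 ++ a5),
  ([10,5,6],[10,0,11],b5),([7,11,15,3,13],[0,2,15,8],b5),([0,4,14,9,6],[6,0,11],a5),([3,11,18,7,15],[0,9,0,6],b5 ++ b5),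
  ([16,6,9,10],[15,20],a5),([9,20,6,20,10],[17,9,15],a5 ++ a5),([8,3,9,6,16],[0,9,0,6],a5),([7,19,6,2,17],[17,9,15],a5),
  ([6,18,2,7,16],[0,9,0,6],a5 ++ a5),([0,5,11,0,10],[2,12,22,3],b5 ++ b5),([7,8,15,5,0],[6,11],a5),
  ([6,2,14,22,9],[0,4,23,2],b5),([10,0,8,5,13],[0,4,23,2],b5 ++ b5),([0,23,3,5,7],[0,9,0,6],b5),
  ([3,6,11,20,7],[6,0,11],a5 ++ a5)]
noncomputable def N5 : Lv := .cons 0 [[10,0,11]] [[0],[2],[4],[0,3],[0],[4],[0,3],[0],[2]]
  (.cons 7 [[9,17,23,12],[15,20]] [[0],[2],[0]] .nil)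
theorem n5 : Cover S.M.gen (sub S.M.gen [b5, a5]) [t5.map (·.1)] ∧ Nat.card (sub S.M.gen [b5, a5]) = 5 ^ 2 ∧
    sub S.M.gen N5.gens = normalizer (sub S.M.gen [b5, a5] : Set G) ∧
    Nat.card (normalizer (sub S.M.gen [b5, a5] : Set G)) = 300 :=
  have := Fact.mk (by decide : Nat.Prime 5)
  have h : S.M.Inv (NX S [b5, a5] ⊓ S.M.fixL [0]) _ := PM.Inv.clos (ws := [b5, a5])
    [[0], [2], [0, 0], [2, 2], [0, 2], [0]] (inf_le_left.trans inf_le_right) (PM.Inv.pt (b := 0) (by decide))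
    (by decide +kernel)
  nml S (a := 100) (b := 6) (c := 2) (m := 24192) (vs := [[1], [3], [0, 0, 3], [0, 0, 2, 2], [0], [3]])
    (.cons 0 [[0], [2]] [[0], [2], [0, 0], [2, 2], [0, 2], [0]] .nil) N5 PM.Inv.full (h.land (i36 S))
    (fa_cons (h.up 1) fa_nil) rfl (by decide +kernel) (by decide +kernel) (by decide +kernel) (by decide +kernel)
    (by decide +kernel) (by decide +kernel) (by decide +kernel) (by decide +kernel)
theorem c5 : centralizer (sub S.M.gen [b5, a5] : Set G) = sub S.M.gen [b5, a5] :=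
  cen S N5 [[[],[3,0,3,0],[0,3,0,4,0],[4,0],[4,0,3,0],[0,4,0,3,0],[4,0,4,0],[4,0,4,0,2,4,0],[0,2,4,0,4,0],[0,3,4,0,4,0,4,0],
    [4,0,2,4,0],[2,4,0,4,0],[4,0,4,0,3,4,0],[0,2,0,4,0],[3,0,4,0,4,0],[0,2,4,0,4,0,4,0],[2,0,4,0],[2,0],[2,0,2,0],
    [2,0,4,0,4,0],[2,4,0],[4,0,3,4,0],[0,4,0,4,0],[0,4,0,3,0,4,0],[0,3,0],[0,4,0,2,0],[4,0,2,0],[2,0,2,4,0],
    [2,4,0,4,0,4,0],[0,4,0,2,0,4,0],[4,0,4,0,4,0],[0,4,0],[3,4,0,4,0],[0,3,4,0,2,4,0],[4,0,3,0,4,0],[3,4,0,4,0,4,0],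
    [0,3,4,0,4,0],[0,4,0,4,0,2,4,0],[0,2,0],[3,4,0],[3,0],[0,4,0,4,0,3,4,0],[3,4,0,2,4,0],[0,4,0,3,4,0],[0,2,4,0],
    [0,3,4,0],[4,0,2,0,4,0],[0,4,0,2,4,0],[3,0,4,0],[0]], [[],[0,2],[0],[1],[1,2],[2]]] (n5 S).2.1 (n5 S).2.2.1
    (n5 S).2.2.2 (by decide +kernel)
theorem cls5 {t : G} (ht : t ∈ sub S.M.gen [b5, a5]) :
    ∃ r ∈ [[], a5, a5 ++ a5, b5, b5 ++ b5], ∃ g, g * t * g⁻¹ = H14.ev S.M.gen r :=
  cls_tab t5 _ (n5 S).1 (S.M.rels_of_chk (sep2 S) (by decide +kernel)) (by decide) ht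
theorem ca5 : 300 ≤ Nat.card (centralizer {H14.ev S.M.gen a5}) := by
  have := S.faithful
  have := S.finite
  let c : Lv := .cons 0 [[0,3,4,15]] [[0],[0,0],[0,2],[0,3],[0],[0,0],[0,2],[1,3],[0,0]]
    (.cons 1 [[8,10,8,20]] [[0],[0]] .nil)
  exact ((Nat.le_of_ble_eq_true (by decide +kernel)).trans (S.M.low c inferInstance)).trans
    (card_le_of_le (S.M.le_cent (D := 7) (by decide) (by decide) (by decide +kernel)))
theorem cb5 : Nat.card (centralizer {H14.ev S.M.gen b5}) ≤ 100 * (1 * 2) :=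
  have := S.finite
  S.M.card_le_of_nil (S.M.card_le_step PM.Inv.full (by decide +kernel) (S.M.card_le_step
    ((PM.Inv.pt (b := 0) (by decide)).img (S.M.comm_of_le le_rfl)) (by decide +kernel)
    (PM.card_le_cent (D := 7) (by decide) (eq2 S) (cov2 S) [] le_rfl (bs := [1, 0]) (by decide +kernel))))
theorem ord {w : Word} {p : ℕ} (hp : p.Prime) (h : PM.ordChk 100 nets 7 w p [p] = true) :
    orderOf (H14.ev S.M.gen w) = p :=
  have := S.faithful
  S.M.orderOf_prime (by decide) (by decide) hp h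

end J2m
end H25
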