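import Cfsg.Agent.H25.K5
import Cfsg.Agent.H25.KY

/-! The centralizer `2^(1+4).S₃` of type `M`: the groups `2³·L₃(2)` and `M₁₂` (`FM.main`); simple groups (`FM.simple`). -/

set_option autoImplicit false
set_option maxRecDepth 8000

namespace H25.K
open Subgroup H18 H15 Cfsg
open scoped commutatorElement

variable {G : Type*} [Group G] {z a b c g h j k m n p q s t u v w x y : G} {K : Subgroup G}

/-- letters of `2 × S₄` -/
def gK (z a b q n : G) : ℕ → G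
  | 0 => z | 1 => a | 2 => b | 3 => q | _ => n

namespace FM
variable (J : FM z a b p q x t)
include J

theorem sq {h : G} (hh : h ∈ C1(z)) (h1 : h * b = b * h) :
    h * h = 1 ∨
    h * h = z :=
  (J.rt.solve (wt := fun _ => 0) (d := 8)
    (hyps := [([0,6],[6,0])])
    (concl := [[([0,0],[])], [([0,0],[4])]])
    (by decide +kernel) hh h1).elim fun _ e => e.2

theorem sU {h : G} (hh : h ∈ C1(z)) (h1 : h * a = a * h) (h2 : h * b = b * h) :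
    h = 1 ∨
    h = z ∨
    h = a ∨
    h = z * a ∨
    h = b ∨
    h = z * b ∨
    h = a * b ∨
    h = z * a * b :=
  (J.rt.solve (wt := fun _ => 0) (d := 8)
    (hyps := [([0,5],[5,0]), ([0,6],[6,0])])
    (concl := [[([0],[])], [([0],[4])], [([0],[5])], [([0],[4,5])], [([0],[6])], [([0],[4,6])], [([0],[5,6])], [([0],[4,5,6])]])
    (by decide +kernel) hh ⟨h1, h2⟩).elim fun _ e => e.2

theorem sT {h : G} (hh : h ∈ C1(z)) (h1 : h * b = b * h) :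
    h * a = a * h ∨
    (h * q * a = a * (h * q) ∧ h * q * b = b * (h * q)) := by
  have key : h * a = a * h ∨
    (h * q * a = a * h * q ∧ h * q * b = b * h * q) :=
    (J.rt.solve (wt := fun _ => 0) (d := 8)
    (hyps := [([0,6],[6,0])])
    (concl := [[([0,5],[5,0])], [([0,8,5],[5,0,8]), ([0,8,6],[6,0,8])]])
    (by decide +kernel) hh h1).elim fun _ e => e.2
  simpa only [mul_assoc, mul_inv_rev, inv_inv, pow_three', J.iz, J.ia, J.ib, J.ip, J.iq] using key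

theorem sK {h : G} (hh : h ∈ C1(z)) (h1 : h * b = b * h) (h2 : h * h = 1) :
    (h * q⁻¹ * (a * q) = a * q * (h * q⁻¹) ∧ h * (q * b)⁻¹ * (a * q) = a * q * (h * (q * b)⁻¹)) ∨
    h = 1 ∨
    h = z ∨
    h = b ∨
    h = z * b := by
  have key : (h * q * a * q = a * q * h * q ∧ h * b * q * a * q = a * q * h * b * q) ∨
    h = 1 ∨
    h = z ∨
    h = b ∨
    h = z * b :=
    (J.rt.solve (wt := fun _ => 0) (d := 8)
    (hyps := [([0,6],[6,0]), ([0,0],[])])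
    (concl := [[([0,8,5,8],[5,8,0,8]), ([0,6,8,5,8],[5,8,0,6,8])], [([0],[])], [([0],[4])], [([0],[6])], [([0],[4,6])]])
    (by decide +kernel) hh ⟨h1, h2⟩).elim fun _ e => e.2
  simpa only [mul_assoc, mul_inv_rev, inv_inv, pow_three', J.iz, J.ia, J.ib, J.ip, J.iq] using key

theorem sct {h : G} (hh : h ∈ C1(z)) (h1 : h * t = t * h) :
    ∃ k ∈ C1(z), h = 1 ∨
    h = a ∨
    h = a * z ∨
    h = z ∨
    k * h * k⁻¹ = t :=
  J.rt.solve (wt := H25.tb (nat_lit 0x300000000000000000000000000000000000000000000000400000000000000000000001e0000000000000000000000) 8) (d := 8)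
    (hyps := [([0,11],[11,0])])
    (concl := [[([0],[])], [([0],[5])], [([0],[5,4])], [([0],[4])], [([2,0,3],[11])]])
    (by decide +kernel) hh h1

theorem id5 :
    p * (z * b) * p⁻¹ = b ∧
    a * q * a⁻¹ * q⁻¹ = z ∧
    q * b * (q * b) = 1 ∧
    x * (q * b) * x⁻¹ = b ∧
    x * q * x⁻¹ = q * b ∧
    z * b * b = z ∧
    q * b * b = q ∧
    x⁻¹ * (b * q) * x = q ∧
    x⁻¹ * b * x = b * q ∧
    a * z = z * a ∧
    a * z * a = z ∧
    a * (a * z) = z ∧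
    a * z * (a * z) = 1 ∧
    x * (b * q) * x⁻¹ = b := by
  have key : p * z * b * p = b ∧
    a * q * a * q = z ∧
    q * b * q * b = 1 ∧
    x * q * b * x⁻¹ = b ∧
    x * q * x⁻¹ = q * b ∧
    z * b * b = z ∧
    q * b * b = q ∧
    x⁻¹ * b * q * x = q ∧
    x⁻¹ * b * x = b * q ∧
    a * z = z * a ∧
    a * z * a = z ∧
    a * a * z = z ∧
    a * z * a * z = 1 ∧
    x * b * q * x⁻¹ = b :=
    J.rt.ct.eqs (l := [([3,0,2,3],[2]), ([1,4,1,4],[0]), ([4,2,4,2],[]), ([5,4,2,6],[2]), ([5,4,6],[4,2]), ([0,2,2],[0]), ([4,2,2],[4]), ([6,2,4,5],[4]), ([6,2,5],[2,4]), ([1,0],[0,1]), ([1,0,1],[0]), ([1,1,0],[0]), ([1,0,1,0],[]), ([5,2,4,6],[2])]) (by decide +kernel)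
  simpa only [mul_assoc, mul_inv_rev, inv_inv, pow_three', J.iz, J.ia, J.ib, J.ip, J.iq] using key

theorem ne3 :
    q * (a * q) ≠ a * q * q ∧
    q * b * (a * q) ≠ a * q * (q * b) ∧
    q ≠ 1 ∧
    q * b ≠ 1 ∧
    q ≠ b ∧
    q * b ≠ b ∧
    x ≠ 1 ∧
    z ≠ a ∧
    z ≠ t ∧
    t ≠ 1 := by
  have key : q * a * q ≠ a * q * q ∧
    q * b * a * q ≠ a * q * q * b ∧
    q ≠ 1 ∧
    q * b ≠ 1 ∧
    q ≠ b ∧
    q * b ≠ b ∧
    x ≠ 1 ∧
    z ≠ a ∧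
    z ≠ t ∧
    t ≠ 1 :=
    J.rt.nes (l := [([4,1,4],[1,4,4]), ([4,2,1,4],[1,4,4,2]), ([4],[]), ([4,2],[]), ([4],[2]), ([4,2],[2]), ([5],[]), ([0],[1]), ([0],[7]), ([7],[])]) (by decide +kernel)
  simpa only [mul_assoc, mul_inv_rev, inv_inv, pow_three', J.iz, J.ia, J.ib, J.ip, J.iq] using key

theorem pk : p ∉ kl a z := fun h => (J.va.mem.1 h).elim J.ne2.1 (·.elim J.ne2.2.2.1 (·.elim J.ne2.2.1 J.ne2.2.2.2))

theorem etop [Finite G] (hH : C1(z) ≤ K) (ha : Cj K a z) (hb : C1(b) ≤ K) (ht : Pz K z t) : K = ⊤ :=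
  J.bs.top hH J.mb J.bb J.ne0.2.2.2.1 J.nb fun y hy yy y1 => by
    obtain ⟨k, hk, e | e | e | e | e⟩ := J.cls hy yy
    exacts [absurd e y1, .inl (e ▸ Cj.refl), .inl (Cj.trans ⟨k, hH hk, e⟩ ha),
      Pz.cj (.inr ⟨J.nb, hb⟩) ⟨k, hH hk, e⟩, ht.cj ⟨k, hH hk, e⟩]

theorem fused [Finite G] (hy : y ∈ C1(z)) (hc : IsConj z y) (ne : y ≠ z) : IsConj z a := by
  have yy : y * y = 1 := by obtain ⟨g, rfl⟩ := isConj_iff.1 hc; exact cj_sq1 J.zz g
  have y1 : y ≠ 1 := by obtain ⟨g, rfl⟩ := isConj_iff.1 hc; exact cj_ne J.va.b1 g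
  obtain ⟨k, -, e | e | e | e | e⟩ := J.cls hy yy
  exacts [absurd e y1, absurd e ne, hc.trans (isC e), absurd (hc.trans (isC e)) J.nb, by
    have ht := hc.trans (isC e)
    obtain ⟨-, -, -, -, -, -, -, -, -, -, i1, i2, i3, -⟩ := J.id5
    obtain ⟨n, hn, nz⟩ := J.bs.move ht J.mt J.ne3.2.2.2.2.2.2.2.2.1.symm
    by_contra na
    have ma : a ∈ C1(t) ⊓ C1(z) := ⟨mem_C1.2 J.id0.2.2.2.2.2.symm, J.ma⟩
    have f : ∀ w ∈ C1(t) ⊓ C1(z), IsConj a w → n * w * n⁻¹ = a ∨ n * w * n⁻¹ = a * z := fun w hw e => by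
      have m := conj_mem_N hn.2 hw
      have c := e.trans (isC (rfl : n * w * n⁻¹ = _))
      obtain ⟨l, -, e | e | e | e | e⟩ := J.sct m.2 (mem_C1.1 m.1)
      exacts [absurd (isConj_one_left.1 (e ▸ c)) J.va.a1, .inl e, .inr e, absurd (e ▸ c).symm na,
        absurd (ht.trans (c.trans (isC e)).symm) na]
    have e : n * z * n⁻¹ = n * a * n⁻¹ * (n * (a * z) * n⁻¹) := by rw [conj_mul, i2]
    rcases f a ma (IsConj.refl a) with h1 | h1 <;>
      rcases f _ (mul_mem ma ⟨mem_C1_comm.1 J.mt, C1_self⟩) (isC J.id0.2.2.1) with h2 | h2 <;> rw [h1, h2] at e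
    exacts [cj_ne J.va.b1 n (e.trans J.aa), nz (fix_iff.1 (e.trans i2)), nz (fix_iff.1 (e.trans i1)),
      cj_ne J.va.b1 n (e.trans i3)]]

end FM

namespace NM
variable (J : NM z a b p q x t n)
include J

theorem d1 :
    (q * n) ^ 3 * z = z * (q * n) ^ 3 ∧
    (q * n) ^ 3 * a = a * (q * n) ^ 3 ∧
    (q * n) ^ 3 * b = b * (q * n) ^ 3 ∧
    (q * n) ^ 3 * p = p * (q * n) ^ 3 ∧
    (q * n) ^ 3 * t = t * (q * n) ^ 3 := by
  have key : q * n * q * n * q * n * z = z * q * n * q * n * q * n ∧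
    q * n * q * n * q * n * a = a * q * n * q * n * q * n ∧
    q * n * q * n * q * n * b = b * q * n * q * n * q * n ∧
    q * n * q * n * q * n * p = p * q * n * q * n * q * n ∧
    q * n * q * n * q * n * t = t * q * n * q * n * q * n :=
    eqs_of (J.toFM.rl n 1 1) (J.toFq.hiv n 1 1) DM1.mem [0,1,2,3,4,7,8,9,10] (hy := [([9,1,10],[1]), ([9,0,10],[1,0]), ([9,9],[]), ([9,2,10],[2]), ([9,3,10],[7])])
    (cl := [([4,9,4,9,4,9,0],[0,4,9,4,9,4,9]), ([4,9,4,9,4,9,1],[1,4,9,4,9,4,9]), ([4,9,4,9,4,9,2],[2,4,9,4,9,4,9]), ([4,9,4,9,4,9,3],[3,4,9,4,9,4,9]), ([4,9,4,9,4,9,7],[7,4,9,4,9,4,9])])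
    ⟨J.na, J.nz, J.nn, J.nb, J.np⟩ (by decide +kernel)
  simpa only [mul_assoc, mul_inv_rev, inv_inv, pow_three', J.iz, J.ia, J.ib, J.ip, J.iq] using key

theorem q3 : (q * n) ^ 3 = 1 :=
  let ⟨h0, h1, h2, h3, h4⟩ := J.d1
  J.v3 J.va J.mq J.id0.2.2.1 (J.cV (mem_C1.2 h0) h1 h2 h3 h4)

theorem d2 :
    q * n * z * (q * n)⁻¹ = a ∧
    q * n * a * (q * n)⁻¹ = z * a ∧
    q * (q * n) * q⁻¹ = (q * n)⁻¹ ∧
    q * n * b = b * (q * n) ∧
    q * z * q⁻¹ = z ∧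
    z * a * z * a = 1 ∧
    z * b * z * b = 1 ∧
    z * q * z * q = 1 ∧
    a * b * a * b = 1 ∧
    b * q * b * q = 1 ∧
    a * q * a * q * z = 1 ∧
    n * a * n * a = 1 ∧
    n * z * n * a * z = 1 ∧
    n * b * n * b = 1 ∧
    q * n * q * n * q * n = 1 := by
  have key : q * n * z * n⁻¹ * q = a ∧
    q * n * a * n⁻¹ * q = z * a ∧
    q * q * n * q = n⁻¹ * q ∧
    q * n * b = b * q * n ∧
    q * z * q = z ∧
    z * a * z * a = 1 ∧
    z * b * z * b = 1 ∧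
    z * q * z * q = 1 ∧
    a * b * a * b = 1 ∧
    b * q * b * q = 1 ∧
    a * q * a * q * z = 1 ∧
    n * a * n * a = 1 ∧
    n * z * n * a * z = 1 ∧
    n * b * n * b = 1 ∧
    q * n * q * n * q * n = 1 :=
    eqs_of (J.toFM.rl n 1 1) (J.toFq.hiv n 1 1) DM2.mem [0,1,2,3,4,7,8,9,10] (hy := [([9,1,10],[1]), ([9,0,10],[1,0]), ([9,9],[]), ([9,2,10],[2]), ([9,3,10],[7]), ([4,9,4,9,4,9],[])])
    (cl := [([4,9,0,10,4],[1]), ([4,9,1,10,4],[0,1]), ([4,4,9,4],[10,4]), ([4,9,2],[2,4,9]), ([4,0,4],[0]), ([0,1,0,1],[]), ([0,2,0,2],[]), ([0,4,0,4],[]), ([1,2,1,2],[]), ([2,4,2,4],[]), ([1,4,1,4,0],[]), ([9,1,9,1],[]), ([9,0,9,1,0],[]), ([9,2,9,2],[]), ([4,9,4,9,4,9],[])])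
    ⟨J.na, J.nz, J.nn, J.nb, J.np, (show q * n * q * n * q * n = 1 by simpa only [mul_assoc, mul_inv_rev, inv_inv, pow_three', J.iz, J.ia, J.ib, J.ip, J.iq] using J.q3)⟩ (by decide +kernel)
  simpa only [mul_assoc, mul_inv_rev, inv_inv, pow_three', J.iz, J.ia, J.ib, J.ip, J.iq] using key

theorem col0 (h : x * (q * n) * x⁻¹ * (q * n) = q * n * (x * (q * n) * x⁻¹)) :
    a = 1 :=
  eqs_of (J.toFM.rl n 1 1) (J.toFq.hiv n 1 1) DM3.mem [0,1,2,3,4,5,6,7,8,9,10] (hy := [([9,1,10],[1]), ([9,0,10],[1,0]), ([9,9],[]), ([9,2,10],[2]), ([9,3,10],[7]), ([4,9,4,9,4,9],[]), ([5,4,9,6,4,9],[4,9,5,4,9,6])])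
    (cl := [([1],[])])
    ⟨J.na, J.nz, J.nn, J.nb, J.np, (show q * n * q * n * q * n = 1 by simpa only [mul_assoc, mul_inv_rev, inv_inv, pow_three', J.iz, J.ia, J.ib, J.ip, J.iq] using J.q3), (show x * q * n * x⁻¹ * q * n = q * n * x * q * n * x⁻¹ by simpa only [mul_assoc, mul_inv_rev, inv_inv, pow_three', J.iz, J.ia, J.ib, J.ip, J.iq] using h)⟩ (by decide +kernel)

theorem col1 (h : x * (z * (q * n) * z) * x⁻¹ * (q * n) = q * n * (x * (z * (q * n) * z) * x⁻¹)) :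
    a = 1 :=
  eqs_of (J.toFM.rl n 1 1) (J.toFq.hiv n 1 1) DM4.mem [0,1,2,3,4,5,6,7,8,9,10] (hy := [([9,1,10],[1]), ([9,0,10],[1,0]), ([9,9],[]), ([9,2,10],[2]), ([9,3,10],[7]), ([4,9,4,9,4,9],[]), ([5,0,4,9,0,6,4,9],[4,9,5,0,4,9,0,6])])
    (cl := [([1],[])])
    ⟨J.na, J.nz, J.nn, J.nb, J.np, (show q * n * q * n * q * n = 1 by simpa only [mul_assoc, mul_inv_rev, inv_inv, pow_three', J.iz, J.ia, J.ib, J.ip, J.iq] using J.q3), (show x * z * q * n * z * x⁻¹ * q * n = q * n * x * z * q * n * z * x⁻¹ by simpa only [mul_assoc, mul_inv_rev, inv_inv, pow_three', J.iz, J.ia, J.ib, J.ip, J.iq] using h)⟩ (by decide +kernel)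

theorem col2 (h : x⁻¹ * (q * n) * x * (q * n) = q * n * (x⁻¹ * (q * n) * x)) :
    a = 1 :=
  eqs_of (J.toFM.rl n 1 1) (J.toFq.hiv n 1 1) DM5.mem [0,1,2,3,4,5,6,7,8,9,10] (hy := [([9,1,10],[1]), ([9,0,10],[1,0]), ([9,9],[]), ([9,2,10],[2]), ([9,3,10],[7]), ([4,9,4,9,4,9],[]), ([6,4,9,5,4,9],[4,9,6,4,9,5])])
    (cl := [([1],[])])
    ⟨J.na, J.nz, J.nn, J.nb, J.np, (show q * n * q * n * q * n = 1 by simpa only [mul_assoc, mul_inv_rev, inv_inv, pow_three', J.iz, J.ia, J.ib, J.ip, J.iq] using J.q3), (show x⁻¹ * q * n * x * q * n = q * n * x⁻¹ * q * n * x by simpa only [mul_assoc, mul_inv_rev, inv_inv, pow_three', J.iz, J.ia, J.ib, J.ip, J.iq] using h)⟩ (by decide +kernel)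

theorem col3 (h : x⁻¹ * (z * (q * n) * z) * x * (q * n) = q * n * (x⁻¹ * (z * (q * n) * z) * x)) :
    a = 1 :=
  eqs_of (J.toFM.rl n 1 1) (J.toFq.hiv n 1 1) DM6.mem [0,1,2,3,4,5,6,7,8,9,10] (hy := [([9,1,10],[1]), ([9,0,10],[1,0]), ([9,9],[]), ([9,2,10],[2]), ([9,3,10],[7]), ([4,9,4,9,4,9],[]), ([6,0,4,9,0,5,4,9],[4,9,6,0,4,9,0,5])])
    (cl := [([1],[])])
    ⟨J.na, J.nz, J.nn, J.nb, J.np, (show q * n * q * n * q * n = 1 by simpa only [mul_assoc, mul_inv_rev, inv_inv, pow_three', J.iz, J.ia, J.ib, J.ip, J.iq] using J.q3), (show x⁻¹ * z * q * n * z * x * q * n = q * n * x⁻¹ * z * q * n * z * x by simpa only [mul_assoc, mul_inv_rev, inv_inv, pow_three', J.iz, J.ia, J.ib, J.ip, J.iq] using h)⟩ (by decide +kernel)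

theorem f1 (R : RT C1(b) (gK z a b q n) 5 48 K48.wk K48.iv K48.wd) {h : G} (hh : h ∈ C1(b)) (h1 : h * (q * n) = q * n * h) :
    h = 1 ∨
    h = b ∨
    h = q * n ∨
    h = b * (q * n) ∨
    h = q * n * (q * n) ∨
    h = b * (q * n * (q * n)) := by
  have key : h = 1 ∨
    h = b ∨
    h = q * n ∨
    h = b * q * n ∨
    h = q * n * q * n ∨
    h = b * q * n * q * n :=
    (R.solve (wt := fun _ => 0) (d := 6)
    (hyps := [([0,7,8],[7,8,0])])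
    (concl := [[([0],[])], [([0],[6])], [([0],[7,8])], [([0],[6,7,8])], [([0],[7,8,7,8])], [([0],[6,7,8,7,8])]])
    (by decide +kernel) hh (show h * q * n = q * n * h by simpa only [mul_assoc, mul_inv_rev, inv_inv, pow_three', J.iz, J.ia, J.ib, J.iq, inv_sq J.nn] using h1)).elim fun _ e => e.2
  simpa only [mul_assoc, mul_inv_rev, inv_inv, pow_three', J.iz, J.ia, J.ib, J.iq, inv_sq J.nn] using key

theorem f2 (R : RT C1(b) (gK z a b q n) 5 48 K48.wk K48.iv K48.wd) {h : G} (hh : h ∈ C1(b)) (h1 : h ^ 3 = 1) (h2 : q * h * q⁻¹ * h = h * (q * h * q⁻¹)) :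
    h = 1 ∨
    h = q * n ∨
    h⁻¹ = q * n ∨
    h = z * (q * n) * z ∨
    h⁻¹ = z * (q * n) * z := by
  have key : h = 1 ∨
    h = q * n ∨
    h⁻¹ = q * n ∨
    h = z * q * n * z ∨
    h⁻¹ = z * q * n * z :=
    (R.solve (wt := fun _ => 0) (d := 6)
    (hyps := [([0,0,0],[]), ([7,0,7,0],[0,7,0,7])])
    (concl := [[([0],[])], [([0],[7,8])], [([1],[7,8])], [([0],[4,7,8,4])], [([1],[4,7,8,4])]])
    (by decide +kernel) hh ⟨(show h * h * h = 1 by simpa only [mul_assoc, mul_inv_rev, inv_inv, pow_three', J.iz, J.ia, J.ib, J.iq, inv_sq J.nn] using h1), (show q * h * q * h = h * q * h * q by simpa only [mul_assoc, mul_inv_rev, inv_inv, pow_three', J.iz, J.ia, J.ib, J.iq, inv_sq J.nn] using h2)⟩).elim fun _ e => e.2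
  simpa only [mul_assoc, mul_inv_rev, inv_inv, pow_three', J.iz, J.ia, J.ib, J.iq, inv_sq J.nn] using key

theorem f3 (R : RT C1(b) (gK z a b q n) 5 48 K48.wk K48.iv K48.wd) {h : G} (hh : h ∈ C1(b)) (h1 : h ^ 3 = 1) (h2 : b * q * h * (b * q)⁻¹ * h = h * (b * q * h * (b * q)⁻¹)) :
    h = 1 ∨
    h = q * n ∨
    h⁻¹ = q * n ∨
    h = z * (q * n) * z ∨
    h⁻¹ = z * (q * n) * z := by
  have key : h = 1 ∨
    h = q * n ∨
    h⁻¹ = q * n ∨
    h = z * q * n * z ∨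
    h⁻¹ = z * q * n * z :=
    (R.solve (wt := fun _ => 0) (d := 6)
    (hyps := [([0,0,0],[]), ([6,7,0,7,6,0],[0,6,7,0,7,6])])
    (concl := [[([0],[])], [([0],[7,8])], [([1],[7,8])], [([0],[4,7,8,4])], [([1],[4,7,8,4])]])
    (by decide +kernel) hh ⟨(show h * h * h = 1 by simpa only [mul_assoc, mul_inv_rev, inv_inv, pow_three', J.iz, J.ia, J.ib, J.iq, inv_sq J.nn] using h1), (show b * q * h * q * b * h = h * b * q * h * q * b by simpa only [mul_assoc, mul_inv_rev, inv_inv, pow_three', J.iz, J.ia, J.ib, J.iq, inv_sq J.nn] using h2)⟩).elim fun _ e => e.2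
  simpa only [mul_assoc, mul_inv_rev, inv_inv, pow_three', J.iz, J.ia, J.ib, J.iq, inv_sq J.nn] using key

theorem j1 (h1 : m * b = b * m) (h2 : m * m = 1) (h3 : m * (q * n) * m * (q * n) = 1) (h4 : (m * z) ^ 3 = 1) :
    q * m * q⁻¹ * b = b * (q * m * q⁻¹) ∧
    q * m * q⁻¹ * (q * m * q⁻¹) = 1 ∧
    q * m * q⁻¹ * (q * n) * (q * m * q⁻¹) * (q * n) = 1 ∧
    (q * m * q⁻¹ * z) ^ 3 = 1 := by
  have key : q * m * q * b = b * q * m * q ∧
    q * m * q * q * m * q = 1 ∧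
    q * m * q * q * n * q * m * q * q * n = 1 ∧
    q * m * q * z * q * m * q * z * q * m * q * z = 1 :=
    eqs_of (J.toFM.rl n m 1) (J.toFq.hiv n m 1) DM7.mem [0,1,2,3,4,7,8,9,10,11,12] (hy := [([9,1,10],[1]), ([9,0,10],[1,0]), ([9,9],[]), ([9,2,10],[2]), ([9,3,10],[7]), ([4,9,4,9,4,9],[]), ([11,2],[2,11]), ([11,11],[]), ([11,4,9,11,4,9],[]), ([11,0,11,0,11,0],[])])
    (cl := [([4,11,4,2],[2,4,11,4]), ([4,11,4,4,11,4],[]), ([4,11,4,4,9,4,11,4,4,9],[]), ([4,11,4,0,4,11,4,0,4,11,4,0],[])])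
    ⟨J.na, J.nz, J.nn, J.nb, J.np, (show q * n * q * n * q * n = 1 by simpa only [mul_assoc, mul_inv_rev, inv_inv, pow_three', J.iz, J.ia, J.ib, J.ip, J.iq] using J.q3), h1, h2, (show m * q * n * m * q * n = 1 by simpa only [mul_assoc, mul_inv_rev, inv_inv, pow_three', J.iz, J.ia, J.ib, J.ip, J.iq] using h3), (show m * z * m * z * m * z = 1 by simpa only [mul_assoc, mul_inv_rev, inv_inv, pow_three', J.iz, J.ia, J.ib, J.ip, J.iq] using h4)⟩ (by decide +kernel)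
  simpa only [mul_assoc, mul_inv_rev, inv_inv, pow_three', J.iz, J.ia, J.ib, J.ip, J.iq] using key

theorem j2 (h1 : m * b = b * m) (h2 : m * m = 1) (h3 : q * m * q⁻¹ = m) (h4 : (m * z) ^ 3 = 1) :
    x * m * x⁻¹ * b = b * (x * m * x⁻¹) ∧
    x * m * x⁻¹ * (x * m * x⁻¹) = 1 ∧
    q * (x * m * x⁻¹) * q⁻¹ = x * m * x⁻¹ ∧
    (x * m * x⁻¹ * z) ^ 3 = 1 ∧
    m * b * m⁻¹ = b ∧
    m * q * m⁻¹ = q := by
  have key : x * m * x⁻¹ * b = b * x * m * x⁻¹ ∧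
    x * m * x⁻¹ * x * m * x⁻¹ = 1 ∧
    q * x * m * x⁻¹ * q = x * m * x⁻¹ ∧
    x * m * x⁻¹ * z * x * m * x⁻¹ * z * x * m * x⁻¹ * z = 1 ∧
    m * b * m⁻¹ = b ∧
    m * q * m⁻¹ = q :=
    eqs_of (J.toFM.rl 1 m 1) (J.toFq.hiv 1 m 1) DM8.mem [0,1,2,3,4,5,6,11,12] (hy := [([11,2],[2,11]), ([11,11],[]), ([4,11,4],[11]), ([11,0,11,0,11,0],[])])
    (cl := [([5,11,6,2],[2,5,11,6]), ([5,11,6,5,11,6],[]), ([4,5,11,6,4],[5,11,6]), ([5,11,6,0,5,11,6,0,5,11,6,0],[]), ([11,2,12],[2]), ([11,4,12],[4])])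
    ⟨h1, h2, (show q * m * q = m by simpa only [mul_assoc, mul_inv_rev, inv_inv, pow_three', J.iz, J.ia, J.ib, J.ip, J.iq] using h3), (show m * z * m * z * m * z = 1 by simpa only [mul_assoc, mul_inv_rev, inv_inv, pow_three', J.iz, J.ia, J.ib, J.ip, J.iq] using h4)⟩ (by decide +kernel)
  simpa only [mul_assoc, mul_inv_rev, inv_inv, pow_three', J.iz, J.ia, J.ib, J.ip, J.iq] using key

theorem nA4 [Finite G] (hc : 48 ≤ Nat.card C1(b)) (h : ∀ K, C1(b) ⊓ C1(z) ≤ K → q * n ∈ K → C1(b) ≤ K) : False := by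
  obtain ⟨r1, r2, r3, r4, r5, l⟩ := J.d2
  obtain ⟨-, -, i3, i4, i5, -, -, i8, i9, -, -, -, -, i10⟩ := J.id5
  obtain ⟨-, -, -, -, -, -, x1, za, -⟩ := J.ne3
  have L : Rl (gK z a b q n) K48.rels := allR_iff.1 ⟨J.zz, J.aa, J.bb, J.qq, J.nn, l⟩
  have top : closure (gK z a b q n '' Set.Iio 5) = C1(b) := by
    refine le_antisymm ((closure_le _).2 ?_) (h _ (fun g hg => ?_) (mul_mem (gm 3) (gm 4)))
    · rintro _ ⟨i, hi, rfl⟩
      have : i < 5 := hi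
      interval_cases i
      exacts [mem_C1_comm.1 J.mb, mem_C1.2 J.ab, C1_self, mem_C1.2 J.id3, fix_iff.1 J.nb]
    · have U : ∀ g ∈ C1(z), g * a = a * g → g * b = b * g → g ∈ closure (gK z a b q n '' Set.Iio 5) := fun g h1 h2 h3 => by
        rcases J.sU h1 h2 h3 with e | e | e | e | e | e | e | e <;> rw [e]
        exacts [one_mem _, gm 0, gm 1, mul_mem (gm 0) (gm 1), gm 2, mul_mem (gm 0) (gm 2), mul_mem (gm 1) (gm 2),
          mul_mem (mul_mem (gm 0) (gm 1)) (gm 2)]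
      rcases J.sT hg.2 (mem_C1.1 hg.1) with e | e
      exacts [U g hg.2 e (mem_C1.1 hg.1), (mul_mem_cancel_right (gm 3)).1 (U _ (mul_mem hg.2 J.mq) e.1 e.2)]
  have c48 : Nat.card C1(b) = 48 := le_antisymm (by
    simpa [top] using (K48.idx _ L ⊥ (by simp [K48.subs])).2) hc
  have R := K48.rt L top c48
  obtain ⟨g, hg, g1, g3, hk, gy⟩ := c3 J.zz J.va.b1 J.toFM.nb J.bb J.qq J.id3 (mem_C1.2 r4.symm) J.q3
    (fun e => za (by rw [← r1, e]; simp)) r3 (fun g h1 h2 => by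
      have mb := mem_sup_left (T := zpowers (q * n)) (mem_zpowers b)
      have mr := mem_sup_right (S := zpowers b) (mem_zpowers (q * n))
      rcases J.f1 R h1 (mem_C1.1 h2) with e | e | e | e | e | e <;> rw [e]
      exacts [one_mem _, mb, mr, mul_mem mb mr, mul_mem mr mr, mul_mem mb (mul_mem mr mr)])
    ((pow_three' x).trans J.x3) x1 (mem_C1.1 J.mx).symm (by rw [← J.xb, ← cj_C1, card_cj, c48])
    (by rw [← i5, ← J.xb, ← cj_C1, ← cj_C1, card_cj, card_cj, c48])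
  have key : ∀ s w : G, (s * g * s⁻¹ = w ∨ (s * g * s⁻¹)⁻¹ = w) → s⁻¹ * w * s⁻¹⁻¹ ∈ C1(q * n) := fun s w e => by
    rcases e with rfl | rfl
    · simpa [mul_assoc] using hg
    · simpa [mul_assoc] using inv_mem hg
  have p3 : ∀ s : G, (s * g * s⁻¹) ^ 3 = 1 := fun s => by rw [conj_pow, g3]; simp
  have cm := fun s => cjc gy s
  simp only [← conj_mul (a := b * g), ← conj_mul (a := b), ← conj_inv (a := b)] at cm
  rcases hk with hk | hk
  · have := cm x⁻¹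
    rw [inv_inv, i9, ← inv_inv x] at this
    rcases J.f3 R (h := x⁻¹ * g * x⁻¹⁻¹) (mem_C1.2 (by have := cjc (mem_C1.1 hk) x⁻¹; rwa [cj_symm J.xb] at this)) (p3 _)
      (by simpa using this) with e | e | e | e | e
    exacts [cj_ne g1 _ e, J.va.a1 (J.col0 (by simpa using mem_C1.1 (key _ _ (.inl e)))),
      J.va.a1 (J.col0 (by simpa using mem_C1.1 (key _ _ (.inr e)))),
      J.va.a1 (J.col1 (by simpa using mem_C1.1 (key _ _ (.inl e)))),
      J.va.a1 (J.col1 (by simpa using mem_C1.1 (key _ _ (.inr e))))]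
  · have := cm x
    rw [J.xb] at this
    rcases J.f2 R (h := x * g * x⁻¹) (mem_C1.2 (by have := cjc (mem_C1.1 hk) x; rwa [i4] at this)) (p3 _) this
      with e | e | e | e | e
    exacts [cj_ne g1 _ e, J.va.a1 (J.col2 (by simpa using mem_C1.1 (key _ _ (.inl e)))),
      J.va.a1 (J.col2 (by simpa using mem_C1.1 (key _ _ (.inr e)))),
      J.va.a1 (J.col3 (by simpa using mem_C1.1 (key _ _ (.inl e)))),
      J.va.a1 (J.col3 (by simpa using mem_C1.1 (key _ _ (.inr e))))]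

theorem iso [Finite G] : Spor.IsoM12 G := by
  have : Nontrivial G := ⟨z, 1, J.ne0.2.1⟩
  obtain ⟨r1, r2, r3, r4, r5, -⟩ := J.d2
  obtain ⟨i1, i2, i3, i4, i5, i6, i7, -⟩ := J.id5
  obtain ⟨n1, n2, n3, n4, n5, n6, -, za, -⟩ := J.ne3
  have nb := J.toFM.nb
  have b1 := J.ne0.2.2.2.1
  have zb := mem_C1_comm.1 J.mb
  have qb := mem_C1.2 J.id3
  have nq : ¬ IsConj z q := fun e => nb (e.trans (isC J.xb).symm)
  have nqb : ¬ IsConj z (q * b) := fun e => nb (e.trans (isC i4))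
  have two := J.bs.two (IsConj.refl z) J.bb b1 J.ne0.2.2.2.2 J.mb
  rw [inf_comm] at two
  have aq : a * q ∈ C1(b) ⊓ C1(z) := ⟨mem_C1.2 J.id1.1, mul_mem J.ma J.mq⟩
  have hS := hallT two fun g hg => fix_iff.1 (by
    have e := cj_sq J.id1.2 g
    have := conj_mem_N hg.2 aq
    exact ((J.sq this.2 (mem_C1.1 this.1)).resolve_left fun f => cj_ne J.va.b1 g (e.symm.trans f)).symm.trans e |>.symm)
  have sK : ∀ g ∈ C1(b) ⊓ C1(z), g * g ∈ C1(a * q) := fun g h =>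
    (J.sq h.2 (mem_C1.1 h.1)).elim (· ▸ one_mem _) (· ▸ mem_C1_comm.1 aq.2)
  have cb : ∀ g ∈ C1(b), ∀ w, g * w * g⁻¹ = b → w = b := fun g hg w e => (cj_symm e).symm.trans (fix_iff.2 (inv_mem hg))
  have cz : ∀ g ∈ C1(b), ∀ w, g * w * g⁻¹ = z * b → IsConj z (w * b) := fun g hg w e =>
    (isC (by rw [← conj_mul, e, fix_iff.2 hg, i6] : g * (w * b) * g⁻¹ = z)).symm
  have d1 := nder hS sK ⟨qb, J.mq⟩ (fun h => n1 (mem_C1.1 h)) (J.qq ▸ one_mem _) fun g hg h => by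
    rcases J.sK h.2 (mem_C1.1 h.1) (cj_sq1 J.qq g) with e | e | e | e | e
    exacts [mem_C1.2 e.1, absurd e (cj_ne n3 g), absurd (isC e).symm nq, absurd (cb g hg _ e) n5, absurd (cz g hg _ e) nqb]
  have d2 := nder hS sK ⟨mul_mem qb C1_self, mul_mem J.mq J.mb⟩ (fun h => n2 (mem_C1.1 h)) (i3 ▸ one_mem _) fun g hg h => by
    rcases J.sK h.2 (mem_C1.1 h.1) (cj_sq1 i3 g) with e | e | e | e | e
    exacts [mem_C1.2 e.2, absurd e (cj_ne n4 g), absurd (isC e).symm nqb, absurd (cb g hg _ e) n6,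
      absurd (i7 ▸ cz g hg _ e) nq]
  have hN := (nml_of_der_le le_rfl der_le : ⁅C1(b), C1(b)⁆ ⊴ C1(b)).norm
  have hk : q ∉ ⁅C1(b), C1(b)⁆ ⊔ zpowers b := fun h => by
    obtain ⟨d, hd, y, hy, e⟩ := (mem_sup_of_norm' (zpowers_le.2 (hN C1_self))).1 h
    rcases H9.eq_one_or_eq_of_mem_zpowers J.bb hy with rfl | rfl
    · exact d1 (by rwa [e, mul_one])
    · exact d2 (by rwa [e, mul_assoc, J.bb, mul_one])
  have zL : z ∈ ⁅C1(b), C1(b)⁆ := by
    have := commutator_mem_commutator (mem_C1.2 J.ab) qb; rwa [commutatorElement_def, i2] at this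
  have aL : a ∈ ⁅C1(b), C1(b)⁆ := r1 ▸ conj_mem hN (mem_C1.2 r4) zL
  have U : ∀ g ∈ C1(z), g * a = a * g → g * b = b * g → ∃ w ∈ kl z a, g = w ∨ g = w * b := fun g h1 h2 h3 => by
    rcases J.sU h1 h2 h3 with e | e | e | e | e | e | e | e
    exacts [⟨_, one_mem _, .inl e⟩, ⟨_, kl_a, .inl e⟩, ⟨_, kl_b, .inl e⟩, ⟨_, mul_mem kl_a kl_b, .inl e⟩,
      ⟨_, one_mem _, .inr (e.trans (one_mul b).symm)⟩, ⟨_, kl_a, .inr e⟩, ⟨_, kl_b, .inr e⟩, ⟨_, mul_mem kl_a kl_b, .inr e⟩]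
  rcases cy J.bb b1 (.inl rfl) J.va.b1 nb (fun e => nb (e.trans (isC i1)))
    (r1 ▸ ⟨J.zz, J.aa, J.va.ab.symm, J.va.b1, J.va.a1, za⟩) zb (mem_C1.2 r4) qb J.q3 (by rw [r1, r2]) r3 r5 hS
    (fun g hg h => by
      rw [r1]
      refine U g hg.2 ((J.sT hg.2 (mem_C1.1 hg.1)).resolve_right fun e => hk ?_) (mem_C1.1 hg.1)
      obtain ⟨w, hw, e⟩ := U _ (mul_mem hg.2 J.mq) e.1 e.2
      have := mem_sup_left (T := zpowers b) (kl_le zL aL hw)
      exact (mul_mem_cancel_left h).1 (e.elim (· ▸ this) (· ▸ mul_mem this (mem_sup_right (mem_zpowers b))))) hk with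
    ⟨h1, h2⟩ | ⟨j, hj, jj, jr, jv, h, u1, u2⟩
  · exact (J.nA4 h1 h2).elim
  obtain ⟨a1, a2, a3, a4⟩ := J.j1 (mem_C1.1 hj) jj jr jv
  obtain ⟨s1, s2, s3, s4, s5, s6⟩ := J.j2 (mem_C1.1 hj) jj (u1 _ (mem_C1.2 a1) a2 a3 a4) jv
  have xi := xj J.x3 J.mx J.zz (u2 _ (mem_C1.2 s1) s2 s3 s4)
  have hH := J.le n j 1 (l := 13)
  have ha := J.cj (hH J.mq) (gm 9) J.id0.2.2.2.2.1
  exact isoM12 ((J.toFM.rl n j 1).eqs (J.toFq.hiv n j 1) [([9,1,10],[1]), ([9,0,10],[1,0]), ([9,9],[]), ([9,2,10],[2]), ([9,3,10],[7]), ([4,9,4,9,4,9],[]), ([11,11],[]), ([11,2,12],[2]), ([11,4,9,11,4,9],[]), ([11,0,11,0,11,0],[]), ([11,4,12],[4]), ([5,11,6],[11])]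
    ⟨J.na, J.nz, J.nn, J.nb, J.np, (show q * n * q * n * q * n = 1 by simpa only [mul_assoc, mul_inv_rev, inv_inv, pow_three', J.iz, J.ia, J.ib, J.ip, J.iq] using J.q3), jj, s5, (show j * q * n * j * q * n = 1 by simpa only [mul_assoc, mul_inv_rev, inv_inv, pow_three', J.iz, J.ia, J.ib, J.ip, J.iq] using jr), (show j * z * j * z * j * z = 1 by simpa only [mul_assoc, mul_inv_rev, inv_inv, pow_three', J.iz, J.ia, J.ib, J.ip, J.iq] using jv), s6, xi⟩ (by decide +kernel))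
    (J.etop hH ha (h _ (inf_le_right.trans hH) (mul_mem (gm 4) (gm 9)) (gm 11))
      (.inl ((Cj.symm ⟨_, mul_mem (gm 9) (gm 5), cj_comp J.xa J.np⟩).trans ha)))

end NM

theorem FM.main [Finite G] (J : FM z a b p q x t) (h : IsConj z a) : EL G ∨ Spor.IsoM12 G := by
  rcases J.norm h with ⟨n, N, np, hb⟩ | ⟨t, n, I⟩
  · have hH := J.le n 1 1 (l := 11)
    have hC := (J.cb h J.nb fun e => J.nb (e.trans (hb ⊤ le_top trivial).isConj.symm)).trans hH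
    exact .inl (J.toFr.ecase N np J.va J.pk J.cE (J.etop hH (N.cj (hH J.mq) (gm 9) J.id0.2.2.2.2.1) hC
      (Pz.cj (.inr ⟨J.nb, hC⟩) (hb _ hH (gm 9)).symm)))
  · exact .inr I.iso

theorem FM.simple [Finite G] [IsSimpleGroup G] (hG : ¬ IsMulCommutative G) (J : FM z a b p q x t) : Spor.IsoM12 G := by
  have cm : ∀ N : Subgroup G, N = ⊤ → IsMulCommutative N → False := fun N e h =>
    hG ⟨⟨fun g k => congrArg Subtype.val (h.1.1 ⟨g, e.ge trivial⟩ ⟨k, e.ge trivial⟩)⟩⟩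
  have h : IsConj z a := by
    by_contra na
    have := H9.zstar_center (H9.isolated_of_forall (H9.orderOf_eq_two.2 ⟨J.zz, J.va.b1⟩) fun y h1 h2 =>
      of_not_not fun ne => na (J.fused (mem_C1.2 h2.symm.eq) h1 ne)) (H9.pPrimeCore_eq_bot_of_forall fun O hO ho =>
        hO.eq_bot_or_eq_top.resolve_right fun e => by
          have := orderOf_dvd_card (e.ge (mem_top z))
          rw [H9.orderOf_eq_two.2 ⟨J.zz, J.va.b1⟩] at this
          exact ho.not_two_dvd_nat this)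
    exact cm _ ((normal_of_characteristic (center G)).eq_bot_or_eq_top.resolve_left (ne_bot_of_mem this J.va.b1)) inferInstance
  refine (J.main h).resolve_left fun ⟨N, hN, h1, _, h2, _⟩ => cm N (hN.eq_bot_or_eq_top.resolve_left fun e => ?_) h1
  rw [e, card_bot] at h2
  omega

theorem Bs.central [Finite G] (B : Bs z) (P : Sylow 2 G) (hu : ∀ g ∈ P, g * u = u * g) (u1 : u ≠ 1) : IsConj z u := by
  obtain ⟨Q, h0, h1, hz, hc⟩ := B.exS
  obtain ⟨g, -, e⟩ := sylow_le_cj Nat.prime_two (hall_sylow_top Nat.prime_two P) h1 le_top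
  have hm : g⁻¹ * u * g⁻¹⁻¹ ∈ C(Q) := mem_C.2 fun q hq => by
    have := cjc (hu _ (e (conj_mem_cj hq))) g⁻¹
    simpa [mul_assoc] using this
  exact (isC ((hc _ (C_le_C1 hz hm) hm).resolve_left (cj_ne u1 _))).symm

theorem FM.transport {Γ : Type*} [Group Γ] [Finite Γ] {z' : Γ} (J : FM z a b p q x t) (hz : orderOf z' = 2)
    (e : C1(z') ≃* C1(z)) : ∃ a b p q x t, FM z' a b p q x t := by
  let f : C1(z) →* Γ := C1(z').subtype.comp e.symm.toMonoidHom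
  have m : ∀ g, f g ∈ C1(z') := fun g => (e.symm g).2
  have hz' : f ⟨z, C1_self⟩ = z' := by
    have c : ∀ g : C1(z), (g : G) * e ⟨z', C1_self⟩ = e ⟨z', C1_self⟩ * g := fun g => by
      obtain ⟨g, rfl⟩ := e.surjective g
      rw [← coe_mul, ← coe_mul, ← map_mul, ← map_mul]
      exact congrArg _ (congrArg e (Subtype.ext (mem_C1.1 g.2)))
    rcases J.cq (e ⟨z', C1_self⟩).2 (c ⟨a, J.ma⟩) (c ⟨b, J.mb⟩) (c ⟨p, J.mp⟩) (c ⟨q, J.mq⟩) with h | h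
    · exact absurd (congrArg Subtype.val ((map_eq_one_iff e e.injective).1 (Subtype.ext h))) (H9.ne_one_of_orderOf hz)
    · rw [show (⟨z, C1_self⟩ : C1(z)) = e ⟨z', C1_self⟩ from Subtype.ext h.symm]
      exact congrArg Subtype.val (e.symm_apply_apply _)
  have k : ∀ {u v : C1(z)}, (u : G) = v → f u = f v := fun h => congrArg f (Subtype.ext h)
  refine ⟨f ⟨a, J.ma⟩, f ⟨b, J.mb⟩, f ⟨p, J.mp⟩, f ⟨q, J.mq⟩, f ⟨x, J.mx⟩, f ⟨t, J.mt⟩, ⟨⟨H9.mul_self_of_orderOf hz, ?_, ?_, ?_,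
    m _, m _, m _, ?_, ?_, ?_, ?_, ?_, ?_⟩, (Nat.card_congr e.toEquiv).trans J.card, m _, ?_, ?_, fun K h0 h1 h2 h3 h4 g hg => ?_⟩,
    ?_, ?_⟩
  rotate_left 11
  · obtain ⟨w, hw, h⟩ := J.top ((K.comap f).map C1(z).subtype) ⟨⟨z, C1_self⟩, by rwa [SetLike.mem_coe, mem_comap, hz'], rfl⟩
      ⟨_, h1, rfl⟩ ⟨_, h2, rfl⟩ ⟨_, h3, rfl⟩ ⟨_, h4, rfl⟩ (e ⟨g, hg⟩).2
    have : f w = g := by
      rw [show w = e ⟨g, hg⟩ from Subtype.ext h]; exact congrArg Subtype.val (e.symm_apply_apply _)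
    exact this ▸ hw
  all_goals simp only [← hz', ← map_mul, ← map_inv, ← map_one f]
  exacts [k J.tb, k J.tt, k J.aa, k J.bb, k J.x3, k J.xa, k J.xp, k J.xb, k J.xq, k J.ab, k J.aq, k J.tx, k J.ta]

end H25.K
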