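import Cfsg.Agent.H25.K6
import Cfsg.Agent.H25.KZ
import Cfsg.Agent.H18.GT1
import Cfsg.Agent.H15.StdS43
import Cfsg.Agent.S0270

/-! Janko's characterization of `PSp₄(3)` by the centralizer `(SL₂(3) ∘ SL₂(3)).2` of an involution (`FP.iso`,
`frameP`); `Z*` modulo a central involution (`zq`), weak hypothesis `Bw` on an involution centralizer. -/

set_option autoImplicit false
set_option maxRecDepth 8000

namespace H25.K
open Subgroup H18 H15 Cfsg

variable {G : Type*} [Group G] {z a b c g h j k m n p q s t u v w x y : G} {D K L M S : Subgroup G}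

/-- a 2-subgroup of `C(z)` through `t` whose centralizer is `⟨z⟩` -/
structure Bw (z t : G) : Prop where
  zz : z * z = 1
  z1 : z ≠ 1
  exS : ∃ S ≤ C1(z), PiGrp {2} S ∧ z ∈ S ∧ t ∈ S ∧ ∀ m ∈ C1(z), m ∈ C(S) → m = 1 ∨ m = z

namespace Bw
variable [Finite G] (B : Bw z t)
include B

theorem syl (hL : C1(z) ≤ L) : ∃ S, Hall {2} S L ∧ S ≤ C1(z) ∧ t ∈ S := by
  obtain ⟨Q, h0, h1, hz, ht, hc⟩ := B.exS
  obtain ⟨S, hS, hQ⟩ := exists_sylow_le Nat.prime_two h1 (h0.trans hL)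
  refine ⟨S, hS, ?_, hQ ht⟩
  by_contra hn
  have lt : S ⊓ C1(z) < S := lt_of_le_of_ne inf_le_left fun e => hn (e ▸ inf_le_right)
  obtain ⟨n, hn1, hn2⟩ := SetLike.exists_of_lt (hS.pi.nil.lt_norm lt)
  have h1 := conj_mem_N hn1.2 (⟨hQ hz, C1_self⟩ : z ∈ S ⊓ C1(z))
  have h2 : n * z * n⁻¹ ∈ C(Q) := mem_C.2 fun q hq => by
    have := cjc (mem_C1.1 (conj_mem_N' hn1.2 (⟨hQ hq, h0 hq⟩ : q ∈ S ⊓ C1(z))).2) n
    simpa [mul_assoc] using this
  rcases hc _ h1.2 h2 with e | e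
  · exact cj_ne B.z1 n e
  · exact hn2 ⟨hn1.1, fix_iff.1 e⟩

theorem top (hH : C1(z) ≤ M) (ht : s ∈ C1(z)) (tt : s * s = 1) (t1 : s ≠ 1) (nc : ¬ IsConj z s)
    (cl : ∀ y ∈ C1(z), y * y = 1 → y ≠ 1 → Pz M z y) : M = ⊤ := by
  have cl' : ∀ y ∈ M, y * y = 1 → y ≠ 1 → Pz M z y := fun y hy yy y1 => by
    obtain ⟨_, hS, h, -⟩ := B.syl hH
    obtain ⟨g, hg, e⟩ := into hS hy yy
    exact (cl _ (h e) (cj_sq1 yy g) (cj_ne y1 g)).cj ⟨g, hg, rfl⟩
  have h3 := ((cl s ht tt t1).resolve_left fun h => nc h.isConj.symm).2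
  refine eq_top_iff.2 fun g _ => ?_
  obtain ⟨v, v2, -, c1, c2⟩ := (H9.isConj_or_exists_commute (cj_sq1 B.zz g) tt).resolve_left fun h =>
    nc ((isC rfl).trans h)
  have h4 : C1(v) ≤ M := (cl' v (h3 (mem_C1.2 c2)) (H9.mul_self_of_orderOf v2)
    (H9.ne_one_of_orderOf v2)).elim (·.symm.cent hH) (·.2)
  rcases cl' _ (h4 (mem_C1.2 c1.symm)) (cj_sq1 B.zz g) (cj_ne B.z1 g) with ⟨k, hk, h⟩ | h
  · exact (mul_mem_cancel_left hk).1 (hH (fix_iff.1 (cj_comp rfl h)))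
  · exact absurd (isC rfl) h.1

theorem central (P : Sylow 2 G) (hu : ∀ g ∈ P, g * u = u * g) (u1 : u ≠ 1) : IsConj z u := by
  obtain ⟨Q, h0, h1, hz, -, hc⟩ := B.exS
  obtain ⟨g, -, e⟩ := sylow_le_cj Nat.prime_two (hall_sylow_top Nat.prime_two P) h1 le_top
  have hm : g⁻¹ * u * g⁻¹⁻¹ ∈ C(Q) := mem_C.2 fun q hq => by
    have := cjc (hu _ (e (conj_mem_cj hq))) g⁻¹
    simpa [mul_assoc] using this
  exact (isC ((hc _ (C_le_C1 hz hm) hm).resolve_left (cj_ne u1 _))).symm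

end Bw

/-- `Z*` modulo a central involution -/
theorem zq [Finite G] (aa : a * a = 1) (hD : D ≤ C1(a)) (ha : a ∈ D) (ht : t ∈ D) (tt : t * t = 1) (t1 : t ≠ 1) (ta : t ≠ a)
    (hS : Hall {2} S D) (iso : ∀ g ∈ D, g * t * g⁻¹ ∈ S → g * t * g⁻¹ = t ∨ g * t * g⁻¹ = t * a) (hz : z ∈ D) (hu : u ∈ D)
    (zz : z * z = 1) (two : ∀ g ∈ D, (g * z * g⁻¹ = z ∨ g * z * g⁻¹ = z * a) → PiElt {2} g)
    (pr : z * (u * z * u⁻¹) = u * (u * z * u⁻¹) * u⁻¹ * a) : ∀ g ∈ D, g * t * g⁻¹ = t ∨ g * t * g⁻¹ = t * a := by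
  let N := (zpowers a).subgroupOf D
  have mN : ∀ g : D, g ∈ N → (g : G) = 1 ∨ (g : G) = a := fun g h => H9.eq_one_or_eq_of_mem_zpowers aa h
  have : N.Normal := ⟨fun n h g => by
    refine mem_subgroupOf.2 ((mN n h).elim (fun e => ?_) fun e => ?_) <;> push_cast <;> rw [e]
    · simp
    · rw [fix_iff.2 (hD g.2)]; exact mem_zpowers a⟩
  let π := QuotientGroup.mk' N
  have πa : π ⟨a, ha⟩ = 1 := (QuotientGroup.eq_one_iff _).2 (mem_zpowers a)
  have inj : ∀ g h : D, π g = π h ↔ (g : G) = h ∨ (g : G) = h * a := fun g h => ⟨fun e =>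
    (mN _ (QuotientGroup.eq.1 e.symm)).imp (fun e => (inv_mul_eq_one.1 e).symm) inv_mul_eq_iff_eq_mul.1, fun e => e.elim
      (fun e => congrArg π (Subtype.ext e)) fun e => by rw [show g = h * ⟨a, ha⟩ from Subtype.ext e, map_mul, πa, mul_one]⟩
  let t' : D := ⟨t, ht⟩
  let z' : D := ⟨z, hz⟩
  let u' : D := ⟨u, hu⟩
  have zz' : π z' * π z' = 1 := by rw [← map_mul, show z' * z' = 1 from Subtype.ext zz, map_one]
  have tt' : π t' * π t' = 1 := by rw [← map_mul, show t' * t' = 1 from Subtype.ext tt, map_one]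
  have := H9.zstar_center (u := π t') (H9.isolated_of_forall (H9.orderOf_eq_two.2
    ⟨tt', fun e => ((inj t' 1).1 e).elim t1 fun e =>
      ta (e.trans (one_mul a))⟩) fun y hy hc => by
      obtain ⟨g, rfl⟩ := isConj_iff.1 hy
      obtain ⟨g, rfl⟩ := QuotientGroup.mk'_surjective N g
      have e1 : (g * t * (g : G)⁻¹ * t) ^ 2 ^ 2 = 1 := by
        have := (inj ((g * t' * g⁻¹ * t') ^ 2) 1).1 (by
          rw [map_pow, map_mul, map_mul, map_mul, map_inv, hc.symm.mul_pow, sq, sq, cj_sq1 tt', tt', one_mul, map_one])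
        rw [sq 2, pow_mul, sq]
        rcases this with e | e <;> push_cast at e <;> rw [e]
        exacts [one_mul 1, by rw [one_mul, aa]]
      have mt := mem_sup_right (S := zpowers (g * t * (g : G)⁻¹ * t)) (mem_zpowers t)
      obtain ⟨k, hk, e⟩ := sylow_le_cj Nat.prime_two hS
        (PiGrp.sup_norm' (PiElt.zpowers ((piNat_pow_self Nat.prime_two 2).of_dvd (orderOf_dvd_of_pow_eq_one e1)))
          (pi2 tt).zpowers (zpowers_le.2 (mem_N_of_cj_le (by
            rw [cj_zpowers, zpowers_le, mul_assoc _ _ t⁻¹, mul_inv_cancel_right, ← inv_mem_iff, mul_inv_rev,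
              inv_sq (cj_sq1 tt _), inv_sq tt]; exact mem_zpowers _))))
        (sup_le (zpowers_le.2 (mul_mem (mul_mem (mul_mem g.2 ht) (inv_mem g.2)) ht)) (zpowers_le.2 ht))
      have e2 := (inj (⟨k, hk⟩ * t' * (⟨k, hk⟩ : D)⁻¹) t').2 (iso k hk (e (conj_mem_cj mt)))
      have e3 := (inj (⟨k, hk⟩ * g * t' * (⟨k, hk⟩ * g : D)⁻¹) t').2 (iso _ (mul_mem hk g.2) (by
        rw [cj_comp rfl rfl]; exact e (conj_mem_cj ((mul_mem_cancel_right mt).1 (mem_sup_left (mem_zpowers _))))))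
      rw [← e2, cj_comp rfl rfl] at e3
      exact show π g * π t' * (π g)⁻¹ = π t' by simpa using e3)
    (H9.pPrimeCore_eq_bot_of_forall fun O hO ho => by
      have f0 : ∀ o ∈ O, o * π z' = π z' * o → o = 1 := fun o h e => by
        obtain ⟨g, rfl⟩ := QuotientGroup.mk'_surjective N o
        have := two g g.2 ((inj (g * z' * g⁻¹) z').1 (by rw [map_mul, map_mul, map_inv]; exact cj_fix e))
        rw [PiElt, orderOf_coe] at this
        exact PiElt.eq_one' (this.of_dvd (orderOf_map_dvd π g)) ((H5.piNat_two_compl.2 ho).of_dvd (orderOf_dvd_card h))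
      have f : ∀ c, ∀ o ∈ O, o * (c * π z' * c⁻¹) = c * π z' * c⁻¹ * o → o = 1 := fun c o h e =>
        conj_eq_one_iff.1 (f0 _ (hO.conj_mem o h c⁻¹) (by have := cjc e c⁻¹; rwa [cj_symm rfl] at this))
      refine eq_bot_iff.2 fun o h => f (π u' * π u') o h (mul_inv_eq_iff_eq_mul.1 ?_).symm
      have e := congrArg π (Subtype.ext pr : z' * (u' * z' * u'⁻¹) = u' * (u' * z' * u'⁻¹) * u'⁻¹ * ⟨a, ha⟩)
      simp only [map_mul, map_inv, πa, mul_one] at e
      rw [cj_comp (g := π u') rfl rfl, ← e]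
      exact cj_comp (inverts (norm_of_normal (mem_top _)) (cj_sq1 zz' _) (f _) h)
        ((inverts (norm_of_normal (mem_top _)) zz' f0 (inv_mem h)).trans (inv_inv o)))
  exact fun g hg => (inj (⟨g, hg⟩ * t' * (⟨g, hg⟩ : D)⁻¹) t').1 (by
    rw [map_mul, map_mul, map_inv]; exact cj_fix (mem_center_iff.1 this _))

/-- an involution acting on a group of odd order -/
theorem inv_dec [Finite G] (hO : PiGrp {2}ᶜ K) (hn : t ∈ N(K)) (tt : t * t = 1) (hy : y ∈ K) :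
    ∃ c ∈ K, ∃ j, c * t = t * c ∧ y = c * j⁻¹ ∧ t * y * t⁻¹ = c * j := by
  have m := mul_mem (inv_mem hy) (conj_mem_N hn hy)
  obtain ⟨i, hi⟩ := H5.piNat_two_compl.1 (hO.elt m)
  have e : t * (y⁻¹ * (t * y * t⁻¹)) * t⁻¹ = (y⁻¹ * (t * y * t⁻¹))⁻¹ := by
    rw [← conj_mul, ← cj_comp (g := t) (k := t) rfl rfl, tt]; group
  have m' := pow_mem m (i + 1)
  have e2 : y * ((y⁻¹ * (t * y * t⁻¹)) ^ (i + 1) * (y⁻¹ * (t * y * t⁻¹)) ^ (i + 1)) = t * y * t⁻¹ := by
    rw [← pow_add, show i + 1 + (i + 1) = 2 * i + 1 + 1 by ring, ← hi, pow_succ, pow_orderOf_eq_one]; group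
  have e3 : t * (y⁻¹ * (t * y * t⁻¹)) ^ (i + 1) * t⁻¹ = ((y⁻¹ * (t * y * t⁻¹)) ^ (i + 1))⁻¹ := by
    rw [← conj_pow, e, inv_pow]
  generalize (y⁻¹ * (t * y * t⁻¹)) ^ (i + 1) = j at *
  exact ⟨y * j, mul_mem hy m', j, (mul_inv_eq_iff_eq_mul.1 (by rw [← conj_mul, e3, ← e2]; group)).symm, by simp,
    by rw [← e2, mul_assoc]⟩

theorem modP {F : Type*} [Field F] [Fintype F] (hF : Fintype.card F = 3) :
    ∃ k : ℕ → PSp 2 F, Rl k KPS.rels ∧ closure (k '' Set.Iio 13) = ⊤ := by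
  obtain ⟨S⟩ := StdS43.std hF
  have := S.faithful
  exact ⟨wv S.M.gen [[12,17], [0,10,10,13], [1,11,11,16], [1,11,11,15], [10,7,10,17], [0,14], [1,15], [4,10,10,10,5], [4,10,10,10,5], [0,15], [1,14], [2,12,10,2], [2,12,10,2]],
    rl_of_rels (S.M.rels_of_idArr (D := 6) (by decide) (by decide +kernel)), eq_top_iff.2 (S.top ▸ StdS43.gen_mem S.rels
      (gen_in (U := [[6,10], [2,10,11,6,11,2], [4,11,2,3,5,10,11,4], [2,3,10,11,6,11,3,2]])
        (S.M.rels_of_idArr (D := 6) (by decide) (by decide +kernel)) (by decide +kernel)))⟩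

theorem bdH {f : ℕ → G} (R : Rl f KPS.rels) : Bd (closure (f '' Set.Iio 11)) (1 * 576) :=
  Bd.bot.step (KP.idx f (R.sub (by decide +kernel)) ⊥ (by simp [KP.subs]))

theorem bdP {f : ℕ → G} (R : Rl f KPS.rels) : Bd (closure (f '' Set.Iio 13)) (1 * 576 * 45) :=
  (bdH R).step (KPS.idx f R _ (subs_lt (by decide +kernel)))

/-- standard generators of the centralizer in `PSp₄(3)` -/
structure FP (z a b p q x t n : G) : Prop extends Fq z a b p q x where
  card : Nat.card C1(z) = 576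
  mt : t ∈ C1(z)
  mn : n ∈ C1(z)
  tx : t * x * t⁻¹ = x⁻¹
  ta : t * a * t⁻¹ = a
  tb : t * b * t⁻¹ = b
  tt : t * t = 1
  n3 : n * n * n = 1
  na : n * a * n⁻¹ = b
  nb : n * b * n⁻¹ = a * b * z
  nx : n * x * n⁻¹ = x
  nt : n * t * n⁻¹ = t
  top : ∀ K : Subgroup G, z ∈ K → a ∈ K → x ∈ K → t ∈ K → n ∈ K → C1(z) ≤ K

namespace FP
variable (J : FP z a b p q x t n)
include J

theorem rel0 (m j : G) : Rl (gE z a b p q x t n m j) (KP.rels ++ [[11,12],[13,14]]) :=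
  (rl_ext ((J.rel t).add (w := [7,8]) (mul_inv_cancel t)) (by decide +kernel) n m j).eqs (J.toFq.hiv n m j)
    [([0,7,0],[7]), ([7,5,8],[6]), ([7,1,8],[1]), ([7,2,8],[2]), ([7,7],[]), ([9,9,9],[]), ([9,0,10],[0]), ([9,1,10],[2]), ([9,2,10],[1,2,0]), ([9,5,10],[5]), ([9,7,10],[7])]
    ⟨show z * t * z = t by rw [← mem_C1.1 J.mt, mul_assoc, J.zz, mul_one], J.tx, J.ta, J.tb, J.tt, J.n3, fix_iff.2 J.mn, J.na, J.nb, J.nx, J.nt⟩ (by decide +kernel)

theorem rl (_n m j : G) : Rl (gE z a b p q x t n m j) (KP.rels ++ [[11,12],[13,14]] ++ (LQ ++ [[7,3,8,1,3],[7,4,8,2,4],[9,3,10,4],[9,4,10,0,4,3]])) :=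
  (J.rel0 m j).app (allR_iff.1 ((KP.ct _ ((J.rel0 m j).sub (by decide +kernel)) ⊥ (by simp [KP.subs])).rels (by decide +kernel)))

theorem le (m j : G) {l : ℕ} (h : 11 ≤ l := by decide) : C1(z) ≤ closure (gE z a b p q x t n m j '' Set.Iio l) :=
  J.top _ (gm 0 (by omega)) (gm 1 (by omega)) (gm 5 (by omega)) (gm 7 (by omega)) (gm 9 (by omega))

theorem rt : RT C1(z) (gE z a b p q x t n 1 1) 11 576 KP.wk KP.iv KP.wd :=
  KP.rt ((J.rel0 1 1).sub (by decide +kernel)) (le_antisymm ((closure_le _).2 (by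
    rintro _ ⟨i, hi, rfl⟩
    have : i < 11 := hi
    interval_cases i
    exacts [C1_self, J.ma, J.mb, J.mp, J.mq, J.mx, inv_mem J.mx, J.mt, inv_mem J.mt, J.mn, inv_mem J.mn])) (J.le 1 1)) J.card

theorem tz : FP z a b p q x (t * z) n :=
  ⟨J.toFq, J.card, mul_mem J.mt C1_self, J.mn, cj_comp (cj_fix (mem_C1.1 J.mx).symm) J.tx,
    cj_comp (cj_fix (mem_C1.1 J.ma).symm) J.ta, cj_comp (cj_fix (mem_C1.1 J.mb).symm) J.tb,
    by rw [mul_assoc, ← mul_assoc z, ← mem_C1.1 J.mt, mul_assoc, J.zz, mul_one, J.tt], J.n3, J.na, J.nb, J.nx,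
    by rw [← conj_mul, J.nt, fix_iff.2 J.mn], fun K h0 h1 h2 h3 => J.top K h0 h1 h2 ((mul_mem_cancel_right h0).1 h3)⟩

theorem ne0 :
    a ≠ 1 ∧
    z ≠ 1 ∧
    a ≠ z ∧
    t ≠ 1 ∧
    t ≠ a ∧
    t ≠ z ∧
    n ≠ 1 ∧
    t * z ≠ 1 ∧
    x ≠ 1 :=
  J.rt.nes (l := [([1],[]), ([0],[]), ([1],[0]), ([7],[]), ([7],[1]), ([7],[0]), ([9],[]), ([7,0],[]), ([5],[])]) (by decide +kernel)

theorem id0 :
    b * p * a = a * (b * p) ∧
    b * p * (b * p) = z ∧
    q * a * q⁻¹ = a * z ∧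
    p * a = a * p ∧
    q * (a * z) * q⁻¹ = a ∧
    t * a = a * t ∧
    b * a = a * b ∧
    t * z * z = t ∧
    p * (t * a) * p⁻¹ = t ∧
    a * z * t = t * (a * z) ∧
    n * t = t * n ∧
    t * z * t = z ∧
    (a * z * n) ^ 3 = 1 ∧
    (a * z * n⁻¹) ^ 3 = 1 ∧
    n * x = x * n ∧
    a * b * z * a = a * (a * b * z) ∧
    p * a * z * a = a * (p * a * z) ∧
    x * b * x * a * (x * b * x)⁻¹ = p * a * z := by
  have key : b * p * a = a * b * p ∧
    b * p * b * p = z ∧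
    q * a * q = a * z ∧
    p * a = a * p ∧
    q * a * z * q = a ∧
    t * a = a * t ∧
    b * a = a * b ∧
    t * z * z = t ∧
    p * t * a * p = t ∧
    a * z * t = t * a * z ∧
    n * t = t * n ∧
    t * z * t = z ∧
    a * z * n * a * z * n * a * z * n = 1 ∧
    a * z * n⁻¹ * a * z * n⁻¹ * a * z * n⁻¹ = 1 ∧
    n * x = x * n ∧
    a * b * z * a = a * a * b * z ∧
    p * a * z * a = a * p * a * z ∧
    x * b * x * a * x⁻¹ * b * x⁻¹ = p * a * z :=
    J.rt.ct.eqs (l := [([2,3,1],[1,2,3]), ([2,3,2,3],[0]), ([4,1,4],[1,0]), ([3,1],[1,3]), ([4,1,0,4],[1]), ([7,1],[1,7]), ([2,1],[1,2]), ([7,0,0],[7]), ([3,7,1,3],[7]), ([1,0,7],[7,1,0]), ([9,7],[7,9]), ([7,0,7],[0]), ([1,0,9,1,0,9,1,0,9],[]), ([1,0,10,1,0,10,1,0,10],[]), ([9,5],[5,9]), ([1,2,0,1],[1,1,2,0]), ([3,1,0,1],[1,3,1,0]), ([5,2,5,1,6,2,6],[3,1,0])]) (by decide +kernel)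
  simpa only [mul_assoc, mul_inv_rev, inv_inv, pow_three', J.iz, J.ia, J.ib, J.ip, J.iq] using key

theorem va : Kl4 a z := ⟨J.aa, J.zz, mem_C1.1 J.ma, J.ne0.1, J.ne0.2.1, J.ne0.2.2.1⟩

theorem vt : Kl4 t z := ⟨J.tt, J.zz, mem_C1.1 J.mt, J.ne0.2.2.2.1, J.ne0.2.1, J.ne0.2.2.2.2.2.1⟩

theorem sw {h : G} (hh : h ∈ C1(z)) (h1 : h * h * (h * h) = 1) :
    ∃ k ∈ C1(z), h * h = 1 ∨
    h * h = z ∨
    (k * k = 1 ∧ k * (h * h) * k⁻¹ = z * (h * h)) := by
  have key : ∃ k ∈ C1(z), h * h = 1 ∨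
    h * h = z ∨
    (k * k = 1 ∧ k * h * h * k⁻¹ = z * h * h) :=
    J.rt.solve (wt := H25.tb (nat_lit 0x200000000000000000000000000000000000000020000000000000000000000002008000000000000000000000000c000000000000000020000000000000000000000000000000000000000000000000000000000000000000000000000000000000000000080200000000000000000000000000000000000000000000000000000020000000800000020080000000000000000000003008000000000000000030000000002000000080000003008000000000000000040000000c0000000008000000000002000000080001000000000000000c000000300000000000000200000008040000000000000000080000000000020000000000000020000000c0200000000000000000000000000000000000000000080000003010000000000000000000000000000000000000000800000030000000000000000080000000008000000000000000000000000c000000000c000000000000000000000000000010000000401400000000000000000010000000000000010000000000000000040000000004000000000001400000000000000000000000000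5000000000000000000000000000000000000000001400000000000000000000000000000000000000000000000000000000000802014000000300c04000000000000803000000100000000000040000000000000000000000000000000000000000000000000200000000000000000000000000000000c00000000000000000000040140000000000000000000000000000000000000000000000000000000040140000000000040000000000014000000000000000000000000000000000000000000000000000000000000000000000000000000000000000000000000000000000000000000000) 10) (d := 10)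
    (hyps := [([0,0,0,0],[])])
    (concl := [[([0,0],[])], [([0,0],[4])], [([2,2],[]), ([2,0,0,3],[4,0,0])]])
    (by decide +kernel) hh (show h * h * h * h = 1 by simpa only [mul_assoc, mul_inv_rev, inv_inv, pow_three', J.iz, J.ia, J.ib, J.ip, J.iq] using h1)
  simpa only [mul_assoc, mul_inv_rev, inv_inv, pow_three', J.iz, J.ia, J.ib, J.ip, J.iq] using key

theorem cls {h : G} (hh : h ∈ C1(z)) (h1 : h * h = 1) :
    ∃ k ∈ C1(z), h = 1 ∨
    h = z ∨
    k * h * k⁻¹ = a ∨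
    k * h * k⁻¹ = t ∨
    k * h * k⁻¹ = t * z :=
  J.rt.solve (wt := H25.tb (nat_lit 0x32400000000000000000000000000000000000001640000000000000000000000000000000000000000000000000000000000000000000000000000000000000000000000000000000000000000000000000000000000000000000000000000000000000000000000000000000000000000000000000000000000000000000000000000000000000000000000000000000000000000000000000000000000000000000000000000000003240000000000000000000000000000000000000000000000000000000000000000000000000001f00000000000000000000000000000000000000000000000000000000000000000000591a4000000000000000000000000000000000000000000000000000000000000000cc2e000000000000000000000000000000000000001100000038000000000000000000000000000000000000000000000000000000000000000000000000000000000000000000000000000000000000000000000000000000000000000000000000000000000000000000000000000000000000000000000000000000000000000000000000000000000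00000000000000000000000000000000000000000000000000000002d000000000000000000000000000000000000000000000000000000000000000000cc2e0000000000000000f4000000000000000000b400000000000000000000000001100000000000000000000000000000e000000000000000000000000000000034000000000006000000000000000014000006a00000010000001100000000000000001800000000000000000000003640000000000000000000000000000cc0000008000000000001404034da000350e0000000600000000000003601400000001600d0680000000) 10) (d := 10)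
    (hyps := [([0,0],[])])
    (concl := [[([0],[])], [([0],[4])], [([2,0,3],[5])], [([2,0,3],[11])], [([2,0,3],[11,4])]])
    (by decide +kernel) hh h1

theorem c3 {h : G} (hh : h ∈ C1(z)) (h1 : h * a = a * h) (h2 : h * h * h = 1) :
    h = 1 :=
  (J.rt.solve (wt := fun _ => 0) (d := 10)
    (hyps := [([0,5],[5,0]), ([0,0,0],[])])
    (concl := [[([0],[])]])
    (by decide +kernel) hh ⟨h1, h2⟩).elim fun _ e => e.2

theorem cq {h : G} (hh : h ∈ C1(z)) (h1 : a * h = h * a) (h2 : b * h = h * b) (h3 : p * h = h * p) (h4 : q * h = h * q) :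
    h = 1 ∨
    h = z :=
  (J.rt.solve (wt := fun _ => 0) (d := 10)
    (hyps := [([5,0],[0,5]), ([6,0],[0,6]), ([7,0],[0,7]), ([8,0],[0,8])])
    (concl := [[([0],[])], [([0],[4])]])
    (by decide +kernel) hh ⟨h1, h2, h3, h4⟩).elim fun _ e => e.2

theorem sq {h : G} (hh : h ∈ C1(z)) (h1 : h * a = a * h) :
    h * h = 1 ∨
    h * h = z ∨
    h * h = a ∨
    h * h = a * z :=
  (J.rt.solve (wt := fun _ => 0) (d := 10)
    (hyps := [([0,5],[5,0])])
    (concl := [[([0,0],[])], [([0,0],[4])], [([0,0],[5])], [([0,0],[5,4])]])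
    (by decide +kernel) hh h1).elim fun _ e => e.2

theorem nab {h : G} (hh : h ∈ C1(z)) (h1 : h * a * h⁻¹ = a) (h2 : h * b * h⁻¹ = a * b) :
    False :=
  (J.rt.solve (wt := fun _ => 0) (d := 10)
    (hyps := [([0,5,1],[5]), ([0,6,1],[5,6])])
    (concl := [])
    (by decide +kernel) hh ⟨h1, h2⟩).elim fun _ e => e.2

theorem f1 {h : G} (hh : h ∈ C1(z)) (h1 : h * t = t * h) (h2 : h * h * h = 1) :
    ∃ k ∈ C1(z), h = 1 ∨
    (k * t = t * k ∧ k * h * k⁻¹ = n) ∨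
    (k * t = t * k ∧ k * h * k⁻¹ = n⁻¹) :=
  J.rt.solve (wt := H25.tb (nat_lit 0xc02000000000000000000000000000000000000000000000000000000000000000000000000000000000000000000000000000000000000000000000814000000000005003000000000000000000000000000000000000000000000000000000000000000000000000000000000000000000000000000000000000000000000000000000000000000000000000000000000000000000000) 10) (d := 10)
    (hyps := [([0,11],[11,0]), ([0,0,0],[])])
    (concl := [[([0],[])], [([2,11],[11,2]), ([2,0,3],[13])], [([2,11],[11,2]), ([2,0,3],[14])]])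
    (by decide +kernel) hh ⟨h1, h2⟩

theorem f2 {h : G} (hh : h ∈ C1(z)) (h1 : h * t = t * h) (h2 : h * h = 1) (h3 : (h * n) ^ 3 = 1) :
    ∃ k ∈ C1(z), h = 1 ∨
    (k * t = t * k ∧ k * n * k⁻¹ = n ∧ k * h * k⁻¹ = a * z) :=
  J.rt.solve (wt := H25.tb (nat_lit 0x8000000000000000000000001a0000000000000000000000000) 10) (d := 10)
    (hyps := [([0,11],[11,0]), ([0,0],[]), ([0,13,0,13,0,13],[])])
    (concl := [[([0],[])], [([2,11],[11,2]), ([2,13,3],[13]), ([2,0,3],[5,4])]])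
    (by decide +kernel) hh ⟨h1, h2, (show h * n * h * n * h * n = 1 by simpa only [mul_assoc, mul_inv_rev, inv_inv, pow_three', J.iz, J.ia, J.ib, J.ip, J.iq] using h3)⟩

theorem f3 {h : G} (hh : h ∈ C1(z)) (h1 : h * t = t * h) (h2 : h * n = n * h) (h3 : h * (a * z) = a * z * h) :
    h = 1 ∨
    h = z ∨
    h = t ∨
    h = t * z :=
  (J.rt.solve (wt := fun _ => 0) (d := 10)
    (hyps := [([0,11],[11,0]), ([0,13],[13,0]), ([0,5,4],[5,4,0])])
    (concl := [[([0],[])], [([0],[4])], [([0],[11])], [([0],[11,4])]])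
    (by decide +kernel) hh ⟨h1, h2, (show h * a * z = a * z * h by simpa only [mul_assoc, mul_inv_rev, inv_inv, pow_three', J.iz, J.ia, J.ib, J.ip, J.iq] using h3)⟩).elim fun _ e => e.2

theorem f4 {h : G} (hh : h ∈ C1(z)) (h1 : h * t = t * h) (h2 : h * n = n * h) :
    h = 1 ∨
    h = n ∨
    h = n⁻¹ ∨
    h * h = 1 ∨
    h * h * h = z ∨
    h * h * h = t ∨
    h * h * h = t * z :=
  (J.rt.solve (wt := fun _ => 0) (d := 10)
    (hyps := [([0,11],[11,0]), ([0,13],[13,0])])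
    (concl := [[([0],[])], [([0],[13])], [([0],[14])], [([0,0],[])], [([0,0,0],[4])], [([0,0,0],[11])], [([0,0,0],[11,4])]])
    (by decide +kernel) hh ⟨h1, h2⟩).elim fun _ e => e.2

theorem f5 {h : G} (hh : h ∈ C1(z)) (h1 : h * a = a * h) (h2 : h * b = b * h) (h3 : h * t = t * h) (h4 : p * h * p⁻¹ * h = 1) :
    h = 1 ∨
    h = z ∨
    h = a ∨
    h = a * z :=
  (J.rt.solve (wt := fun _ => 0) (d := 10)
    (hyps := [([0,5],[5,0]), ([0,6],[6,0]), ([0,11],[11,0]), ([7,0,7,0],[])])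
    (concl := [[([0],[])], [([0],[4])], [([0],[5])], [([0],[5,4])]])
    (by decide +kernel) hh ⟨h1, h2, h3, (show p * h * p * h = 1 by simpa only [mul_assoc, mul_inv_rev, inv_inv, pow_three', J.iz, J.ia, J.ib, J.ip, J.iq] using h4)⟩).elim fun _ e => e.2

theorem sA {h : G} (hh : h ∈ C1(z)) (h1 : h * a = a * h) (h2 : h * h = 1) :
    ∃ k ∈ C1(z), h = t ∨
    h = t * a ∨
    h = 1 ∨
    h = a ∨
    k * h * k⁻¹ = a ∨
    k * h * k⁻¹ = t * z ∨
    k * (h * a) * k⁻¹ = a ∨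
    k * (h * a) * k⁻¹ = t * z := by
  have key : ∃ k ∈ C1(z), h = t ∨
    h = t * a ∨
    h = 1 ∨
    h = a ∨
    k * h * k⁻¹ = a ∨
    k * h * k⁻¹ = t * z ∨
    k * h * a * k⁻¹ = a ∨
    k * h * a * k⁻¹ = t * z :=
    J.rt.solve (wt := H25.tb (nat_lit 0x50000000000000000000000000000000000000000000000000000000000000000000000000000000000000000000000000000000000b4000000000000000000000000000000000000000000000000000000000000000000000000000000000000000000000000000000000000000000000014000000000000010000001100000000000000000000000000000000000000000000000000000000000000000000000cc000000800000000000b4000000000035000000000600000000000003601400000000000d0680001400) 10) (d := 10)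
    (hyps := [([0,5],[5,0]), ([0,0],[])])
    (concl := [[([0],[11])], [([0],[11,5])], [([0],[])], [([0],[5])], [([2,0,3],[5])], [([2,0,3],[11,4])], [([2,0,5,3],[5])], [([2,0,5,3],[11,4])]])
    (by decide +kernel) hh ⟨h1, h2⟩
  simpa only [mul_assoc, mul_inv_rev, inv_inv, pow_three', J.iz, J.ia, J.ib, J.ip, J.iq] using key

theorem u3 {h : G} (hh : h ∈ C1(z)) (h1 : h * a = a * h) (h2 : h * h = a * z) :
    h = b * p * t ∨
    h = b * p * t * z ∨
    h = b * p * t * a ∨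
    h = b * p * t * (a * z) := by
  have key : h = b * p * t ∨
    h = b * p * t * z ∨
    h = b * p * t * a ∨
    h = b * p * t * a * z :=
    (J.rt.solve (wt := fun _ => 0) (d := 10)
    (hyps := [([0,5],[5,0]), ([0,0],[5,4])])
    (concl := [[([0],[6,7,11])], [([0],[6,7,11,4])], [([0],[6,7,11,5])], [([0],[6,7,11,5,4])]])
    (by decide +kernel) hh ⟨h1, h2⟩).elim fun _ e => e.2
  simpa only [mul_assoc, mul_inv_rev, inv_inv, pow_three', J.iz, J.ia, J.ib, J.ip, J.iq] using key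

theorem b0 {h : G} (hh : h ∈ C1(z)) (h1 : h * a = a * h) (h2 : h * h = 1) (h3 : h * (b * p * t) * (h * (b * p * t)) = 1) :
    ∃ k ∈ C1(z), k * h * k⁻¹ = t ∨
    k * h * k⁻¹ = t * z ∨
    k * (h * (b * p * t)) * k⁻¹ = t ∨
    k * (h * (b * p * t)) * k⁻¹ = t * z := by
  have key : ∃ k ∈ C1(z), k * h * k⁻¹ = t ∨
    k * h * k⁻¹ = t * z ∨
    k * h * b * p * t * k⁻¹ = t ∨
    k * h * b * p * t * k⁻¹ = t * z :=
    J.rt.solve (wt := H25.tb (nat_lit 0x2d0000000000000000000000000000000000000000000000000000000000000000000000000000000000000000000000000000000000b4000000000000000000000000000000000000000000000000000000000000000000000000000000000000000000000000000000000000000000000014000000000000000000002d000000000000000000000000000000000000000000000000000000000000000000000001400000000000000000014000000000000000000002d0000000000000000000000000000050000000000) 10) (d := 10)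
    (hyps := [([0,5],[5,0]), ([0,0],[]), ([0,6,7,11,0,6,7,11],[])])
    (concl := [[([2,0,3],[11])], [([2,0,3],[11,4])], [([2,0,6,7,11,3],[11])], [([2,0,6,7,11,3],[11,4])]])
    (by decide +kernel) hh ⟨h1, h2, (show h * b * p * t * h * b * p * t = 1 by simpa only [mul_assoc, mul_inv_rev, inv_inv, pow_three', J.iz, J.ia, J.ib, J.ip, J.iq] using h3)⟩
  simpa only [mul_assoc, mul_inv_rev, inv_inv, pow_three', J.iz, J.ia, J.ib, J.ip, J.iq] using key

theorem b1 {h : G} (hh : h ∈ C1(z)) (h1 : h * a = a * h) (h2 : h * h = 1) (h3 : h * (b * p * t * z) * (h * (b * p * t * z)) = 1) :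
    ∃ k ∈ C1(z), k * h * k⁻¹ = t ∨
    k * h * k⁻¹ = t * z ∨
    k * (h * (b * p * t * z)) * k⁻¹ = t ∨
    k * (h * (b * p * t * z)) * k⁻¹ = t * z := by
  have key : ∃ k ∈ C1(z), k * h * k⁻¹ = t ∨
    k * h * k⁻¹ = t * z ∨
    k * h * b * p * t * z * k⁻¹ = t ∨
    k * h * b * p * t * z * k⁻¹ = t * z :=
    J.rt.solve (wt := H25.tb (nat_lit 0x2d0000000000000000000000000000000000000000000000000000000000000000000000000000000000000000000000000000000000b4000000000000000000000000000000000000000000000000000000000000000000000000000000000000000000000000000000000000000000000014000000000000000000002d000000000000000000000000000000000000000000000000000000000000000000000001400000000000000000014000000000000000000002d0000000000000000000000000000050000000000) 10) (d := 10)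
    (hyps := [([0,5],[5,0]), ([0,0],[]), ([0,6,7,11,4,0,6,7,11,4],[])])
    (concl := [[([2,0,3],[11])], [([2,0,3],[11,4])], [([2,0,6,7,11,4,3],[11])], [([2,0,6,7,11,4,3],[11,4])]])
    (by decide +kernel) hh ⟨h1, h2, (show h * b * p * t * z * h * b * p * t * z = 1 by simpa only [mul_assoc, mul_inv_rev, inv_inv, pow_three', J.iz, J.ia, J.ib, J.ip, J.iq] using h3)⟩
  simpa only [mul_assoc, mul_inv_rev, inv_inv, pow_three', J.iz, J.ia, J.ib, J.ip, J.iq] using key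

theorem b2 {h : G} (hh : h ∈ C1(z)) (h1 : h * a = a * h) (h2 : h * h = 1) (h3 : h * (b * p * t * a) * (h * (b * p * t * a)) = 1) :
    ∃ k ∈ C1(z), k * h * k⁻¹ = t ∨
    k * h * k⁻¹ = t * z ∨
    k * (h * (b * p * t * a)) * k⁻¹ = t ∨
    k * (h * (b * p * t * a)) * k⁻¹ = t * z := by
  have key : ∃ k ∈ C1(z), k * h * k⁻¹ = t ∨
    k * h * k⁻¹ = t * z ∨
    k * h * b * p * t * a * k⁻¹ = t ∨
    k * h * b * p * t * a * k⁻¹ = t * z :=
    J.rt.solve (wt := H25.tb (nat_lit 0x2d0000000000000000000000000000000000000000000000000000000000000000000000000000000000000000000000000000000000b4000000000000000000000000000000000000000000000000000000000000000000000000000000000000000000000000000000000000000000000014000000000000000000000500000000000000000000000000000000000000000000000000000000000000000000000b400000000000000000014000000000000000000000500000000000000000000000000002d0000000000) 10) (d := 10)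
    (hyps := [([0,5],[5,0]), ([0,0],[]), ([0,6,7,11,5,0,6,7,11,5],[])])
    (concl := [[([2,0,3],[11])], [([2,0,3],[11,4])], [([2,0,6,7,11,5,3],[11])], [([2,0,6,7,11,5,3],[11,4])]])
    (by decide +kernel) hh ⟨h1, h2, (show h * b * p * t * a * h * b * p * t * a = 1 by simpa only [mul_assoc, mul_inv_rev, inv_inv, pow_three', J.iz, J.ia, J.ib, J.ip, J.iq] using h3)⟩
  simpa only [mul_assoc, mul_inv_rev, inv_inv, pow_three', J.iz, J.ia, J.ib, J.ip, J.iq] using key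

theorem b3 {h : G} (hh : h ∈ C1(z)) (h1 : h * a = a * h) (h2 : h * h = 1) (h3 : h * (b * p * t * (a * z)) * (h * (b * p * t * (a * z))) = 1) :
    ∃ k ∈ C1(z), k * h * k⁻¹ = t ∨
    k * h * k⁻¹ = t * z ∨
    k * (h * (b * p * t * (a * z))) * k⁻¹ = t ∨
    k * (h * (b * p * t * (a * z))) * k⁻¹ = t * z := by
  have key : ∃ k ∈ C1(z), k * h * k⁻¹ = t ∨
    k * h * k⁻¹ = t * z ∨
    k * h * b * p * t * a * z * k⁻¹ = t ∨
    k * h * b * p * t * a * z * k⁻¹ = t * z :=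
    J.rt.solve (wt := H25.tb (nat_lit 0x2d0000000000000000000000000000000000000000000000000000000000000000000000000000000000000000000000000000000000b4000000000000000000000000000000000000000000000000000000000000000000000000000000000000000000000000000000000000000000000014000000000000000000000500000000000000000000000000000000000000000000000000000000000000000000000b400000000000000000014000000000000000000000500000000000000000000000000002d0000000000) 10) (d := 10)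
    (hyps := [([0,5],[5,0]), ([0,0],[]), ([0,6,7,11,5,4,0,6,7,11,5,4],[])])
    (concl := [[([2,0,3],[11])], [([2,0,3],[11,4])], [([2,0,6,7,11,5,4,3],[11])], [([2,0,6,7,11,5,4,3],[11,4])]])
    (by decide +kernel) hh ⟨h1, h2, (show h * b * p * t * a * z * h * b * p * t * a * z = 1 by simpa only [mul_assoc, mul_inv_rev, inv_inv, pow_three', J.iz, J.ia, J.ib, J.ip, J.iq] using h3)⟩
  simpa only [mul_assoc, mul_inv_rev, inv_inv, pow_three', J.iz, J.ia, J.ib, J.ip, J.iq] using key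

theorem dsp (h1 : m * z * m⁻¹ = t) (h2 : m * t * m⁻¹ = z) (h3 : m * n * m⁻¹ = n) (h4 : m * (a * z) * m⁻¹ = a * z) :
    m * p * m * p * m * z = z * (m * p * m * p * m) ∧
    m * p * m * p * m * a * (m * p * m * p * m)⁻¹ = a ∧
    m * p * m * p * m * b * (m * p * m * p * m)⁻¹ = a * b := by
  have key : m * p * m * p * m * z = z * m * p * m * p * m ∧
    m * p * m * p * m * a * m⁻¹ * p * m⁻¹ * p * m⁻¹ = a ∧
    m * p * m * p * m * b * m⁻¹ * p * m⁻¹ * p * m⁻¹ = a * b :=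
    eqs_of (J.rl n m 1) (J.hiv n m 1) DP2.mem [0,1,2,3,7,8,9,10,11,12] (hy := [([11,0,12],[7]), ([11,7,12],[0]), ([11,9,12],[9]), ([11,1,0,12],[1,0])])
    (cl := [([11,3,11,3,11,0],[0,11,3,11,3,11]), ([11,3,11,3,11,1,12,3,12,3,12],[1]), ([11,3,11,3,11,2,12,3,12,3,12],[1,2])])
    ⟨h1, h2, h3, (show m * a * z * m⁻¹ = a * z by simpa only [mul_assoc, mul_inv_rev, inv_inv, pow_three', J.iz, J.ia, J.ib, J.ip, J.iq] using h4)⟩ (by decide +kernel)
  simpa only [mul_assoc, mul_inv_rev, inv_inv, pow_three', J.iz, J.ia, J.ib, J.ip, J.iq] using key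

theorem dcp (h1 : m * z * m⁻¹ = t * z) (h2 : m * t * m⁻¹ = z) (h3 : m * n * m⁻¹ = n) (h4 : m * (a * z) * m⁻¹ = a * z) :
    m * p * m⁻¹ * p * m * z = z * (m * p * m⁻¹ * p * m) ∧
    m * p * m⁻¹ * p * m * a * (m * p * m⁻¹ * p * m)⁻¹ = a ∧
    m * p * m⁻¹ * p * m * b * (m * p * m⁻¹ * p * m)⁻¹ = a * b := by
  have key : m * p * m⁻¹ * p * m * z = z * m * p * m⁻¹ * p * m ∧
    m * p * m⁻¹ * p * m * a * m⁻¹ * p * m * p * m⁻¹ = a ∧
    m * p * m⁻¹ * p * m * b * m⁻¹ * p * m * p * m⁻¹ = a * b :=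
    eqs_of (J.rl n m 1) (J.hiv n m 1) DP3.mem [0,1,2,3,7,8,9,10,11,12] (hy := [([11,0,12],[7,0]), ([11,7,12],[0]), ([11,9,12],[9]), ([11,1,0,12],[1,0])])
    (cl := [([11,3,12,3,11,0],[0,11,3,12,3,11]), ([11,3,12,3,11,1,12,3,11,3,12],[1]), ([11,3,12,3,11,2,12,3,11,3,12],[1,2])])
    ⟨h1, h2, h3, (show m * a * z * m⁻¹ = a * z by simpa only [mul_assoc, mul_inv_rev, inv_inv, pow_three', J.iz, J.ia, J.ib, J.ip, J.iq] using h4)⟩ (by decide +kernel)
  simpa only [mul_assoc, mul_inv_rev, inv_inv, pow_three', J.iz, J.ia, J.ib, J.ip, J.iq] using key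

theorem dcm (h1 : m * z * m⁻¹ = t * z) (h2 : m * t * m⁻¹ = z) (h3 : m * n * m⁻¹ = n⁻¹) (h4 : m * (a * z) * m⁻¹ = a * z) :
    p * m * m * m * z = z * (p * m * m * m) ∧
    p * m * m * m * a * (p * m * m * m)⁻¹ = a ∧
    p * m * m * m * b * (p * m * m * m)⁻¹ = a * b := by
  have key : p * m * m * m * z = z * p * m * m * m ∧
    p * m * m * m * a * m⁻¹ * m⁻¹ * m⁻¹ * p = a ∧
    p * m * m * m * b * m⁻¹ * m⁻¹ * m⁻¹ * p = a * b :=
    eqs_of (J.rl n m 1) (J.hiv n m 1) DP4.mem [0,1,2,3,7,8,9,10,11,12] (hy := [([11,0,12],[7,0]), ([11,7,12],[0]), ([11,9,12],[10]), ([11,1,0,12],[1,0])])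
    (cl := [([3,11,11,11,0],[0,3,11,11,11]), ([3,11,11,11,1,12,12,12,3],[1]), ([3,11,11,11,2,12,12,12,3],[1,2])])
    ⟨h1, h2, h3, (show m * a * z * m⁻¹ = a * z by simpa only [mul_assoc, mul_inv_rev, inv_inv, pow_three', J.iz, J.ia, J.ib, J.ip, J.iq] using h4)⟩ (by decide +kernel)
  simpa only [mul_assoc, mul_inv_rev, inv_inv, pow_three', J.iz, J.ia, J.ib, J.ip, J.iq] using key

theorem d1 (h1 : m * z * m⁻¹ = t) (h2 : m * t * m⁻¹ = z) (h3 : m * n * m⁻¹ = n⁻¹) (h4 : m * (a * z) * m⁻¹ = a * z) :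
    m * m * z = z * (m * m) ∧
    m * m * t = t * (m * m) ∧
    m * m * n = n * (m * m) ∧
    m * m * (a * z) = a * z * (m * m) := by
  have key : m * m * z = z * m * m ∧
    m * m * t = t * m * m ∧
    m * m * n = n * m * m ∧
    m * m * a * z = a * z * m * m :=
    eqs_of (J.rl n m 1) (J.hiv n m 1) DP5.mem [0,1,2,7,8,9,10,11,12] (hy := [([11,0,12],[7]), ([11,7,12],[0]), ([11,9,12],[10]), ([11,1,0,12],[1,0])])
    (cl := [([11,11,0],[0,11,11]), ([11,11,7],[7,11,11]), ([11,11,9],[9,11,11]), ([11,11,1,0],[1,0,11,11])])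
    ⟨h1, h2, h3, (show m * a * z * m⁻¹ = a * z by simpa only [mul_assoc, mul_inv_rev, inv_inv, pow_three', J.iz, J.ia, J.ib, J.ip, J.iq] using h4)⟩ (by decide +kernel)
  simpa only [mul_assoc, mul_inv_rev, inv_inv, pow_three', J.iz, J.ia, J.ib, J.ip, J.iq] using key

theorem d2 (h1 : m * z * m⁻¹ = t) (h2 : m * t * m⁻¹ = z) (h3 : m * n * m⁻¹ = n⁻¹) (h4 : m * (a * z) * m⁻¹ = a * z) (h5 : m * m = t * z) :
    m * z * z * (m * z)⁻¹ = t ∧
    m * z * t * (m * z)⁻¹ = z ∧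
    m * z * n * (m * z)⁻¹ = n⁻¹ ∧
    m * z * (a * z) * (m * z)⁻¹ = a * z ∧
    m * z * (m * z) = 1 := by
  have key : m * z * z * z * m⁻¹ = t ∧
    m * z * t * z * m⁻¹ = z ∧
    m * z * n * z * m⁻¹ = n⁻¹ ∧
    m * z * a * z * z * m⁻¹ = a * z ∧
    m * z * m * z = 1 :=
    eqs_of (J.rl n m 1) (J.hiv n m 1) DP6.mem [0,1,2,7,8,9,10,11,12] (hy := [([11,0,12],[7]), ([11,7,12],[0]), ([11,9,12],[10]), ([11,1,0,12],[1,0]), ([11,11],[7,0])])
    (cl := [([11,0,0,0,12],[7]), ([11,0,7,0,12],[0]), ([11,0,9,0,12],[10]), ([11,0,1,0,0,12],[1,0]), ([11,0,11,0],[])])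
    ⟨h1, h2, h3, (show m * a * z * m⁻¹ = a * z by simpa only [mul_assoc, mul_inv_rev, inv_inv, pow_three', J.iz, J.ia, J.ib, J.ip, J.iq] using h4), h5⟩ (by decide +kernel)
  simpa only [mul_assoc, mul_inv_rev, inv_inv, pow_three', J.iz, J.ia, J.ib, J.ip, J.iq] using key

theorem d3 (h1 : m * z * m⁻¹ = t) (h2 : m * t * m⁻¹ = z) (h3 : m * n * m⁻¹ = n⁻¹) (h4 : m * (a * z) * m⁻¹ = a * z) (h5 : m * m = 1) :
    m * p * m * p * m * p * z = z * (m * p * m * p * m * p) ∧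
    m * p * m * p * m * p * a = a * (m * p * m * p * m * p) ∧
    m * p * m * p * m * p * b = b * (m * p * m * p * m * p) ∧
    m * p * m * p * m * p * t = t * (m * p * m * p * m * p) ∧
    p * (m * p * m * p * m * p) * p⁻¹ * (m * p * m * p * m * p) = 1 ∧
    q * m * p * q * a * (q * m * p * q)⁻¹ = a ∧
    z * (q * m * p * q * z * (q * m * p * q)⁻¹) = q * m * p * q * (q * m * p * q * z * (q * m * p * q)⁻¹) * (q * m * p * q)⁻¹ * a ∧
    p * m * a * (p * m)⁻¹ = t * z ∧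
    p * m * t * (p * m)⁻¹ = z ∧
    p * m * (t * a) * (p * m)⁻¹ = t ∧
    n * (m * x * m⁻¹) = m * x * m⁻¹ * n ∧
    t * z * (x * (m * x * m⁻¹)) * (t * z)⁻¹ = x⁻¹ * (m * x * m⁻¹)⁻¹ := by
  have key : m * p * m * p * m * p * z = z * m * p * m * p * m * p ∧
    m * p * m * p * m * p * a = a * m * p * m * p * m * p ∧
    m * p * m * p * m * p * b = b * m * p * m * p * m * p ∧
    m * p * m * p * m * p * t = t * m * p * m * p * m * p ∧
    p * m * p * m * p * m * p * p * m * p * m * p * m * p = 1 ∧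
    q * m * p * q * a * q * p * m⁻¹ * q = a ∧
    z * q * m * p * q * z * q * p * m⁻¹ * q = q * m * p * q * q * m * p * q * z * q * p * m⁻¹ * q * q * p * m⁻¹ * q * a ∧
    p * m * a * m⁻¹ * p = t * z ∧
    p * m * t * m⁻¹ * p = z ∧
    p * m * t * a * m⁻¹ * p = t ∧
    n * m * x * m⁻¹ = m * x * m⁻¹ * n ∧
    t * z * x * m * x * m⁻¹ * z * t⁻¹ = x⁻¹ * m * x⁻¹ * m⁻¹ :=
    eqs_of (J.rl n m 1) (J.hiv n m 1) DP7.mem [0,1,2,3,4,5,6,7,8,9,10,11,12] (hy := [([11,0,12],[7]), ([11,7,12],[0]), ([11,9,12],[10]), ([11,1,0,12],[1,0]), ([11,11],[])])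
    (cl := [([11,3,11,3,11,3,0],[0,11,3,11,3,11,3]), ([11,3,11,3,11,3,1],[1,11,3,11,3,11,3]), ([11,3,11,3,11,3,2],[2,11,3,11,3,11,3]), ([11,3,11,3,11,3,7],[7,11,3,11,3,11,3]), ([3,11,3,11,3,11,3,3,11,3,11,3,11,3],[]), ([4,11,3,4,1,4,3,12,4],[1]), ([0,4,11,3,4,0,4,3,12,4],[4,11,3,4,4,11,3,4,0,4,3,12,4,4,3,12,4,1]), ([3,11,1,12,3],[7,0]), ([3,11,7,12,3],[0]), ([3,11,7,1,12,3],[7]), ([9,11,5,12],[11,5,12,9]), ([7,0,5,11,5,12,0,8],[6,11,6,12])])
    ⟨h1, h2, h3, (show m * a * z * m⁻¹ = a * z by simpa only [mul_assoc, mul_inv_rev, inv_inv, pow_three', J.iz, J.ia, J.ib, J.ip, J.iq] using h4), h5⟩ (by decide +kernel)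
  simpa only [mul_assoc, mul_inv_rev, inv_inv, pow_three', J.iz, J.ia, J.ib, J.ip, J.iq] using key

theorem e0 (h1 : m * z * m⁻¹ = t) (h2 : m * t * m⁻¹ = z) (h3 : m * n * m⁻¹ = n⁻¹) (h4 : m * (a * z) * m⁻¹ = a * z) (h5 : m * m = 1) (h6 : m * p * m * p * m * p = 1) :
    z = 1 :=
  eqs_of (J.rl n m 1) (J.hiv n m 1) DP8.mem [0,1,2,3,4,7,8,9,10,11,12] (hy := [([11,0,12],[7]), ([11,7,12],[0]), ([11,9,12],[10]), ([11,1,0,12],[1,0]), ([11,11],[]), ([11,3,11,3,11,3],[])])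
    (cl := [([0],[])])
    ⟨h1, h2, h3, (show m * a * z * m⁻¹ = a * z by simpa only [mul_assoc, mul_inv_rev, inv_inv, pow_three', J.iz, J.ia, J.ib, J.ip, J.iq] using h4), h5, h6⟩ (by decide +kernel)

theorem e1 (h1 : m * z * m⁻¹ = t) (h2 : m * t * m⁻¹ = z) (h3 : m * n * m⁻¹ = n⁻¹) (h4 : m * (a * z) * m⁻¹ = a * z) (h5 : m * m = 1) (h6 : m * p * m * p * m * p = z) :
    z = 1 :=
  eqs_of (J.rl n m 1) (J.hiv n m 1) DP9.mem [0,1,2,3,4,7,8,9,10,11,12] (hy := [([11,0,12],[7]), ([11,7,12],[0]), ([11,9,12],[10]), ([11,1,0,12],[1,0]), ([11,11],[]), ([11,3,11,3,11,3],[0])])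
    (cl := [([0],[])])
    ⟨h1, h2, h3, (show m * a * z * m⁻¹ = a * z by simpa only [mul_assoc, mul_inv_rev, inv_inv, pow_three', J.iz, J.ia, J.ib, J.ip, J.iq] using h4), h5, h6⟩ (by decide +kernel)

theorem e2 (h1 : m * z * m⁻¹ = t) (h2 : m * t * m⁻¹ = z) (h3 : m * n * m⁻¹ = n⁻¹) (h4 : m * (a * z) * m⁻¹ = a * z) (h5 : m * m = 1) (h6 : m * p * m * p * m * p = a) :
    z = 1 :=
  eqs_of (J.rl n m 1) (J.hiv n m 1) DP10.mem [0,1,2,3,4,7,8,9,10,11,12] (hy := [([11,0,12],[7]), ([11,7,12],[0]), ([11,9,12],[10]), ([11,1,0,12],[1,0]), ([11,11],[]), ([11,3,11,3,11,3],[1])])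
    (cl := [([0],[])])
    ⟨h1, h2, h3, (show m * a * z * m⁻¹ = a * z by simpa only [mul_assoc, mul_inv_rev, inv_inv, pow_three', J.iz, J.ia, J.ib, J.ip, J.iq] using h4), h5, h6⟩ (by decide +kernel)

theorem g0 (h1 : m * z * m⁻¹ = t) (h2 : m * t * m⁻¹ = z) (h3 : m * n * m⁻¹ = n⁻¹) (h4 : m * (a * z) * m⁻¹ = a * z) (h5 : m * m = 1) (h6 : m * p * m * p * m * p = a * z) (h7 : x * (m * x * m⁻¹) = n * (m * x * m⁻¹) * x) :
    z = 1 :=
  eqs_of (J.rl n m 1) (J.hiv n m 1) DP11.mem [0,1,2,3,4,5,6,7,8,9,10,11,12] (hy := [([11,0,12],[7]), ([11,7,12],[0]), ([11,9,12],[10]), ([11,1,0,12],[1,0]), ([11,11],[]), ([11,3,11,3,11,3],[1,0]), ([5,11,5,12],[9,11,5,12,5])])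
    (cl := [([0],[])])
    ⟨h1, h2, h3, (show m * a * z * m⁻¹ = a * z by simpa only [mul_assoc, mul_inv_rev, inv_inv, pow_three', J.iz, J.ia, J.ib, J.ip, J.iq] using h4), h5, h6, (show x * m * x * m⁻¹ = n * m * x * m⁻¹ * x by simpa only [mul_assoc, mul_inv_rev, inv_inv, pow_three', J.iz, J.ia, J.ib, J.ip, J.iq] using h7)⟩ (by decide +kernel)

theorem g1 (h1 : m * z * m⁻¹ = t) (h2 : m * t * m⁻¹ = z) (h3 : m * n * m⁻¹ = n⁻¹) (h4 : m * (a * z) * m⁻¹ = a * z) (h5 : m * m = 1) (h6 : m * p * m * p * m * p = a * z) (h7 : x * (m * x * m⁻¹) = n⁻¹ * (m * x * m⁻¹) * x) :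
    z = 1 :=
  eqs_of (J.rl n m 1) (J.hiv n m 1) DP12.mem [0,1,2,3,4,5,6,7,8,9,10,11,12] (hy := [([11,0,12],[7]), ([11,7,12],[0]), ([11,9,12],[10]), ([11,1,0,12],[1,0]), ([11,11],[]), ([11,3,11,3,11,3],[1,0]), ([5,11,5,12],[10,11,5,12,5])])
    (cl := [([0],[])])
    ⟨h1, h2, h3, (show m * a * z * m⁻¹ = a * z by simpa only [mul_assoc, mul_inv_rev, inv_inv, pow_three', J.iz, J.ia, J.ib, J.ip, J.iq] using h4), h5, h6, (show x * m * x * m⁻¹ = n⁻¹ * m * x * m⁻¹ * x by simpa only [mul_assoc, mul_inv_rev, inv_inv, pow_three', J.iz, J.ia, J.ib, J.ip, J.iq] using h7)⟩ (by decide +kernel)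

theorem f6 {h : G} (hh : h ∈ C1(z)) (h1 : h * t = t * h) (h2 : h * n = n * h) :
    ∃ k ∈ C1(z), (k * t = t * k ∧ k * n = n * k ∧ k * (a * z) = a * z * k ∧ h = k) ∨
    (k * t = t * k ∧ k * n = n * k ∧ k * (a * z) = a * z * k ∧ h = k * n) ∨
    (k * t = t * k ∧ k * n = n * k ∧ k * (a * z) = a * z * k ∧ h = k * n⁻¹) := by
  have key : ∃ k ∈ C1(z), (k * t = t * k ∧ k * n = n * k ∧ k * a * z = a * z * k ∧ h = k) ∨
    (k * t = t * k ∧ k * n = n * k ∧ k * a * z = a * z * k ∧ h = k * n) ∨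
    (k * t = t * k ∧ k * n = n * k ∧ k * a * z = a * z * k ∧ h = k * n⁻¹) :=
    J.rt.solve (wt := H25.tb (nat_lit 0x300c00000000000000000000000000000000000000000000000000000000000001c00000000000000000000000000000000000000000000000000000000000400000070000000000004000000000000000000000000000000000000c000000000001c00000000000000400) 10) (d := 10)
    (hyps := [([0,11],[11,0]), ([0,13],[13,0])])
    (concl := [[([2,11],[11,2]), ([2,13],[13,2]), ([2,5,4],[5,4,2]), ([0],[2])], [([2,11],[11,2]), ([2,13],[13,2]), ([2,5,4],[5,4,2]), ([0],[2,13])], [([2,11],[11,2]), ([2,13],[13,2]), ([2,5,4],[5,4,2]), ([0],[2,14])]])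
    (by decide +kernel) hh ⟨h1, h2⟩
  simpa only [mul_assoc, mul_inv_rev, inv_inv, pow_three', J.iz, J.ia, J.ib, J.ip, J.iq] using key

theorem two [Finite G] : PiGrp {2} (C1(a) ⊓ C1(z) :) := piGrp_of_prime_elt fun h hh hp => by
  have d := orderOf_dvd_card hh.2
  rw [J.card, show 576 = 2 ^ 6 * 3 ^ 2 from rfl, hp.dvd_mul] at d
  refine d.elim (fun d => (Nat.prime_dvd_prime_iff_eq hp Nat.prime_two).1 (hp.dvd_of_dvd_pow d)) fun d => ?_
  have := J.c3 hh.2 (mem_C1.1 hh.1) (by rw [← pow_three', ← orderOf_dvd_iff_pow_eq_one]; exact hp.dvd_of_dvd_pow d)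
  rw [this, orderOf_one] at hp
  exact absurd hp Nat.not_prime_one

theorem bw [Finite G] : Bw z t := by
  have V := J.va
  obtain ⟨-, -, qa, pa, -, ta, ba, -⟩ := J.id0
  have m : ∀ g ∈ C1(z), (g * a * g⁻¹ = a ∨ g * a * g⁻¹ = a * z) → g ∈ C1(z) ⊓ N(kl a z) := fun g h e =>
    ⟨h, Kl4.norm (e.elim (fun e => by rw [e]; exact kl_a) fun e => by rw [e]; exact mul_mem kl_a kl_b)
      (by rw [fix_iff.2 h]; exact kl_b)⟩
  refine ⟨J.zz, V.b1, C1(z) ⊓ N(kl a z), inf_le_left, piGrp_of_prime_elt fun h hh hp => ?_,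
    m z C1_self (.inl (cj_fix V.ab.symm)), m t J.mt (.inl J.ta), fun g h1 h2 => J.cq h1 (mem_C.1 h2 _ (m a J.ma (.inl (by simp))))
    (mem_C.1 h2 _ (m b J.mb (.inl (cj_fix ba)))) (mem_C.1 h2 _ (m p J.mp (.inl (cj_fix pa))))
    (mem_C.1 h2 _ (m q J.mq (.inr qa)))⟩
  have h2 : h * h ∈ C1(a) := fix_iff.1 (by
    rcases V.mem.1 (conj_mem_N hh.2 kl_a) with e | e | e | e
    · exact absurd e (cj_ne V.a1 h)
    · exact cj_comp e e
    · exact absurd ((cj_symm e).symm.trans (fix_iff.2 (inv_mem hh.1))) V.ne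
    · exact cj_comp e (by rw [← conj_mul, e, fix_iff.2 hh.1, mul_assoc, V.bb, mul_one]))
  have h3 := J.two.elt (⟨h2, mul_mem hh.1 hh.1⟩ : h * h ∈ C1(a) ⊓ C1(z))
  by_contra ne
  rw [PiElt, ← pow_two, ((Nat.coprime_primes hp Nat.prime_two).2 ne).orderOf_pow] at h3
  exact ne (h3 _ hp dvd_rfl)

theorem nf2 (hz : g * z * g⁻¹ = t ∨ g * z * g⁻¹ = t * z) (ht : g * t * g⁻¹ = z) (hn : g * n * g⁻¹ = w)
    (hw : w = n ∨ w = n⁻¹) : ∃ m, m * z * m⁻¹ = g * z * g⁻¹ ∧ m * t * m⁻¹ = z ∧ m * n * m⁻¹ = w ∧ m * (a * z) * m⁻¹ = a * z := by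
  obtain ⟨-, -, -, -, -, -, -, -, -, i1, -, -, i2, i3, -⟩ := J.id0
  have h1 : g * (a * z) * g⁻¹ ∈ C1(z) := mem_C1.2 (ht ▸ cjc i1 g)
  have h2 : g * (a * z) * g⁻¹ ∈ C1(g * z * g⁻¹) := mem_C1.2 (cjc (mem_C1.1 (mul_mem J.ma C1_self)) g)
  obtain ⟨k, hk, e | e⟩ := J.f2 h1 (by
      rcases hz with e | e <;> rw [e] at h2
      exacts [mem_C1.1 h2, (mem_C1.1 ((mul_mem_cancel_right (mem_C1_comm.1 h1)).1 (mem_C1_comm.1 h2))).symm])
    (cj_sq1 (J.va.sq (mul_mem kl_a kl_b)) g) (by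
      rcases hw with rfl | rfl
      · rw [← hn, conj_mul, conj_pow, i2]; simp
      · rw [← inv_inv n, ← hn, conj_inv, conj_mul, conj_pow, i3]; simp)
  · exact absurd (mul_eq_one_iff_eq_inv.1 (conj_eq_one_iff.1 e)) (J.iz.symm ▸ J.va.ne)
  · refine ⟨k * g, cj_comp rfl ?_, cj_comp ht (fix_iff.2 hk), cj_comp hn ?_, cj_comp rfl e.2.2⟩
    · rcases hz with e' | e' <;> rw [e']
      exacts [cj_fix e.1, by rw [← conj_mul, cj_fix e.1, fix_iff.2 hk]]
    · rcases hw with rfl | rfl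
      exacts [e.2.1, by rw [← conj_inv, e.2.1]]

theorem nf1 (hz : g * z * g⁻¹ = t ∨ g * z * g⁻¹ = t * z) (ht : g * t * g⁻¹ = z) :
    ∃ m, m * z * m⁻¹ = g * z * g⁻¹ ∧ m * t * m⁻¹ = z ∧ (m * n * m⁻¹ = n ∨ m * n * m⁻¹ = n⁻¹) ∧ m * (a * z) * m⁻¹ = a * z := by
  have h1 : g * n * g⁻¹ ∈ C1(z) := mem_C1.2 (ht ▸ cjc J.id0.2.2.2.2.2.2.2.2.2.2.1 g)
  have h2 : g * n * g⁻¹ ∈ C1(g * z * g⁻¹) := mem_C1.2 (cjc (mem_C1.1 J.mn) g)
  have f : ∀ k ∈ C1(z), k * t = t * k → k * g * z * (k * g)⁻¹ = g * z * g⁻¹ := fun k hk e => cj_comp rfl (by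
    rcases hz with e' | e' <;> rw [e']
    exacts [cj_fix e, by rw [← conj_mul, cj_fix e, fix_iff.2 hk]])
  obtain ⟨k, hk, e | e | e⟩ := J.f1 h1 (by
      rcases hz with e | e <;> rw [e] at h2
      exacts [mem_C1.1 h2, (mem_C1.1 ((mul_mem_cancel_right (mem_C1_comm.1 h1)).1 (mem_C1_comm.1 h2))).symm])
    (by rw [conj_mul, conj_mul, J.n3]; simp)
  · exact absurd e (cj_ne J.ne0.2.2.2.2.2.2.1 g)
  all_goals
    obtain ⟨m, a1, a2, a3, a4⟩ := J.nf2 (by rwa [f k hk e.1]) (cj_comp ht (fix_iff.2 hk)) (cj_comp rfl e.2) (by simp)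
    exact ⟨m, a1.trans (f k hk e.1), a2, by simp [a3], a4⟩

theorem nsp (hz : g * z * g⁻¹ = t) (ht : g * t * g⁻¹ = z) : g * n * g⁻¹ ≠ n := fun hn =>
  let ⟨_, a1, a2, a3, a4⟩ := J.nf2 (.inl hz) ht hn (.inl rfl)
  let ⟨b1, b2, b3⟩ := J.dsp (a1.trans hz) a2 a3 a4
  J.nab (mem_C1.2 b1) b2 b3

theorem nc (hz : g * z * g⁻¹ = t * z) (ht : g * t * g⁻¹ = z) : False := by
  obtain ⟨m, a1, a2, a3 | a3, a4⟩ := J.nf1 (.inr hz) ht
  · obtain ⟨b1, b2, b3⟩ := J.dcp (a1.trans hz) a2 a3 a4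
    exact J.nab (mem_C1.2 b1) b2 b3
  · obtain ⟨b1, b2, b3⟩ := J.dcm (a1.trans hz) a2 a3 a4
    exact J.nab (mem_C1.2 b1) b2 b3

theorem swp (h : IsConj z t) : ∃ m, m * z * m⁻¹ = t ∧ m * t * m⁻¹ = z := by
  obtain ⟨g, e⟩ := isConj_iff.1 h.symm
  obtain ⟨k, hk, f | f | f | f | f⟩ := J.cls (h := g * z * g⁻¹) (mem_C1.2 (e ▸ cjc J.vt.ab.symm g)) (cj_sq1 J.zz g)
  · exact absurd f (cj_ne J.va.b1 g)
  · exact absurd (by simpa using e.trans f.symm) J.vt.ne
  · have e' := cj_comp e (fix_iff.2 hk)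
    have f' := cj_comp rfl f
    exact absurd (J.c3 (h := k * g * n * (k * g)⁻¹) (mem_C1.2 (e' ▸ cjc J.id0.2.2.2.2.2.2.2.2.2.2.1 _))
      (f' ▸ cjc (mem_C1.1 J.mn) _) (by rw [conj_mul, conj_mul, J.n3]; simp)) (cj_ne J.ne0.2.2.2.2.2.2.1 _)
  · exact ⟨_, cj_comp rfl f, cj_comp e (fix_iff.2 hk)⟩
  · exact (J.nc (cj_comp rfl f) (cj_comp e (fix_iff.2 hk))).elim

theorem nboth (h : IsConj z t) : ¬ IsConj z (t * z) := fun h' => by
  obtain ⟨m, a1, a2⟩ := J.swp h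
  obtain ⟨l, b1, b2⟩ := J.tz.swp h'
  have i := J.id0.2.2.2.2.2.2.2.1
  refine J.nc (g := m * l) (cj_comp b1 (by rw [← conj_mul, a1, a2, J.vt.ab])) (cj_comp ?_ a2)
  nth_rw 1 [← i]
  rw [← conj_mul, b2, b1, ← mul_assoc, ← J.vt.ab, i]

theorem na' : ¬ IsConj z a := fun h => by
  obtain ⟨i1, i2, i3, pa, -, -, ba, tzz, -, -, -, -, -, -, -, ca, paz, xp⟩ := J.id0
  obtain ⟨g, N, -⟩ := ex_n J.sw J.va h i1 i2
  have key : ∀ y w, IsConj z y → IsConj z w → g * w * g⁻¹ = g * y * g⁻¹ * z → ∀ k ∈ C1(z),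
      ¬ (k * (g * y * g⁻¹) * k⁻¹ = t ∨ k * (g * y * g⁻¹) * k⁻¹ = t * z) := fun y w h1 h2 e k hk f => by
    have c1 := (h1.trans (isC (rfl : g * y * g⁻¹ = _))).trans (isC (rfl : k * _ * k⁻¹ = _))
    have c2 := (h2.trans (isC e)).trans (isC (rfl : k * _ * k⁻¹ = _))
    rw [← conj_mul, fix_iff.2 hk] at c2
    rcases f with f | f <;> rw [f] at c1 c2
    exacts [J.nboth c1 c2, J.nboth (tzz ▸ c2) c1]
  have hb := h.trans (isC J.na)
  have kb := key b _ hb (hb.trans (isC J.nb)) (by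
    rw [← conj_mul, ← conj_mul, N.na, N.nz, ← N.ca ba, mul_assoc, ← mul_assoc a, J.aa, one_mul])
  have kp := key p _ (h.trans (isC J.xa)) (h.trans (isC xp)) (by
    rw [← conj_mul, ← conj_mul, N.na, N.nz, mul_assoc, ← mul_assoc a, J.aa, one_mul])
  have e : g * b * g⁻¹ * (g * (b * p) * g⁻¹) = g * p * g⁻¹ := by rw [conj_mul, ← mul_assoc b, J.bb, one_mul]
  have m := N.mem J.mb ba
  have e2 := cj_sq1 J.pp g
  rcases J.u3 (N.mem (mul_mem J.mb J.mp) i1) (N.ca i1) ((cj_sq i2 g).trans N.nz) with f | f | f | f <;> rw [f] at e <;>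
    rw [← e] at e2 kp
  · obtain ⟨k, hk, f | f | f | f⟩ := J.b0 m (N.ca ba) (cj_sq1 J.bb g) e2
    exacts [kb k hk (.inl f), kb k hk (.inr f), kp k hk (.inl f), kp k hk (.inr f)]
  · obtain ⟨k, hk, f | f | f | f⟩ := J.b1 m (N.ca ba) (cj_sq1 J.bb g) e2
    exacts [kb k hk (.inl f), kb k hk (.inr f), kp k hk (.inl f), kp k hk (.inr f)]
  · obtain ⟨k, hk, f | f | f | f⟩ := J.b2 m (N.ca ba) (cj_sq1 J.bb g) e2
    exacts [kb k hk (.inl f), kb k hk (.inr f), kp k hk (.inl f), kp k hk (.inr f)]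
  · obtain ⟨k, hk, f | f | f | f⟩ := J.b3 m (N.ca ba) (cj_sq1 J.bb g) e2
    exacts [kb k hk (.inl f), kb k hk (.inr f), kp k hk (.inl f), kp k hk (.inr f)]

theorem hS [Finite G] : Hall {2} (C1(a) ⊓ C1(z)) C1(a) := hallT J.two fun g hg => fix_iff.1 (by
  have e := cj_sq J.id0.2.1 g
  have := conj_mem_N hg.2 (⟨mem_C1.2 J.id0.1, mul_mem J.mb J.mp⟩ : b * p ∈ C1(a) ⊓ C1(z))
  rcases J.sq this.2 (mem_C1.1 this.1) with f | f | f | f <;> rw [e] at f
  exacts [absurd f (cj_ne J.va.b1 g), f, absurd (isC f) J.na', absurd ((isC f).trans (isC J.id0.2.2.2.2.1)) J.na'])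

theorem fus [Finite G] (hG : ∀ H : Subgroup G, H.index ≠ 2) : IsConj z t ∨ IsConj z (t * z) := by
  let f := fun i => gE z a b p q x t n 1 1 (ren [0,1,2,3,4,5,6,9,10] i)
  have b1 : Nat.card (closure (f '' Set.Iio 9)) ≤ 288 := by
    simpa using (KP1.idx f (fun w hw => by rw [← ev_map]; exact rel_ren (J.rel0 1 1) (by decide +kernel) w hw) ⊥
      (by simp [KP1.subs])).2
  have b2 := KP2.idx _ ((J.rel0 1 1).sub (by decide +kernel)) (closure (f '' Set.Iio 9)) (allM_iff.1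
    ⟨gm (f := f) 0, gm (f := f) 1, gm (f := f) 2, gm (f := f) 3, gm (f := f) 4, gm (f := f) 5, gm (f := f) 7⟩)
  rw [J.rt.top] at b2
  have nt : t ∉ closure (f '' Set.Iio 9) := fun h => by
    have := card_le (J.top _ (gm 0) (gm 1) (gm 5) h (gm 7))
    rw [J.card] at this; omega
  have mz : z ∈ closure (f '' Set.Iio 9) := gm 0
  generalize closure (f '' Set.Iio 9) = K at *
  have i2 : K.relIndex C1(z) = 2 := by
    have : K.relIndex C1(z) ≠ 1 := fun e => nt (relIndex_eq_one.1 e J.mt)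
    omega
  obtain ⟨S, hS, h1, h2⟩ := J.bw.syl (L := ⊤) le_top
  obtain ⟨g, hg⟩ := GT.thompson hG hS (T := K ⊓ S) (by
    have := relIndex_le_of_le_right h1 b2.1
    have : K.relIndex S ≠ 1 := fun e => nt (relIndex_eq_one.1 e h2)
    have := relIndex_pos (A := K) (B := S)
    rw [inf_relIndex_right]; omega) h2 J.tt
  have cK : ∀ k ∈ C1(z), k * (g * t * g⁻¹) * k⁻¹ ∈ K := fun k hk =>
    (normal_of_index_eq_two i2).conj_mem (⟨_, h1 hg.2⟩ : C1(z)) hg.1 ⟨k, hk⟩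
  obtain ⟨k, hk, e | e | e | e | e⟩ := J.cls (h1 hg.2) (cj_sq1 J.tt g)
  · exact absurd e (cj_ne J.vt.a1 g)
  · exact .inl (isC e).symm
  · have e' := cj_comp rfl e
    obtain ⟨l, hl, f⟩ := into J.hS (mem_C1.2 (e' ▸ cjc J.vt.ab.symm (k * g))) (cj_sq1 J.zz _)
    have c := (isC (rfl : k * g * z * (k * g)⁻¹ = _)).trans (isC (rfl : l * _ * l⁻¹ = _))
    obtain ⟨k', hk', f | f | f | f | f⟩ := J.cls f.2 (cj_sq1 (cj_sq1 J.zz _) l)
    · exact absurd f (cj_ne (cj_ne J.va.b1 _) l)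
    · have := cjc J.id0.2.2.2.2.2.2.2.2.2.2.1 (l * (k * g))
      rw [cj_comp e' (fix_iff.2 hl)] at this
      have m := fix_iff.1 (cj_comp rfl f)
      exact absurd (J.c3 (mul_mem (mul_mem m J.mn) (inv_mem m)) this
        (by rw [conj_mul, conj_mul, J.n3, mul_one, mul_inv_cancel]))
        (cj_ne J.ne0.2.2.2.2.2.2.1 _)
    exacts [absurd (c.trans (isC f)) J.na', .inl (c.trans (isC f)), .inr (c.trans (isC f))]
  · exact absurd (e ▸ cK k hk) nt
  · exact absurd ((mul_mem_cancel_right mz).1 (e ▸ cK k hk)) nt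

theorem exm (h : IsConj z t) : ∃ m, m * z * m⁻¹ = t ∧ m * t * m⁻¹ = z ∧ m * n * m⁻¹ = n⁻¹ ∧ m * (a * z) * m⁻¹ = a * z ∧
    m * m = 1 ∧ m * p * m * p * m * p = a * z := by
  obtain ⟨m, a1, a2, a3, a4, a5⟩ : ∃ m, m * z * m⁻¹ = t ∧ m * t * m⁻¹ = z ∧ m * n * m⁻¹ = n⁻¹ ∧
      m * (a * z) * m⁻¹ = a * z ∧ m * m = 1 := by
    obtain ⟨g, h1, h2⟩ := J.swp h
    obtain ⟨m, a1, a2, a3, a4⟩ := J.nf1 (.inl h1) h2
    rw [h1] at a1
    replace a3 := a3.resolve_left (J.nsp a1 a2)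
    obtain ⟨b1, b2, b3, b4⟩ := J.d1 a1 a2 a3 a4
    have f : m * (m * m) * m⁻¹ = m * m := cj_fix (mul_assoc m m m).symm
    rcases J.f3 (mem_C1.2 b1) b2 b3 b4 with e | e | e | e
    · exact ⟨m, a1, a2, a3, a4, e⟩
    · rw [e, a1] at f; exact absurd f J.vt.ne
    · rw [e, a2] at f; exact absurd f.symm J.vt.ne
    · exact ⟨m * z, J.d2 a1 a2 a3 a4 e⟩
  obtain ⟨b1, b2, b3, b4, b5, -⟩ := J.d3 a1 a2 a3 a4 a5
  refine ⟨m, a1, a2, a3, a4, a5, ?_⟩
  rcases J.f5 (mem_C1.2 b1) b2 b3 b4 b5 with e | e | e | e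
  exacts [absurd (J.e0 a1 a2 a3 a4 a5 e) J.va.b1, absurd (J.e1 a1 a2 a3 a4 a5 e) J.va.b1,
    absurd (J.e2 a1 a2 a3 a4 a5 e) J.va.b1, e]

theorem iso' [Finite G] {F : Type*} [Field F] [Fintype F] (hF : Fintype.card F = 3) (h : IsConj z t) :
    Nonempty (G ≃* PSp 2 F) := by
  obtain ⟨m, a1, a2, a3, a4, a5, a6⟩ := J.exm h
  obtain ⟨-, -, -, -, -, u1, u2, v1, v2, v3, c1, c2⟩ := J.d3 a1 a2 a3 a4 a5
  obtain ⟨-, -, -, -, qa', ta, -, tzz, pt, -, nt, tzt, -, -, nx, -⟩ := J.id0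
  have ntz := J.nboth h
  have V := J.vt
  have ca := zq J.aa le_rfl C1_self (mem_C1.2 ta) J.tt V.a1 J.ne0.2.2.2.2.1 J.hS (fun g hg e => by
      have c1 := h.trans (isC (rfl : g * t * g⁻¹ = _))
      have c2 : IsConj z (g * t * g⁻¹ * a) := (h.trans (isC pt).symm).trans (isC (by rw [← conj_mul, fix_iff.2 hg]))
      obtain ⟨k, -, f | f | f | f | f | f | f | f⟩ := J.sA e.2 (mem_C1.1 e.1) (cj_sq1 J.tt g)
      exacts [.inl f, .inr f, absurd f (cj_ne V.a1 g), absurd (f ▸ c1) J.na', absurd (c1.trans (isC f)) J.na',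
        absurd (c1.trans (isC f)) ntz, absurd (c2.trans (isC f)) J.na', absurd (c2.trans (isC f)) ntz])
    (mem_C1_comm.1 J.ma) (fix_iff.1 u1) J.zz (fun g hg e => J.two.elt ⟨hg, fix_iff.1 (e.resolve_right fun e =>
      J.na' ((isC e).trans (isC (by rw [← J.va.ab, qa']))))⟩) u2
  have ctz : ∀ g ∈ C1(t * z), g * z * g⁻¹ = z ∨ g * z * g⁻¹ = t := fun g hg => by
    have := ca ((p * m)⁻¹ * g * (p * m)) (fix_iff.1 (cj_comp v1 (cj_comp (fix_iff.2 hg) (cj_symm v1))))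
    refine this.imp (fun e => ?_) fun e => ?_
    · rw [← v2]; nth_rw 2 [← e]; group
    · rw [← v3, ← e, ← v2]; group
  have mn : kl t z ≤ C1(n) := kl_le (mem_C1.2 nt.symm) (mem_C1_comm.1 J.mn)
  have nV : C1(n) ⊓ N(kl t z) ≤ C1(t) ⊓ C1(z) := fun g hg => by
    have e1 : g * z * g⁻¹ = z := by
      rcases V.mem.1 (conj_mem_N hg.2 kl_b) with e | e | e | e
      exacts [absurd e (cj_ne V.b1 g), by
        rcases V.mem.1 (conj_mem_N hg.2 kl_a) with f | f | f | f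
        exacts [absurd f (cj_ne V.a1 g), absurd (by simpa using f.trans e.symm) V.ne, absurd (fix_iff.2 hg.1) (J.nsp e f),
          absurd (h.trans (isC f)) ntz], e, absurd (isC e) ntz]
    refine ⟨fix_iff.1 ?_, fix_iff.1 e1⟩
    rcases V.mem.1 (conj_mem_N hg.2 kl_a) with f | f | f | f
    exacts [absurd f (cj_ne V.a1 g), f, absurd (by simpa using f.trans e1.symm) V.ne, absurd (h.trans (isC f)) ntz]
  have p3 := piElt_of_pow_eq_one Nat.prime_three ((pow_three' n).trans J.n3)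
  have odd : ∀ g ∈ C1(z), g * t = t * g → g * n = n * g → PiElt {2}ᶜ g → g = 1 ∨ g = n ∨ g = n⁻¹ := fun g h1 h2 h3 h4 => by
    have f : ∀ w, w * w = 1 → w ≠ 1 → g * g * g ≠ w := fun w a b e =>
      b (PiElt.eq_one' (pi2 a) (by rw [← e, ← pow_three']; exact h4.pow' 3))
    rcases J.f4 h1 h2 h3 with e | e | e | e | e | e | e
    exacts [.inl e, .inr (.inl e), .inr (.inr e), .inl (PiElt.eq_one' (pi2 e) h4), absurd e (f _ J.zz V.b1),
      absurd e (f _ J.tt V.a1), absurd e (f _ J.tz.tt J.ne0.2.2.2.2.2.2.2.1)]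
  have cV : zpowers n ≤ C(kl t z) := zpowers_le.2 (le_C1_iff.1 mn)
  have hV : Hall {2} (kl t z) C1(n) := H2.sylow_of_norm Nat.prime_two mn
    ((hall_of_sup (piGrp_of_card_pow Nat.prime_two (n := 2) V.card) (p3.zpowers.p'_of_ne (by decide))
      (.inr (cent_norm cV))).of_le (le_inf mn le_N) fun g hg => by
      have mk := fun w (h : w ∈ kl t z) => mem_sup_left (T := zpowers n) h
      have mr := mem_sup_right (S := kl t z) (mem_zpowers n)
      have := nV hg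
      obtain ⟨k, hk, e | e | e⟩ := J.f6 this.2 (mem_C1.1 this.1) (mem_C1.1 hg.1)
      all_goals
        have := mk k (by
          rcases J.f3 hk e.1 e.2.1 e.2.2.1 with f | f | f | f <;> rw [f]
          exacts [one_mem _, kl_b, kl_a, mul_mem kl_a kl_b])
        rw [e.2.2.2]
      exacts [this, mul_mem this mr, mul_mem this (inv_mem mr)])
  have hO := Burnside_normal_complement Nat.prime_two hV fun g hg => le_C1_iff.1 (kl_le (mem_C1_comm.1 (nV hg).1)
    (mem_C1_comm.1 (nV hg).2))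
  have p3x : PiElt {2}ᶜ x := PiNat.p'_of_ne (piElt_of_pow_eq_one Nat.prime_three ((pow_three' x).trans J.x3)) (by decide)
  obtain ⟨c, hc, j, e1, e2, e3⟩ := inv_dec pcore_pi (pcore_nml.norm (mn (mul_mem kl_a kl_b))) J.tz.tt (mul_mem
    (hO.mem_of_nml pcore_nml.norm (mem_C1.2 nx.symm) p3x) (hO.mem_of_nml pcore_nml.norm (mem_C1.2 c1.symm) (p3x.conj m)))
  have oc := pcore_pi.elt hc
  have cz : c ∈ C1(z) := by
    rcases ctz c (mem_C1.2 e1) with e | e
    · exact fix_iff.1 e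
    · refine mem_C1.2 (H9.commute_of_commute_sq (H5.piNat_two_compl.1 oc) (mul_inv_eq_iff_eq_mul.1 (cj_comp e ?_))).eq
      nth_rw 1 [← tzz]
      rw [← conj_mul, cj_fix e1, e, tzt]
  have c3 := odd c cz (mul_right_cancel (b := z) (by rw [mul_assoc, e1, mul_assoc, mul_assoc, mem_C1.1 cz]))
    (mem_C1.1 (pcore_le hc)) oc
  have nm := mem_C1_comm.1 (mul_mem (mem_C1.2 c1.symm) (mem_C1.2 nx.symm))
  have key : x * (m * x * m⁻¹) = c * c * (m * x * m⁻¹) * x := by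
    have cm : c ∈ C1(m * x * m⁻¹ * x) := by
      rcases c3 with rfl | rfl | rfl
      exacts [one_mem _, nm, inv_mem nm]
    rw [e2, eq_inv_mul_of_mul_eq (e3.symm.trans c2), mul_assoc (c * c), mul_assoc c c, mem_C1.1 cm]
    group
  have nn : n * n = n⁻¹ := eq_inv_of_mul_eq_one_left J.n3
  have a7 : x * (m * x * m⁻¹) = m * x * m⁻¹ * x := by
    rcases c3 with rfl | rfl | rfl
    · simpa using key
    · exact absurd (J.g1 a1 a2 a3 a4 a5 a6 (nn ▸ key)) V.b1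
    · exact absurd (J.g0 a1 a2 a3 a4 a5 a6 (by rwa [← mul_inv_rev, nn, inv_inv] at key)) V.b1
  have hH := J.le m 1 (l := 13)
  have hm : m ∈ closure (gE z a b p q x t n m 1 '' Set.Iio 13) := gm 11
  have ht := Cj.cent ⟨m, hm, a1⟩ hH
  have pa : Pz _ z a := .inr ⟨J.na', fun g hg => (ca g hg).elim (fun e => ht (fix_iff.1 e)) fun e =>
    (mul_mem_cancel_left (hH J.mp)).1 (ht (fix_iff.1 (cj_comp e pt)))⟩
  have : Nontrivial G := ⟨z, 1, V.b1⟩
  have := Agent.S0270.result (F := F) 2 le_rfl fun _ => hF.ge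
  have cd := (StdS43.std hF).some.card
  have := Nat.finite_of_card_ne_zero (cd.trans_ne (by decide))
  refine iso_top ((J.rl n m 1).eqs (J.toFq.hiv n m 1) [([11,0,12],[7]), ([11,7,12],[0]), ([11,9,12],[10]), ([11,1,0,12],[1,0]), ([11,11],[]), ([11,3,11,3,11,3],[1,0]), ([5,11,5,12],[11,5,12,5])]
    ⟨a1, a2, a3, (show m * a * z * m⁻¹ = a * z by simpa only [mul_assoc, mul_inv_rev, inv_inv, pow_three', J.iz, J.ia, J.ib, J.ip, J.iq] using a4), a5, a6, (show x * m * x * m⁻¹ = m * x * m⁻¹ * x by simpa only [mul_assoc, mul_inv_rev, inv_inv, pow_three', J.iz, J.ia, J.ib, J.ip, J.iq] using a7)⟩ (by decide +kernel))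
    (J.bw.top hH J.ma J.aa J.va.a1 J.na' fun y hy yy y1 => ?_) (modP hF) fun _ h => (bdP h).mono le_rfl cd.ge
  obtain ⟨k, hk, e | e | e | e | e⟩ := J.cls hy yy
  exacts [absurd e y1, .inl (e ▸ Cj.refl), pa.cj ⟨k, hH hk, e⟩, Pz.cj (.inl ⟨m, hm, a2⟩) ⟨k, hH hk, e⟩,
    (pa.cj (Cj.symm ⟨_, mul_mem (hH J.mp) hm, v1⟩)).cj ⟨k, hH hk, e⟩]

theorem iso [Finite G] {F : Type*} [Field F] [Fintype F] (hF : Fintype.card F = 3) (hG : ∀ H : Subgroup G, H.index ≠ 2) :
    Nonempty (G ≃* PSp 2 F) := (J.fus hG).elim (J.iso' hF) (J.tz.iso' hF)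

theorem transport {Γ : Type*} [Group Γ] [Finite Γ] {z' : Γ} (hz : orderOf z' = 2)
    (e : C1(z') ≃* C1(z)) : ∃ a b p q x t n, FP z' a b p q x t n := by
  let f : C1(z) →* Γ := C1(z').subtype.comp e.symm.toMonoidHom
  have m : ∀ g, f g ∈ C1(z') := fun g => (e.symm g).2
  have hz' : f ⟨z, C1_self⟩ = z' := by
    have c : ∀ g : C1(z), (g : G) * e ⟨z', C1_self⟩ = e ⟨z', C1_self⟩ * g := fun g => by
      obtain ⟨g, rfl⟩ := e.surjective g
      rw [← coe_mul, ← coe_mul, ← map_mul, ← map_mul]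
      exact congrArg _ (congrArg e (Subtype.ext (mem_C1.1 g.2)))
    rcases J.cq (e ⟨z', C1_self⟩).2 (c ⟨a, J.ma⟩) (c ⟨b, J.mb⟩) (c ⟨p, J.mp⟩) (c ⟨q, J.mq⟩) with h | h
    · exact absurd (congrArg Subtype.val ((map_eq_one_iff e e.injective).1 (Subtype.ext h))) (H9.ne_one_of_orderOf hz)
    · rw [show (⟨z, C1_self⟩ : C1(z)) = e ⟨z', C1_self⟩ from Subtype.ext h.symm]
      exact congrArg Subtype.val (e.symm_apply_apply _)
  have k : ∀ {u v : C1(z)}, (u : G) = v → f u = f v := fun h => congrArg f (Subtype.ext h)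
  refine ⟨f ⟨a, J.ma⟩, f ⟨b, J.mb⟩, f ⟨p, J.mp⟩, f ⟨q, J.mq⟩, f ⟨x, J.mx⟩, f ⟨t, J.mt⟩, f ⟨n, J.mn⟩,
    ⟨H9.mul_self_of_orderOf hz, ?_, ?_, ?_, m _, m _, m _, ?_, ?_, ?_, ?_, ?_, ?_⟩, (Nat.card_congr e.toEquiv).trans J.card,
    m _, m _, ?_, ?_, ?_, ?_, ?_, ?_, ?_, ?_, ?_, fun K h0 h1 h2 h3 h4 g hg => ?_⟩
  rotate_right
  · obtain ⟨w, hw, h⟩ := J.top ((K.comap f).map C1(z).subtype) ⟨⟨z, C1_self⟩, by rwa [SetLike.mem_coe, mem_comap, hz'], rfl⟩
      ⟨_, h1, rfl⟩ ⟨_, h2, rfl⟩ ⟨_, h3, rfl⟩ ⟨_, h4, rfl⟩ (e ⟨g, hg⟩).2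
    have : f w = g := by
      rw [show w = e ⟨g, hg⟩ from Subtype.ext h]; exact congrArg Subtype.val (e.symm_apply_apply _)
    exact this ▸ hw
  all_goals simp only [← hz', ← map_mul, ← map_inv, ← map_one f]
  exacts [k J.aa, k J.bb, k J.x3, k J.xa, k J.xp, k J.xb, k J.xq, k J.ab, k J.aq, k J.tx, k J.ta, k J.tb, k J.tt, k J.n3,
    k J.na, k J.nb, k J.nx, k J.nt]

end FP

theorem frameP {F : Type*} [Field F] [Fintype F] (hF : Fintype.card F = 3) :
    ∃ z a b p q x t n : PSp 2 F, FP z a b p q x t n := by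
  obtain ⟨k, R, top⟩ := modP hF
  have cd := (StdS43.std hF).some.card
  have := Nat.finite_of_card_ne_zero (cd.trans_ne (by decide))
  have hiv := hiv_of (L := 13) (iv := KPS.iv) R (by decide +kernel)
  have e6 : k 6 = (k 5)⁻¹ := (hiv 5 (by decide)).2
  have e8 : k 8 = (k 7)⁻¹ := (hiv 7 (by decide)).2
  have e10 : k 10 = (k 9)⁻¹ := (hiv 9 (by decide)).2
  have T := KP.ct k (R.sub (by decide +kernel)) ⊥ (by simp [KP.subs])
  obtain ⟨h1, h2, h3, h4, h5, h6, h7, h8, h9, h10, h11, h12, h13, h14, h15, h16, h17, h18, h19, h20, h21, h22, h23, h24, h25,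
    h26⟩ := T.eqs (l :=
    [([0,0],[]), ([1,1],[]), ([2,2],[]), ([5,5,5],[]), ([1,0],[0,1]), ([2,0],[0,2]), ([5,0],[0,5]), ([5,1,6],[3]),
    ([5,3,6],[1,3]), ([5,2,6],[4]), ([5,4,6],[2,4]), ([1,2],[2,1]), ([1,4,1,4],[0]), ([7,0],[0,7]), ([7,5,8],[6]),
    ([7,1,8],[1]), ([7,2,8],[2]), ([7,7],[]), ([3,0],[0,3]), ([4,0],[0,4]), ([9,0],[0,9]), ([9,9,9],[]), ([9,1,10],[2]),
    ([9,2,10],[1,2,0]), ([9,5,10],[5]), ([9,7,10],[7])]) (by decide +kernel)
  simp only [evL, List.foldl, e6, e8, e10] at h1 h2 h3 h4 h5 h6 h7 h8 h9 h10 h11 h12 h13 h14 h15 h16 h17 h18 h19 h20 h21 h22 h23 h24 h25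
  have hH : closure (k '' Set.Iio 11) ≤ C1(k 0) := (closure_le _).2 (by
    rintro _ ⟨i, hi, rfl⟩
    have : i < 11 := hi
    interval_cases i
    exacts [C1_self, mem_C1.2 h5, mem_C1.2 h6, mem_C1.2 h19, mem_C1.2 h20, mem_C1.2 h7, e6 ▸ inv_mem (mem_C1.2 h7),
      mem_C1.2 h14, e8 ▸ inv_mem (mem_C1.2 h14), mem_C1.2 h21, e10 ▸ inv_mem (mem_C1.2 h21)])
  have b1 := (bdH R).2
  have b2 := (KPS.idx k R (closure (k '' Set.Iio 11)) (subs_lt (by decide +kernel))).2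
  have b3 := (closure (k '' Set.Iio 11)).card_mul_index
  rw [top, relIndex_top_right] at b2
  rw [cd] at b3
  have b4 : (closure (k '' Set.Iio 11)).index = 45 := by nlinarith
  have hC := le_antisymm hH (cent_le (KPS.ct k R _ (subs_lt (by decide +kernel))) hiv top b4
    (hwd_of KPS.hwd (by decide)) (by decide) hH h1 [5] (d := 6) (by decide) (by decide) (by decide +kernel))
  refine ⟨k 0, k 1, k 2, k 3, k 4, k 5, k 7, k 9, ⟨h1, h2, h3, h4, mem_C1.2 h5, mem_C1.2 h6, mem_C1.2 h7, h8, h9, h10, h11,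
    h12, h13⟩, by rw [← hC]; rw [b4] at b3; omega, mem_C1.2 h14, mem_C1.2 h21, h15, h16, h17, h18, h22, h23, h24, h25, by simpa only [e10] using (show k 9 * k 7 * k 10 = k 7 from h26),
    fun K k0 k1 k5 k7 k9 => hC.ge.trans ((closure_le _).2 ?_)⟩
  have k2 : k 2 ∈ K := h23 ▸ mul_mem (mul_mem k9 k1) (inv_mem k9)
  rintro _ ⟨i, hi, rfl⟩
  have : i < 11 := hi
  interval_cases i
  exacts [k0, k1, k2, h8 ▸ mul_mem (mul_mem k5 k1) (inv_mem k5), h10 ▸ mul_mem (mul_mem k5 k2) (inv_mem k5), k5,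
    e6 ▸ inv_mem k5, k7, e8 ▸ inv_mem k7, k9, e10 ▸ inv_mem k9]

end H25.K
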