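import Cfsg.Agent.H25.U0
import Cfsg.Agent.H25.UY

/-! Frames for the 3-local characterization of `A₈`: the relations
`F0` of the centralizer of a 2-central involution, `FL` of the normalizer of a 3-cycle, `FR` with an element
exchanging two 3-cycles, and the facts read off from their coset tables. -/

set_option autoImplicit false
set_option maxRecDepth 8000

namespace H25.K
open Subgroup H18 H15 Cfsg H2.T3
open scoped commutatorElement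

universe u
variable {G : Type u} [Group G] {a b c d e g h i k p q r s t u v w x y z : G} {A B D E H K L M P Q R V W X Y : Subgroup G}

theorem tw_le [Finite G] {n : ℕ} (hn : n ≤ Nat.card K) (hK : K ≤ L) (hg : g ∈ L) (ng : g ∉ K) : 2 * n ≤ Nat.card L := by
  obtain ⟨m, e⟩ := card_dvd hK
  have := card_lt (lt_of_le_of_ne hK fun e => ng (e ▸ hg))
  have : 1 < m := by by_contra! h; interval_cases m <;> omega
  nlinarith

theorem exq_card [Finite G] {Q : Type*} [Group Q] {π : X →* Q} (hπ : Function.Surjective π)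
    (inj : ∀ g h : X, π g = π h ↔ (g : G) = h ∨ (g : G) = h * s) (ss : s * s = 1) (s1 : s ≠ 1) (hs : s ∈ X) :
    Nat.card X = Nat.card Q * 2 := by
  rw [card_eq_card_quotient_mul_card_subgroup π.ker, Nat.card_congr (QuotientGroup.quotientKerEquivOfSurjective π hπ).toEquiv,
    show π.ker = zpowers ⟨s, hs⟩ from le_antisymm (fun g hg => ((inj g 1).1 (hg.trans (map_one π).symm)).elim
      (fun e => (Subtype.ext e : g = 1) ▸ one_mem _) fun e => (Subtype.ext (e.trans (one_mul s)) : g = ⟨s, hs⟩) ▸ mem_zpowers _)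
      (zpowers_le.2 (((inj _ 1).2 (.inr (one_mul s).symm)).trans (map_one π))), card_zpowers',
    ord_prime Nat.prime_two (Subtype.ext ((sq s).trans ss)) fun e => s1 (congrArg Subtype.val e)]

/-- relations of the centralizer in `A₈` -/
structure F0 (z a b p q x t : G) : Prop extends Fq z a b p q x where
  mt : t ∈ C1(z)
  tx : t * x * t⁻¹ = x⁻¹
  ta : t * a * t⁻¹ = a
  tb : t * b * t⁻¹ = b
  tt : t * t = 1

/-- its Sylow 2-subgroup -/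
abbrev KT (z a b p q t : G) : Subgroup G := closure (gE z a b p q t 1 1 1 1 '' Set.Iio 7)

namespace F0
variable (J : F0 z a b p q x t)
include J

theorem i5 : I5 z a b p q := ⟨J.zz, J.aa, J.bb, J.pp, J.qq⟩

theorem rel : Rl (gE z a b p q t x 1 1 1) VH.rels :=
  (J.i5.rl t x 1 1 1).eqs (J.i5.hiv t x 1 1 1)
    [([7,7,7],[]), ([1,0],[0,1]), ([2,0],[0,2]), ([7,0],[0,7]), ([7,1,8],[3]), ([7,3,8],[1,3]), ([7,2,8],[4]), ([7,4,8],[2,4]), ([1,2],[2,1]), ([1,4,1,4],[0]), ([5,0],[0,5]), ([5,7,6],[8]), ([5,1,6],[1]), ([5,2,6],[2]), ([5,5],[])]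
    ⟨J.x3, mem_C1.1 J.ma, mem_C1.1 J.mb, mem_C1.1 J.mx, J.xa, J.xp, J.xb, J.xq, J.ab, J.aq, mem_C1.1 J.mt, J.tx, J.ta, J.tb, J.tt⟩ (by decide +kernel)

theorem id1 :
    a * z = z * a ∧
    b * z = z * b ∧
    p * z = z * p ∧
    q * z = z * q ∧
    t * z = z * t ∧
    a * b = b * a ∧
    a * p = p * a ∧
    b * q = q * b ∧
    p * q = q * p ∧
    a * q * a * q = z ∧
    b * p * b * p = z ∧
    t * a * t⁻¹ = a ∧
    t * b * t⁻¹ = b ∧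
    t * t = 1 ∧
    t * p * t * p = a ∧
    t * q * t * q = b :=
  (VH.ct _ J.rel ⊥ (by simp [VH.subs])).eqs (l := [([1,0],[0,1]), ([2,0],[0,2]), ([3,0],[0,3]), ([4,0],[0,4]), ([5,0],[0,5]), ([1,2],[2,1]), ([1,3],[3,1]), ([2,4],[4,2]), ([3,4],[4,3]), ([1,4,1,4],[0]), ([2,3,2,3],[0]), ([5,1,6],[1]), ([5,2,6],[2]), ([5,5],[]), ([5,3,5,3],[1]), ([5,4,5,4],[2])]) (by decide +kernel)

theorem id2 :
    p * (a * b) * (p)⁻¹ = a * b * z ∧
    p * q * (t * (a * b * z)) * (p * q)⁻¹ = t ∧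
    p * q * (t * (a * b)) * (p * q)⁻¹ = t * z ∧
    a * b * z * z = a * b ∧
    a * b * (z) = z * a * b ∧
    a * (x * a * x⁻¹) * (x⁻¹ * a * x) = 1 ∧
    b * (x * b * x⁻¹) * (x⁻¹ * b * x) = 1 ∧
    t * p * (t * p) = a ∧
    t * q * (t * q) = b ∧
    t * p * t⁻¹ = a * p ∧
    a * b * z * (a * b * z) = 1 := by
  have key : p * a * b * p = a * b * z ∧
    p * q * t * a * b * z * q * p = t ∧
    p * q * t * a * b * q * p = t * z ∧
    a * b * z * z = a * b ∧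
    a * b * z = z * a * b ∧
    a * x * a * x⁻¹ * x⁻¹ * a * x = 1 ∧
    b * x * b * x⁻¹ * x⁻¹ * b * x = 1 ∧
    t * p * t * p = a ∧
    t * q * t * q = b ∧
    t * p * t⁻¹ = a * p ∧
    a * b * z * a * b * z = 1 :=
    (VH.ct _ J.rel ⊥ (by simp [VH.subs])).eqs (l := [([3,1,2,3],[1,2,0]), ([3,4,5,1,2,0,4,3],[5]), ([3,4,5,1,2,4,3],[5,0]), ([1,2,0,0],[1,2]), ([1,2,0],[0,1,2]), ([1,7,1,8,8,1,7],[]), ([2,7,2,8,8,2,7],[]), ([5,3,5,3],[1]), ([5,4,5,4],[2]), ([5,3,6],[1,3]), ([1,2,0,1,2,0],[])]) (by decide +kernel)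
  simpa only [mul_assoc, mul_inv_rev, inv_inv, pow_three', J.iz, J.ia, J.ib, J.ip, J.iq] using key

theorem relT : Rl (gE z a b p q t 1 1 1 1) VT.rels :=
  let ⟨e0, e1, e2, e3, e4, e5, e6, e7, e8, e9, e10, e11, e12, e13, e14, e15⟩ := J.id1
  (J.i5.rl t 1 1 1 1).eqs (J.i5.hiv t 1 1 1 1)
    [([1,0],[0,1]), ([2,0],[0,2]), ([3,0],[0,3]), ([4,0],[0,4]), ([5,0],[0,5]), ([1,2],[2,1]), ([1,3],[3,1]), ([2,4],[4,2]), ([3,4],[4,3]), ([1,4,1,4],[0]), ([2,3,2,3],[0]), ([5,1,6],[1]), ([5,2,6],[2]), ([5,5],[]), ([5,3,5,3],[1]), ([5,4,5,4],[2])]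
    ⟨e0, e1, e2, e3, e4, e5, e6, e7, e8, e9, e10, e11, e12, e13, e14, e15⟩ (by decide +kernel)

theorem rt (hc : Nat.card (KT z a b p q t) = 64) : RT (KT z a b p q t) (gE z a b p q t 1 1 1 1) 7 64 VT.wk VT.iv VT.wd :=
  VT.rt J.relT rfl hc

theorem f1 (hc : Nat.card (KT z a b p q t) = 64) {h : G} (hh : h ∈ KT z a b p q t)  :
    (t * (h * h) = h * h * t ∧ a * b * z * (h * h) = h * h * (a * b * z)) := by
  have key : (t * h * h = h * h * t ∧ a * b * z * h * h = h * h * a * b * z) :=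
    ((J.rt hc).solve (wt := fun _ => 0) (d := 6)
    (hyps := [])
    (concl := [[([9,0,0],[0,0,9]), ([5,6,4,0,0],[0,0,5,6,4])]])
    (by decide +kernel) hh trivial).elim fun _ e => e.2
  simpa only [mul_assoc, mul_inv_rev, inv_inv, pow_three', J.iz, J.ia, J.ib, J.ip, J.iq] using key

theorem f2 (hc : Nat.card (KT z a b p q t) = 64) {h : G} (hh : h ∈ KT z a b p q t) (h1 : h * a = a * h) (h2 : h * b = b * h) :
    ∃ k ∈ KT z a b p q t, h = 1 ∨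
    k * h * k⁻¹ = z ∨
    k * h * k⁻¹ = a ∨
    k * h * k⁻¹ = b ∨
    k * h * k⁻¹ = t * z ∨
    k * h * k⁻¹ = a * b * z ∨
    (k * h * k⁻¹ = t ∧ k * (a * b * z) * k⁻¹ = a * b * z) ∨
    (k * h * k⁻¹ = t ∧ k * (a * b * z) * k⁻¹ = a * b) := by
  have key : ∃ k ∈ KT z a b p q t, h = 1 ∨
    k * h * k⁻¹ = z ∨
    k * h * k⁻¹ = a ∨
    k * h * k⁻¹ = b ∨
    k * h * k⁻¹ = t * z ∨
    k * h * k⁻¹ = a * b * z ∨
    (k * h * k⁻¹ = t ∧ k * a * b * z * k⁻¹ = a * b * z) ∨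
    (k * h * k⁻¹ = t ∧ k * a * b * z * k⁻¹ = a * b) :=
    (J.rt hc).solve (wt := H25.tb (nat_lit 0x3c000000000000000000000000000f000000000005004000000000000144000000004000004140000000000) 6) (d := 6)
    (hyps := [([0,5],[5,0]), ([0,6],[6,0])])
    (concl := [[([0],[])], [([2,0,3],[4])], [([2,0,3],[5])], [([2,0,3],[6])], [([2,0,3],[9,4])], [([2,0,3],[5,6,4])], [([2,0,3],[9]), ([2,5,6,4,3],[5,6,4])], [([2,0,3],[9]), ([2,5,6,4,3],[5,6])]])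
    (by decide +kernel) hh ⟨h1, h2⟩
  simpa only [mul_assoc, mul_inv_rev, inv_inv, pow_three', J.iz, J.ia, J.ib, J.ip, J.iq] using key

end F0

/-- the normalizer of a 3-cycle in `A₈` -/
structure FL (a s t z u : G) : Prop where
  aa : a * a = 1
  ss : s * s = 1
  tt : t * t = 1
  z3 : z * z * z = 1
  u3 : u * u * u = 1
  zu : z * u = u * z
  za : z * a = a * z
  zs : z * s = s * z
  tz : t * z * t⁻¹ = z⁻¹
  ua : (u * a) ^ 3 = 1
  su : s * u * s⁻¹ = u⁻¹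
  as3 : (a * s) ^ 3 = 1
  tu : t * u * t⁻¹ = u
  st : s * t = t * s
  sta : (s * t * a) ^ 2 = 1

/-- the subgroup generated -/
abbrev KL (a s t z u : G) : Subgroup G := closure (gE a s t 1 1 z u 1 1 1 '' Set.Iio 9)

namespace FL
variable (J : FL a s t z u)
include J

theorem ia : a⁻¹ = a := inv_sq J.aa
theorem is : s⁻¹ = s := inv_sq J.ss
theorem it : t⁻¹ = t := inv_sq J.tt

theorem rel : Rl (gE a s t 1 1 z u 1 1 1) VL.rels :=
  have I : I5 a s t 1 1 := ⟨J.aa, J.ss, J.tt, mul_one 1, mul_one 1⟩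
  (((I.rl z u 1 1 1).add (w := [3]) rfl).add (w := [4]) rfl).eqs (I.hiv z u 1 1 1)
    [([5,5,5],[]), ([7,7,7],[]), ([5,7],[7,5]), ([5,0],[0,5]), ([5,1],[1,5]), ([2,5,2],[6]), ([7,0,7,0,7,0],[]), ([1,7,1],[8]), ([0,1,0,1,0,1],[]), ([2,7,2],[7]), ([1,2],[2,1]), ([1,2,0,1,2,0],[])]
    ⟨J.z3, J.u3, J.zu, J.za, J.zs, (show t * z * t = z⁻¹ by simpa only [mul_assoc, mul_inv_rev, inv_inv, pow_three', J.ia, J.is, J.it, pow_two] using J.tz), (show u * a * u * a * u * a = 1 by simpa only [mul_assoc, mul_inv_rev, inv_inv, pow_three', J.ia, J.is, J.it, pow_two] using J.ua), (show s * u * s = u⁻¹ by simpa only [mul_assoc, mul_inv_rev, inv_inv, pow_three', J.ia, J.is, J.it, pow_two] using J.su), (show a * s * a * s * a * s = 1 by simpa only [mul_assoc, mul_inv_rev, inv_inv, pow_three', J.ia, J.is, J.it, pow_two] using J.as3), (show t * u * t = u by simpa only [mul_assoc, mul_inv_rev,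 inv_inv, pow_three', J.ia, J.is, J.it, pow_two] using J.tu), J.st, (show s * t * a * s * t * a = 1 by simpa only [mul_assoc, mul_inv_rev, inv_inv, pow_three', J.ia, J.is, J.it, pow_two] using J.sta)⟩ (by decide +kernel)

theorem rt (hc : Nat.card (KL a s t z u) = 360) : RT (KL a s t z u) (gE a s t 1 1 z u 1 1 1) 9 360 VL.wk VL.iv VL.wd :=
  VL.rt J.rel rfl hc

theorem map {G' : Type*} [Group G'] (f : G →* G') : FL (f a) (f s) (f t) (f z) (f u) := by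
  obtain ⟨e0, e1, e2, e3, e4, e5, e6, e7, e8, e9, e10, e11, e12, e13, e14⟩ := J
  exact ⟨by simpa only [map_mul, map_inv, map_pow, map_one] using congrArg f e0, by simpa only [map_mul, map_inv, map_pow, map_one] using congrArg f e1, by simpa only [map_mul, map_inv, map_pow, map_one] using congrArg f e2, by simpa only [map_mul, map_inv, map_pow, map_one] using congrArg f e3, by simpa only [map_mul, map_inv, map_pow, map_one] using congrArg f e4, by simpa only [map_mul, map_inv, map_pow, map_one] using congrArg f e5, by simpa only [map_mul, map_inv, map_pow, map_one] using congrArg f e6, by simpa only [map_mul, map_inv, map_pow, map_one] using congrArg f e7, by simpa only [map_mul, map_inv, map_pow, map_one] using congrArg f e8, by simpa only [map_mul, map_inv, map_pow, map_one] using congrArg f e9, by simpa only [map_mul, map_inv, map_pow, map_one] using congrArg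 f e10, by simpa only [map_mul, map_inv, map_pow, map_one] using congrArg f e11, by simpa only [map_mul, map_inv, map_pow, map_one] using congrArg f e12, by simpa only [map_mul, map_inv, map_pow, map_one] using congrArg f e13, by simpa only [map_mul, map_inv, map_pow, map_one] using congrArg f e14⟩

theorem id1 :
    s * t * z * (s * t)⁻¹ = z⁻¹ ∧
    s * t * u * (s * t)⁻¹ = u⁻¹ ∧
    s * t * (s * t) = 1 ∧
    s * z * s⁻¹ = z ∧
    s * (z * u) * s⁻¹ = z * u⁻¹ ∧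
    t * (z * u) * t⁻¹ = z⁻¹ * u ∧
    s * t * (z * u) * (s * t)⁻¹ = z⁻¹ * u⁻¹ ∧
    a * (u * a * u⁻¹) = u * a * u⁻¹ * a ∧
    u * a * u⁻¹ * (u * a * u⁻¹) = 1 ∧
    u * (u * a * u⁻¹) * u⁻¹ = a * (u * a * u⁻¹) ∧
    z * a * z⁻¹ = a ∧
    z * (u * a * u⁻¹) * z⁻¹ = u * a * u⁻¹ ∧
    s * t * a * (s * t)⁻¹ = a ∧
    s * t * (u * a * u⁻¹) * (s * t)⁻¹ = a * (u * a * u⁻¹) ∧
    a * s * a * (a * s)⁻¹ = s ∧
    a * s * (s * t) * (a * s)⁻¹ = s * t ∧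
    u⁻¹ * a * u = a * (u * a * u⁻¹) ∧
    u * a * u⁻¹ * (s * t) * (u * a * u⁻¹ * (s * t)) = a ∧
    a * (u * a * u⁻¹) * (s * t) * (a * (u * a * u⁻¹) * (s * t)) = a ∧
    a * s * a * s * a * s = 1 ∧
    s * (s * t) = t ∧
    u * (a * (u * a * u⁻¹)) * u⁻¹ = a := by
  have key : s * t * z * t * s = z⁻¹ ∧
    s * t * u * t * s = u⁻¹ ∧
    s * t * s * t = 1 ∧
    s * z * s = z ∧
    s * z * u * s = z * u⁻¹ ∧
    t * z * u * t = z⁻¹ * u ∧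
    s * t * z * u * t * s = z⁻¹ * u⁻¹ ∧
    a * u * a * u⁻¹ = u * a * u⁻¹ * a ∧
    u * a * u⁻¹ * u * a * u⁻¹ = 1 ∧
    u * u * a * u⁻¹ * u⁻¹ = a * u * a * u⁻¹ ∧
    z * a * z⁻¹ = a ∧
    z * u * a * u⁻¹ * z⁻¹ = u * a * u⁻¹ ∧
    s * t * a * t * s = a ∧
    s * t * u * a * u⁻¹ * t * s = a * u * a * u⁻¹ ∧
    a * s * a * s * a = s ∧
    a * s * s * t * s * a = s * t ∧
    u⁻¹ * a * u = a * u * a * u⁻¹ ∧
    u * a * u⁻¹ * s * t * u * a * u⁻¹ * s * t = a ∧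
    a * u * a * u⁻¹ * s * t * a * u * a * u⁻¹ * s * t = a ∧
    a * s * a * s * a * s = 1 ∧
    s * s * t = t ∧
    u * a * u * a * u⁻¹ * u⁻¹ = a :=
    (VL.ct _ J.rel ⊥ (by simp [VL.subs])).eqs (l := [([1,2,5,2,1],[6]), ([1,2,7,2,1],[8]), ([1,2,1,2],[]), ([1,5,1],[5]), ([1,5,7,1],[5,8]), ([2,5,7,2],[6,7]), ([1,2,5,7,2,1],[6,8]), ([0,7,0,8],[7,0,8,0]), ([7,0,8,7,0,8],[]), ([7,7,0,8,8],[0,7,0,8]), ([5,0,6],[0]), ([5,7,0,8,6],[7,0,8]), ([1,2,0,2,1],[0]), ([1,2,7,0,8,2,1],[0,7,0,8]), ([0,1,0,1,0],[1]), ([0,1,1,2,1,0],[1,2]), ([8,0,7],[0,7,0,8]), ([7,0,8,1,2,7,0,8,1,2],[0]), ([0,7,0,8,1,2,0,7,0,8,1,2],[0]), ([0,1,0,1,0,1],[]), ([1,1,2],[2]), ([7,0,7,0,8,8],[0])]) (by decide +kernel)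
  simpa only [mul_assoc, mul_inv_rev, inv_inv, pow_three', J.ia, J.is, J.it, pow_two] using key

theorem ne1 (hc : Nat.card (KL a s t z u) = 360) :
    z ≠ 1 ∧
    u ≠ 1 ∧
    a ≠ 1 ∧
    u * a * u⁻¹ ≠ 1 ∧
    a ≠ u * a * u⁻¹ ∧
    u ≠ z ∧
    u ≠ z⁻¹ ∧
    u * a ≠ a * u ∧
    z ≠ z⁻¹ ∧
    z * u ≠ 1 ∧
    z ≠ z * u ∧
    z ≠ z * u⁻¹ ∧
    z ≠ z⁻¹ * u ∧
    z⁻¹ ≠ z * u ∧
    z⁻¹ ≠ z * u⁻¹ ∧
    z⁻¹ ≠ z⁻¹ * u ∧
    z * u ≠ z * u⁻¹ ∧
    z * u ≠ z⁻¹ * u ∧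
    z * u⁻¹ ≠ z⁻¹ * u ∧
    s * t ≠ 1 ∧
    s * t ≠ a ∧
    s * t ≠ u * a * u⁻¹ ∧
    s * t ≠ a * (u * a * u⁻¹) ∧
    s * u ≠ u * s := by
  have key : z ≠ 1 ∧
    u ≠ 1 ∧
    a ≠ 1 ∧
    u * a * u⁻¹ ≠ 1 ∧
    a ≠ u * a * u⁻¹ ∧
    u ≠ z ∧
    u ≠ z⁻¹ ∧
    u * a ≠ a * u ∧
    z ≠ z⁻¹ ∧
    z * u ≠ 1 ∧
    z ≠ z * u ∧
    z ≠ z * u⁻¹ ∧
    z ≠ z⁻¹ * u ∧
    z⁻¹ ≠ z * u ∧
    z⁻¹ ≠ z * u⁻¹ ∧
    z⁻¹ ≠ z⁻¹ * u ∧
    z * u ≠ z * u⁻¹ ∧
    z * u ≠ z⁻¹ * u ∧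
    z * u⁻¹ ≠ z⁻¹ * u ∧
    s * t ≠ 1 ∧
    s * t ≠ a ∧
    s * t ≠ u * a * u⁻¹ ∧
    s * t ≠ a * u * a * u⁻¹ ∧
    s * u ≠ u * s :=
    (J.rt hc).nes (l := [([5],[]), ([7],[]), ([0],[]), ([7,0,8],[]), ([0],[7,0,8]), ([7],[5]), ([7],[6]), ([7,0],[0,7]), ([5],[6]), ([5,7],[]), ([5],[5,7]), ([5],[5,8]), ([5],[6,7]), ([6],[5,7]), ([6],[5,8]), ([6],[6,7]), ([5,7],[5,8]), ([5,7],[6,7]), ([5,8],[6,7]), ([1,2],[]), ([1,2],[0]), ([1,2],[7,0,8]), ([1,2],[0,7,0,8]), ([1,7],[7,1])]) (by decide +kernel)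
  simpa only [mul_assoc, mul_inv_rev, inv_inv, pow_three', J.ia, J.is, J.it, pow_two] using key

theorem l1 (hc : Nat.card (KL a s t z u) = 360) {h : G} (hh : h ∈ KL a s t z u) (h1 : h * u = u * h) (h2 : h * (a * s) = a * s * h) :
    h = 1 ∨
    h = z ∨
    h = z⁻¹ :=
  ((J.rt hc).solve (wt := fun _ => 0) (d := 9)
    (hyps := [([0,11],[11,0]), ([0,4,5],[4,5,0])])
    (concl := [[([0],[])], [([0],[9])], [([0],[10])]])
    (by decide +kernel) hh ⟨h1, (show h * a * s = a * s * h by simpa only [mul_assoc, mul_inv_rev, inv_inv, pow_three', J.ia, J.is, J.it, pow_two] using h2)⟩).elim fun _ e => e.2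

theorem l2 (hc : Nat.card (KL a s t z u) = 360) {h : G} (hh : h ∈ KL a s t z u) (h1 : h * h * h = 1) :
    ∃ k ∈ KL a s t z u, h = 1 ∨
    h = z ∨
    h = z⁻¹ ∨
    (k * z = z * k ∧ k * h * k⁻¹ = u) ∨
    (k * z = z * k ∧ k * h * k⁻¹ = u * z) ∨
    (k * z = z * k ∧ k * h * k⁻¹ = u * z⁻¹) :=
  (J.rt hc).solve (wt := H25.tb (nat_lit 0x800022000000000000000022000000000000000000000000000000004000000000000000000000004a0000000002540000000000000000000000000000084000002200000000000000000000000000000000000000000000000000000010000fc0000210000000000000000000007e004200128000000000000000000950000000000010800000000000000000000000000000000000128010000000000000000000025400000000000001c10c704300000000042000003f00000000000000008f4780000000000000000000084000000000000000000000000002000000000000000000000000000000011c8e0000000000000000020e00000000000000000000001d8001c10c0000003e8000000118000009048008f00060000000000000000001d84607001f400000608e0200008000000000000e000000000003b000fa001182418000000000010000000000000000)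 9) (d := 9)
    (hyps := [([0,0,0],[])])
    (concl := [[([0],[])], [([0],[9])], [([0],[10])], [([2,9],[9,2]), ([2,0,3],[11])], [([2,9],[9,2]), ([2,0,3],[11,9])], [([2,9],[9,2]), ([2,0,3],[11,10])]])
    (by decide +kernel) hh h1

theorem l3 (hc : Nat.card (KL a s t z u) = 360) {h : G} (hh : h ∈ KL a s t z u) (h1 : h * z = z * h) (h2 : h * u * h⁻¹ * u = u * (h * u * h⁻¹)) :
    h * u * h⁻¹ = u ∨
    h * u * h⁻¹ = u⁻¹ :=
  ((J.rt hc).solve (wt := fun _ => 0) (d := 9)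
    (hyps := [([0,9],[9,0]), ([0,11,1,11],[11,0,11,1])])
    (concl := [[([0,11,1],[11])], [([0,11,1],[12])]])
    (by decide +kernel) hh ⟨h1, (show h * u * h⁻¹ * u = u * h * u * h⁻¹ by simpa only [mul_assoc, mul_inv_rev, inv_inv, pow_three', J.ia, J.is, J.it, pow_two] using h2)⟩).elim fun _ e => e.2

theorem l4 (hc : Nat.card (KL a s t z u) = 360) {h : G} (hh : h ∈ KL a s t z u) (h1 : h * a = a * h) (h2 : h * (u * a * u⁻¹) = u * a * u⁻¹ * h) :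
    (h * z = z * h ∧ h = 1) ∨
    (h * z = z * h ∧ h = a) ∨
    (h * z = z * h ∧ h = u * a * u⁻¹) ∨
    (h * z = z * h ∧ h = a * (u * a * u⁻¹)) ∨
    (h * z = z * h ∧ h * h = z) ∨
    (h * z = z * h ∧ h * h = z⁻¹) := by
  have key : (h * z = z * h ∧ h = 1) ∨
    (h * z = z * h ∧ h = a) ∨
    (h * z = z * h ∧ h = u * a * u⁻¹) ∨
    (h * z = z * h ∧ h = a * u * a * u⁻¹) ∨
    (h * z = z * h ∧ h * h = z) ∨
    (h * z = z * h ∧ h * h = z⁻¹) :=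
    ((J.rt hc).solve (wt := fun _ => 0) (d := 9)
    (hyps := [([0,4],[4,0]), ([0,11,4,12],[11,4,12,0])])
    (concl := [[([0,9],[9,0]), ([0],[])], [([0,9],[9,0]), ([0],[4])], [([0,9],[9,0]), ([0],[11,4,12])], [([0,9],[9,0]), ([0],[4,11,4,12])], [([0,9],[9,0]), ([0,0],[9])], [([0,9],[9,0]), ([0,0],[10])]])
    (by decide +kernel) hh ⟨h1, (show h * u * a * u⁻¹ = u * a * u⁻¹ * h by simpa only [mul_assoc, mul_inv_rev, inv_inv, pow_three', J.ia, J.is, J.it, pow_two] using h2)⟩).elim fun _ e => e.2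
  simpa only [mul_assoc, mul_inv_rev, inv_inv, pow_three', J.ia, J.is, J.it, pow_two] using key

theorem l5 (hc : Nat.card (KL a s t z u) = 360) {h : G} (hh : h ∈ KL a s t z u) (h1 : h * h = 1) :
    ∃ k ∈ KL a s t z u, h = 1 ∨
    k * h * k⁻¹ = a ∨
    k * h * k⁻¹ = t :=
  (J.rt hc).solve (wt := H25.tb (nat_lit 0x14c000000000000000000000000000000000000000000000000000000000000000003b000000000000000000000e800500000000000009c000000000000000000000014000000000000000000000000000000000000000006433800000046000000000000000000000000000060000f00000000000000000000194d0a80000000000003800000000034000000000000000000000000000000000000000000000000000000000000000000000000000000000000000000000000000000000000000000000000000070000000000000000000000000000000000000004d000000000000000000000008b000000000000e400000000000000000000000030d88000005c00c0000000000000240000002fc0000000000a00000000000000000000000000000000000000128990800000000001000000000000000086000000000000000000038000000000023e000046400000000000000000000000000000040011800000000020ec000000400238000000030000000000000000000480000)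 9) (d := 9)
    (hyps := [([0,0],[])])
    (concl := [[([0],[])], [([2,0,3],[4])], [([2,0,3],[6])]])
    (by decide +kernel) hh h1

theorem l6 (hc : Nat.card (KL a s t z u) = 360) {h : G} (hh : h ∈ KL a s t z u) (h1 : h * (u * a * u⁻¹) = u * a * u⁻¹ * h) (h2 : h * (s * t) = s * t * h) (h3 : h * h = 1) :
    h = 1 ∨
    h = a :=
  ((J.rt hc).solve (wt := fun _ => 0) (d := 9)
    (hyps := [([0,11,4,12],[11,4,12,0]), ([0,5,6],[5,6,0]), ([0,0],[])])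
    (concl := [[([0],[])], [([0],[4])]])
    (by decide +kernel) hh ⟨(show h * u * a * u⁻¹ = u * a * u⁻¹ * h by simpa only [mul_assoc, mul_inv_rev, inv_inv, pow_three', J.ia, J.is, J.it, pow_two] using h1), (show h * s * t = s * t * h by simpa only [mul_assoc, mul_inv_rev, inv_inv, pow_three', J.ia, J.is, J.it, pow_two] using h2), h3⟩).elim fun _ e => e.2

theorem l8 (hc : Nat.card (KL a s t z u) = 360) {h : G} (hh : h ∈ KL a s t z u) (h1 : h * a = a * h) (h2 : h * h = 1) :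
    ∃ k ∈ KL a s t z u, h = 1 ∨
    h = a ∨
    h = u * a * u⁻¹ ∨
    h = a * (u * a * u⁻¹) ∨
    (k * a * k⁻¹ = s ∧ k * h * k⁻¹ = t) := by
  have key : ∃ k ∈ KL a s t z u, h = 1 ∨
    h = a ∨
    h = u * a * u⁻¹ ∨
    h = a * u * a * u⁻¹ ∨
    (k * a * k⁻¹ = s ∧ k * h * k⁻¹ = t) :=
    (J.rt hc).solve (wt := H25.tb (nat_lit 0x128980000000000000000000000000000000000000000000000000000000000000023e000046400000000000000000000000000000000000000000000020ec000000000000000000000000000000000000000000000) 9) (d := 9)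
    (hyps := [([0,4],[4,0]), ([0,0],[])])
    (concl := [[([0],[])], [([0],[4])], [([0],[11,4,12])], [([0],[4,11,4,12])], [([2,4,3],[5]), ([2,0,3],[6])]])
    (by decide +kernel) hh ⟨h1, h2⟩
  simpa only [mul_assoc, mul_inv_rev, inv_inv, pow_three', J.ia, J.is, J.it, pow_two] using key

theorem l9 (hc : Nat.card (KL a s t z u) = 360) {h : G} (hh : h ∈ KL a s t z u) (h1 : h * a = a * h) :
    h = 1 ∨
    h = a ∨
    h = u * a * u⁻¹ ∨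
    h = a * (u * a * u⁻¹) ∨
    h = s * t ∨
    h = a * (s * t) ∨
    h = u * a * u⁻¹ * (s * t) ∨
    h = a * (u * a * u⁻¹) * (s * t) ∨
    h * (s * t) * h⁻¹ * (s * t) * (h * (s * t) * h⁻¹ * (s * t)) = z ∨
    h * (s * t) * h⁻¹ * (s * t) * (h * (s * t) * h⁻¹ * (s * t)) = z⁻¹ := by
  have key : h = 1 ∨
    h = a ∨
    h = u * a * u⁻¹ ∨
    h = a * u * a * u⁻¹ ∨
    h = s * t ∨
    h = a * s * t ∨
    h = u * a * u⁻¹ * s * t ∨
    h = a * u * a * u⁻¹ * s * t ∨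
    h * s * t * h⁻¹ * s * t * h * s * t * h⁻¹ * s * t = z ∨
    h * s * t * h⁻¹ * s * t * h * s * t * h⁻¹ * s * t = z⁻¹ :=
    ((J.rt hc).solve (wt := fun _ => 0) (d := 9)
    (hyps := [([0,4],[4,0])])
    (concl := [[([0],[])], [([0],[4])], [([0],[11,4,12])], [([0],[4,11,4,12])], [([0],[5,6])], [([0],[4,5,6])], [([0],[11,4,12,5,6])], [([0],[4,11,4,12,5,6])], [([0,5,6,1,5,6,0,5,6,1,5,6],[9])], [([0,5,6,1,5,6,0,5,6,1,5,6],[10])]])
    (by decide +kernel) hh h1).elim fun _ e => e.2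
  simpa only [mul_assoc, mul_inv_rev, inv_inv, pow_three', J.ia, J.is, J.it, pow_two] using key

theorem l7 (hc : Nat.card (KL a s t z u) = 360) {h : G} (hh : h ∈ KL a s t z u) (h1 : h * z = z * h) :
    ∃ k ∈ KL a s t z u, h = 1 ∨
    h = a ∨
    h = u * a * u⁻¹ ∨
    h = a * (u * a * u⁻¹) ∨
    h = t * a * t⁻¹ ∨
    u * h * u⁻¹ = t * a * t⁻¹ ∨
    u⁻¹ * h * u = t * a * t⁻¹ ∨
    k * (h * h * h * (u * h * u⁻¹)) * k⁻¹ = z * u ∨
    k * (h * h * (u * h * u⁻¹)) * k⁻¹ = u ∨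
    k * (h * (u * h * u⁻¹)) * k⁻¹ = u ∨
    k * (h * h) * k⁻¹ = z ∨
    k * (h * (u * h * u⁻¹) * h * (u⁻¹ * h * u)) * k⁻¹ = u := by
  have key : ∃ k ∈ KL a s t z u, h = 1 ∨
    h = a ∨
    h = u * a * u⁻¹ ∨
    h = a * u * a * u⁻¹ ∨
    h = t * a * t ∨
    u * h * u⁻¹ = t * a * t ∨
    u⁻¹ * h * u = t * a * t ∨
    k * h * h * h * u * h * u⁻¹ * k⁻¹ = z * u ∨
    k * h * h * u * h * u⁻¹ * k⁻¹ = u ∨
    k * h * u * h * u⁻¹ * k⁻¹ = u ∨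
    k * h * h * k⁻¹ = z ∨
    k * h * u * h * u⁻¹ * h * u⁻¹ * h * u * k⁻¹ = u :=
    (J.rt hc).solve (wt := H25.tb (nat_lit 0x30025c00000a8020c0000048003f0000006fa0011c00ee003b00000000000600479340101003b000a3000000000003bc068400000003f2200000000000000004b80072000000000030000086000000000470023d2800000002000018fc0000003b000ec000007000830000000003bc00001c2590c384aa18000000001f4ee000007000000000000000000000000000012001308c000000000fa2300000000025800000b00000000000000007d000700076001f4000000000030180000841c00000460004400ec000002403000480000000000038518007256000000000000000000000047e8f0000146002213c20422311c00fa070400000000010c100000000a34a0010800000000046420007e000000000000000020001fa3c1c00000008e86000014603002100000091308c000000000005180c8c550000000000000000001fa3d0c0000040000323c0406000805400862691c00160006c0084000000000000012a120c0011e0000004001401808000000000061200000000000060004f000000047000000600000000403000000000)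 9) (d := 9)
    (hyps := [([0,9],[9,0])])
    (concl := [[([0],[])], [([0],[4])], [([0],[11,4,12])], [([0],[4,11,4,12])], [([0],[6,4,6])], [([11,0,12],[6,4,6])], [([12,0,11],[6,4,6])], [([2,0,0,0,11,0,12,3],[9,11])], [([2,0,0,11,0,12,3],[11])], [([2,0,11,0,12,3],[11])], [([2,0,0,3],[9])], [([2,0,11,0,12,0,12,0,11,3],[11])]])
    (by decide +kernel) hh h1
  simpa only [mul_assoc, mul_inv_rev, inv_inv, pow_three', J.ia, J.is, J.it, pow_two] using key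

end FL

/-- with an element exchanging the two 3-cycles -/
structure FR (a s t r z u : G) : Prop extends FL a s t z u where
  rr : r * r = 1
  rz : r * z * r⁻¹ = u
  rs : r * s * r⁻¹ = t


theorem FL.dr {m : G} (J : FL a s t z u) (h1 : m * z * m⁻¹ = u) (h2 : m * u * m⁻¹ = z) (h3 : m * (s * t) * m⁻¹ = s * t) :
    m * m * (s * t) = s * t * (m * m) ∧
    m * m * u = u * (m * m) ∧
    m * m * z = z * (m * m) ∧
    m * s * m⁻¹ * t * (s * t) = s * t * (m * s * m⁻¹ * t) ∧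
    m * s * m⁻¹ * t * u = u * (m * s * m⁻¹ * t) ∧
    m * s * m⁻¹ * t * z = z * (m * s * m⁻¹ * t) := by
  have key : m * m * s * t = s * t * m * m ∧
    m * m * u = u * m * m ∧
    m * m * z = z * m * m ∧
    m * s * m⁻¹ * t * s * t = s * t * m * s * m⁻¹ * t ∧
    m * s * m⁻¹ * t * u = u * m * s * m⁻¹ * t ∧
    m * s * m⁻¹ * t * z = z * m * s * m⁻¹ * t :=
    have I : I5 a s t 1 1 := ⟨J.aa, J.ss, J.tt, mul_one 1, mul_one 1⟩
    eqs_of (I.rl z u m 1 1) (I.hiv z u m 1 1) VD1.mem [0,1,2,5,6,7,8,9,10] (hy := [([5,5,5],[]), ([7,7,7],[]), ([5,7],[7,5]), ([5,0],[0,5]), ([5,1],[1,5]), ([2,5,2],[6]), ([7,0,7,0,7,0],[]), ([1,7,1],[8]), ([0,1,0,1,0,1],[]), ([2,7,2],[7]), ([1,2],[2,1]), ([1,2,0,1,2,0],[]), ([9,5,10],[7]), ([9,7,10],[5]), ([9,1,2,10],[1,2])])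
    (cl := [([9,9,1,2],[1,2,9,9]), ([9,9,7],[7,9,9]), ([9,9,5],[5,9,9]), ([9,1,10,2,1,2],[1,2,9,1,10,2]), ([9,1,10,2,7],[7,9,1,10,2]), ([9,1,10,2,5],[5,9,1,10,2])])
    ⟨J.z3, J.u3, J.zu, J.za, J.zs, (show t * z * t = z⁻¹ by simpa only [mul_assoc, mul_inv_rev, inv_inv, pow_three', J.ia, J.is, J.it, pow_two] using J.tz), (show u * a * u * a * u * a = 1 by simpa only [mul_assoc, mul_inv_rev, inv_inv, pow_three', J.ia, J.is, J.it, pow_two] using J.ua), (show s * u * s = u⁻¹ by simpa only [mul_assoc, mul_inv_rev, inv_inv, pow_three', J.ia, J.is, J.it, pow_two] using J.su), (show a * s * a * s * a * s = 1 by simpa only [mul_assoc, mul_inv_rev, inv_inv, pow_three', J.ia, J.is, J.it, pow_two] using J.as3), (show t * u * t = u by simpa only [mul_assoc, mul_inv_rev, inv_inv, pow_three', J.ia, J.is, J.it, pow_two] using J.tu), J.st, (show s * t * a * s * t * a = 1 by simpa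 only [mul_assoc, mul_inv_rev, inv_inv, pow_three', J.ia, J.is, J.it, pow_two] using J.sta), h1, h2, (show m * s * t * m⁻¹ = s * t by simpa only [mul_assoc, mul_inv_rev, inv_inv, pow_three', J.ia, J.is, J.it, pow_two] using h3)⟩ (by decide +kernel)
  simpa only [mul_assoc, mul_inv_rev, inv_inv, pow_three', J.ia, J.is, J.it, pow_two] using key

namespace FR
variable (J : FR a s t r z u)
include J

theorem ir : r⁻¹ = r := inv_sq J.rr

theorem d0 :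
    r * u * r⁻¹ = z ∧
    r * (z * u) = z * u * r ∧
    r * (s * t) * r⁻¹ = s * t ∧
    r * t * r⁻¹ = s := by
  have key : r * u * r = z ∧
    r * z * u = z * u * r ∧
    r * s * t * r = s * t ∧
    r * t * r = s :=
    have I : I5 a s t r 1 := ⟨J.aa, J.ss, J.tt, J.rr, mul_one 1⟩
    eqs_of (I.rl z u 1 1 1) (I.hiv z u 1 1 1) VD2.mem [0,1,2,3,5,6,7,8] (hy := [([5,5,5],[]), ([7,7,7],[]), ([5,7],[7,5]), ([5,0],[0,5]), ([5,1],[1,5]), ([2,5,2],[6]), ([7,0,7,0,7,0],[]), ([1,7,1],[8]), ([0,1,0,1,0,1],[]), ([2,7,2],[7]), ([1,2],[2,1]), ([1,2,0,1,2,0],[]), ([3,5,3],[7]), ([3,1,3],[2])])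
    (cl := [([3,7,3],[5]), ([3,5,7],[5,7,3]), ([3,1,2,3],[1,2]), ([3,2,3],[1])])
    ⟨J.z3, J.u3, J.zu, J.za, J.zs, (show t * z * t = z⁻¹ by simpa only [mul_assoc, mul_inv_rev, inv_inv, pow_succ, pow_zero, one_mul, mul_one, J.ia, J.is, J.it, J.ir] using J.tz), (show u * a * u * a * u * a = 1 by simpa only [mul_assoc, mul_inv_rev, inv_inv, pow_succ, pow_zero, one_mul, mul_one, J.ia, J.is, J.it, J.ir] using J.ua), (show s * u * s = u⁻¹ by simpa only [mul_assoc, mul_inv_rev, inv_inv, pow_succ, pow_zero, one_mul, mul_one, J.ia, J.is, J.it, J.ir] using J.su), (show a * s * a * s * a * s = 1 by simpa only [mul_assoc, mul_inv_rev, inv_inv, pow_succ, pow_zero, one_mul, mul_one, J.ia, J.is, J.it, J.ir] using J.as3), (show t * u * t = u by simpa only [mul_assoc, mul_inv_rev, inv_inv, pow_succ, pow_zero, one_mul, mul_one, J.ia, J.is, J.it, J.ir] using J.tu), J.st, (show s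 * t * a * s * t * a = 1 by simpa only [mul_assoc, mul_inv_rev, inv_inv, pow_succ, pow_zero, one_mul, mul_one, J.ia, J.is, J.it, J.ir] using J.sta), (show r * z * r = u by simpa only [mul_assoc, mul_inv_rev, inv_inv, pow_succ, pow_zero, one_mul, mul_one, J.ia, J.is, J.it, J.ir] using J.rz), (show r * s * r = t by simpa only [mul_assoc, mul_inv_rev, inv_inv, pow_succ, pow_zero, one_mul, mul_one, J.ia, J.is, J.it, J.ir] using J.rs)⟩ (by decide +kernel)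
  simpa only [mul_assoc, mul_inv_rev, inv_inv, pow_succ, pow_zero, one_mul, mul_one, J.ia, J.is, J.it, J.ir] using key

theorem d1 (h1 : a * (r * a * r⁻¹) = r * a * r⁻¹ * a) :
    (a * s * r * z) ^ 7 * u = u * ((a * s * r * z) ^ 7) ∧
    (a * s * r * z) ^ 7 * z = z * ((a * s * r * z) ^ 7) ∧
    (a * s * r * z) ^ 7 * (s * t) = s * t * ((a * s * r * z) ^ 7) := by
  have key : a * s * r * z * a * s * r * z * a * s * r * z * a * s * r * z * a * s * r * z * a * s * r * z * a * s * r * z * u = u * a * s * r * z * a * s * r * z * a * s * r * z * a * s * r * z * a * s * r * z * a * s * r * z * a * s * r * z ∧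
    a * s * r * z * a * s * r * z * a * s * r * z * a * s * r * z * a * s * r * z * a * s * r * z * a * s * r * z * z = z * a * s * r * z * a * s * r * z * a * s * r * z * a * s * r * z * a * s * r * z * a * s * r * z * a * s * r * z ∧
    a * s * r * z * a * s * r * z * a * s * r * z * a * s * r * z * a * s * r * z * a * s * r * z * a * s * r * z * s * t = s * t * a * s * r * z * a * s * r * z * a * s * r * z * a * s * r * z * a * s * r * z * a * s * r * z * a * s * r * z :=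
    have I : I5 a s t r 1 := ⟨J.aa, J.ss, J.tt, J.rr, mul_one 1⟩
    eqs_of (I.rl z u 1 1 1) (I.hiv z u 1 1 1) VD3.mem [0,1,2,3,5,6,7,8] (hy := [([5,5,5],[]), ([7,7,7],[]), ([5,7],[7,5]), ([5,0],[0,5]), ([5,1],[1,5]), ([2,5,2],[6]), ([7,0,7,0,7,0],[]), ([1,7,1],[8]), ([0,1,0,1,0,1],[]), ([2,7,2],[7]), ([1,2],[2,1]), ([1,2,0,1,2,0],[]), ([3,5,3],[7]), ([3,1,3],[2]), ([0,3,0,3],[3,0,3,0])])
    (cl := [([0,1,3,5,0,1,3,5,0,1,3,5,0,1,3,5,0,1,3,5,0,1,3,5,0,1,3,5,7],[7,0,1,3,5,0,1,3,5,0,1,3,5,0,1,3,5,0,1,3,5,0,1,3,5,0,1,3,5]), ([0,1,3,5,0,1,3,5,0,1,3,5,0,1,3,5,0,1,3,5,0,1,3,5,0,1,3,5,5],[5,0,1,3,5,0,1,3,5,0,1,3,5,0,1,3,5,0,1,3,5,0,1,3,5,0,1,3,5]), ([0,1,3,5,0,1,3,5,0,1,3,5,0,1,3,5,0,1,3,5,0,1,3,5,0,1,3,5,1,2],[1,2,0,1,3,5,0,1,3,5,0,1,3,5,0,1,3,5,0,1,3,5,0,1,3,5,0,1,3,5])])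
    ⟨J.z3, J.u3, J.zu, J.za, J.zs, (show t * z * t = z⁻¹ by simpa only [mul_assoc, mul_inv_rev, inv_inv, pow_succ, pow_zero, one_mul, mul_one, J.ia, J.is, J.it, J.ir] using J.tz), (show u * a * u * a * u * a = 1 by simpa only [mul_assoc, mul_inv_rev, inv_inv, pow_succ, pow_zero, one_mul, mul_one, J.ia, J.is, J.it, J.ir] using J.ua), (show s * u * s = u⁻¹ by simpa only [mul_assoc, mul_inv_rev, inv_inv, pow_succ, pow_zero, one_mul, mul_one, J.ia, J.is, J.it, J.ir] using J.su), (show a * s * a * s * a * s = 1 by simpa only [mul_assoc, mul_inv_rev, inv_inv, pow_succ, pow_zero, one_mul, mul_one, J.ia, J.is, J.it, J.ir] using J.as3), (show t * u * t = u by simpa only [mul_assoc, mul_inv_rev, inv_inv, pow_succ, pow_zero, one_mul, mul_one, J.ia, J.is, J.it, J.ir] using J.tu), J.st, (show s * t * a * s * t * a = 1 by simpa only [mul_assoc, mul_inv_rev, inv_inv, pow_succ,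 pow_zero, one_mul, mul_one, J.ia, J.is, J.it, J.ir] using J.sta), (show r * z * r = u by simpa only [mul_assoc, mul_inv_rev, inv_inv, pow_succ, pow_zero, one_mul, mul_one, J.ia, J.is, J.it, J.ir] using J.rz), (show r * s * r = t by simpa only [mul_assoc, mul_inv_rev, inv_inv, pow_succ, pow_zero, one_mul, mul_one, J.ia, J.is, J.it, J.ir] using J.rs), (show a * r * a * r = r * a * r * a by simpa only [mul_assoc, mul_inv_rev, inv_inv, pow_succ, pow_zero, one_mul, mul_one, J.ia, J.is, J.it, J.ir] using h1)⟩ (by decide +kernel)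
  simpa only [mul_assoc, mul_inv_rev, inv_inv, pow_succ, pow_zero, one_mul, mul_one, J.ia, J.is, J.it, J.ir] using key

theorem d2 (h1 : t * a * t⁻¹ * (r * a * r⁻¹) = r * a * r⁻¹ * (t * a * t⁻¹)) :
    (a * r * a * r * a * s * r * z) ^ 5 * u = u * ((a * r * a * r * a * s * r * z) ^ 5) ∧
    (a * r * a * r * a * s * r * z) ^ 5 * z = z * ((a * r * a * r * a * s * r * z) ^ 5) ∧
    (a * r * a * r * a * s * r * z) ^ 5 * (s * t) = s * t * ((a * r * a * r * a * s * r * z) ^ 5) := by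
  have key : a * r * a * r * a * s * r * z * a * r * a * r * a * s * r * z * a * r * a * r * a * s * r * z * a * r * a * r * a * s * r * z * a * r * a * r * a * s * r * z * u = u * a * r * a * r * a * s * r * z * a * r * a * r * a * s * r * z * a * r * a * r * a * s * r * z * a * r * a * r * a * s * r * z * a * r * a * r * a * s * r * z ∧
    a * r * a * r * a * s * r * z * a * r * a * r * a * s * r * z * a * r * a * r * a * s * r * z * a * r * a * r * a * s * r * z * a * r * a * r * a * s * r * z * z = z * a * r * a * r * a * s * r * z * a * r * a * r * a * s * r * z * a * r * a * r * a * s * r * z * a * r * a * r * a * s * r * z * a * r * a * r * a * s * r * z ∧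
    a * r * a * r * a * s * r * z * a * r * a * r * a * s * r * z * a * r * a * r * a * s * r * z * a * r * a * r * a * s * r * z * a * r * a * r * a * s * r * z * s * t = s * t * a * r * a * r * a * s * r * z * a * r * a * r * a * s * r * z * a * r * a * r * a * s * r * z * a * r * a * r * a * s * r * z * a * r * a * r * a * s * r * z :=
    have I : I5 a s t r 1 := ⟨J.aa, J.ss, J.tt, J.rr, mul_one 1⟩
    eqs_of (I.rl z u 1 1 1) (I.hiv z u 1 1 1) VD4.mem [0,1,2,3,5,6,7,8] (hy := [([5,5,5],[]), ([7,7,7],[]), ([5,7],[7,5]), ([5,0],[0,5]), ([5,1],[1,5]), ([2,5,2],[6]), ([7,0,7,0,7,0],[]), ([1,7,1],[8]), ([0,1,0,1,0,1],[]), ([2,7,2],[7]), ([1,2],[2,1]), ([1,2,0,1,2,0],[]), ([3,5,3],[7]), ([3,1,3],[2]), ([2,0,2,3,0,3],[3,0,3,2,0,2])])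
    (cl := [([0,3,0,3,0,1,3,5,0,3,0,3,0,1,3,5,0,3,0,3,0,1,3,5,0,3,0,3,0,1,3,5,0,3,0,3,0,1,3,5,7],[7,0,3,0,3,0,1,3,5,0,3,0,3,0,1,3,5,0,3,0,3,0,1,3,5,0,3,0,3,0,1,3,5,0,3,0,3,0,1,3,5]), ([0,3,0,3,0,1,3,5,0,3,0,3,0,1,3,5,0,3,0,3,0,1,3,5,0,3,0,3,0,1,3,5,0,3,0,3,0,1,3,5,5],[5,0,3,0,3,0,1,3,5,0,3,0,3,0,1,3,5,0,3,0,3,0,1,3,5,0,3,0,3,0,1,3,5,0,3,0,3,0,1,3,5]), ([0,3,0,3,0,1,3,5,0,3,0,3,0,1,3,5,0,3,0,3,0,1,3,5,0,3,0,3,0,1,3,5,0,3,0,3,0,1,3,5,1,2],[1,2,0,3,0,3,0,1,3,5,0,3,0,3,0,1,3,5,0,3,0,3,0,1,3,5,0,3,0,3,0,1,3,5,0,3,0,3,0,1,3,5])])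
    ⟨J.z3, J.u3, J.zu, J.za, J.zs, (show t * z * t = z⁻¹ by simpa only [mul_assoc, mul_inv_rev, inv_inv, pow_succ, pow_zero, one_mul, mul_one, J.ia, J.is, J.it, J.ir] using J.tz), (show u * a * u * a * u * a = 1 by simpa only [mul_assoc, mul_inv_rev, inv_inv, pow_succ, pow_zero, one_mul, mul_one, J.ia, J.is, J.it, J.ir] using J.ua), (show s * u * s = u⁻¹ by simpa only [mul_assoc, mul_inv_rev, inv_inv, pow_succ, pow_zero, one_mul, mul_one, J.ia, J.is, J.it, J.ir] using J.su), (show a * s * a * s * a * s = 1 by simpa only [mul_assoc, mul_inv_rev, inv_inv, pow_succ, pow_zero, one_mul, mul_one, J.ia, J.is, J.it, J.ir] using J.as3), (show t * u * t = u by simpa only [mul_assoc, mul_inv_rev, inv_inv, pow_succ, pow_zero, one_mul, mul_one, J.ia, J.is, J.it, J.ir] using J.tu), J.st, (show s * t * a * s * t * a = 1 by simpa only [mul_assoc, mul_inv_rev, inv_inv, pow_succ,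 pow_zero, one_mul, mul_one, J.ia, J.is, J.it, J.ir] using J.sta), (show r * z * r = u by simpa only [mul_assoc, mul_inv_rev, inv_inv, pow_succ, pow_zero, one_mul, mul_one, J.ia, J.is, J.it, J.ir] using J.rz), (show r * s * r = t by simpa only [mul_assoc, mul_inv_rev, inv_inv, pow_succ, pow_zero, one_mul, mul_one, J.ia, J.is, J.it, J.ir] using J.rs), (show t * a * t * r * a * r = r * a * r * t * a * t by simpa only [mul_assoc, mul_inv_rev, inv_inv, pow_succ, pow_zero, one_mul, mul_one, J.ia, J.is, J.it, J.ir] using h1)⟩ (by decide +kernel)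
  simpa only [mul_assoc, mul_inv_rev, inv_inv, pow_succ, pow_zero, one_mul, mul_one, J.ia, J.is, J.it, J.ir] using key

theorem d3 (h1 : t * a * t⁻¹ * (r * a * r⁻¹) = r * a * r⁻¹ * (t * a * t⁻¹)) (h2 : (a * r * a * r * a * s * r * z) ^ 5 = 1) :
    z = 1 :=
    have I : I5 a s t r 1 := ⟨J.aa, J.ss, J.tt, J.rr, mul_one 1⟩
    eqs_of (I.rl z u 1 1 1) (I.hiv z u 1 1 1) VD5.mem [0,1,2,3,5,6,7,8] (hy := [([5,5,5],[]), ([7,7,7],[]), ([5,7],[7,5]), ([5,0],[0,5]), ([5,1],[1,5]), ([2,5,2],[6]), ([7,0,7,0,7,0],[]), ([1,7,1],[8]), ([0,1,0,1,0,1],[]), ([2,7,2],[7]), ([1,2],[2,1]), ([1,2,0,1,2,0],[]), ([3,5,3],[7]), ([3,1,3],[2]), ([2,0,2,3,0,3],[3,0,3,2,0,2]), ([0,3,0,3,0,1,3,5,0,3,0,3,0,1,3,5,0,3,0,3,0,1,3,5,0,3,0,3,0,1,3,5,0,3,0,3,0,1,3,5],[])])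
    (cl := [([5],[])])
    ⟨J.z3, J.u3, J.zu, J.za, J.zs, (show t * z * t = z⁻¹ by simpa only [mul_assoc, mul_inv_rev, inv_inv, pow_succ, pow_zero, one_mul, mul_one, J.ia, J.is, J.it, J.ir] using J.tz), (show u * a * u * a * u * a = 1 by simpa only [mul_assoc, mul_inv_rev, inv_inv, pow_succ, pow_zero, one_mul, mul_one, J.ia, J.is, J.it, J.ir] using J.ua), (show s * u * s = u⁻¹ by simpa only [mul_assoc, mul_inv_rev, inv_inv, pow_succ, pow_zero, one_mul, mul_one, J.ia, J.is, J.it, J.ir] using J.su), (show a * s * a * s * a * s = 1 by simpa only [mul_assoc, mul_inv_rev, inv_inv, pow_succ, pow_zero, one_mul, mul_one, J.ia, J.is, J.it, J.ir] using J.as3), (show t * u * t = u by simpa only [mul_assoc, mul_inv_rev, inv_inv, pow_succ, pow_zero, one_mul, mul_one, J.ia, J.is, J.it, J.ir] using J.tu), J.st, (show s * t * a * s * t * a = 1 by simpa only [mul_assoc, mul_inv_rev,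 inv_inv, pow_succ, pow_zero, one_mul, mul_one, J.ia, J.is, J.it, J.ir] using J.sta), (show r * z * r = u by simpa only [mul_assoc, mul_inv_rev, inv_inv, pow_succ, pow_zero, one_mul, mul_one, J.ia, J.is, J.it, J.ir] using J.rz), (show r * s * r = t by simpa only [mul_assoc, mul_inv_rev, inv_inv, pow_succ, pow_zero, one_mul, mul_one, J.ia, J.is, J.it, J.ir] using J.rs), (show t * a * t * r * a * r = r * a * r * t * a * t by simpa only [mul_assoc, mul_inv_rev, inv_inv, pow_succ, pow_zero, one_mul, mul_one, J.ia, J.is, J.it, J.ir] using h1), (show a * r * a * r * a * s * r * z * a * r * a * r * a * s * r * z * a * r * a * r * a * s * r * z * a * r * a * r * a * s * r * z * a * r * a * r * a * s * r * z = 1 by simpa only [mul_assoc, mul_inv_rev, inv_inv, pow_succ, pow_zero, one_mul, mul_one, J.ia, J.is, J.it, J.ir] using h2)⟩ (by decide +kernel)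

theorem d4 (h1 : a * (r * a * r⁻¹) = r * a * r⁻¹ * a) (h2 : (a * s * r * z) ^ 7 = 1) :
    a * (r * a * r⁻¹) * (a * (r * a * r⁻¹)) = 1 ∧
    u⁻¹ * a * u * (r * (u⁻¹ * a * u) * r⁻¹) * (u⁻¹ * a * u * (r * (u⁻¹ * a * u) * r⁻¹)) = 1 ∧
    u⁻¹ * a * u * (r * (u * a * u⁻¹) * r⁻¹) * (u⁻¹ * a * u * (r * (u * a * u⁻¹) * r⁻¹)) = 1 ∧
    s * z⁻¹ * u * a * r * a * s * u⁻¹ * a * u * (z * u) * (s * z⁻¹ * u * a * r * a * s * u⁻¹ * a * u)⁻¹ * (s * z⁻¹ * u * a * r * a * s * u⁻¹ * a * u * (z * u) * (s * z⁻¹ * u * a * r * a * s * u⁻¹ * a * u)⁻¹) * (s * z⁻¹ * u * a * r * a * s * u⁻¹ * a * u * (z * u) * (s * z⁻¹ * u * a * r * a * s * u⁻¹ * a * u)⁻¹) = 1 ∧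
    u⁻¹ * a * u * (r * (u⁻¹ * a * u) * r⁻¹) * (a * (r * a * r⁻¹)) = a * (r * a * r⁻¹) * (u⁻¹ * a * u * (r * (u⁻¹ * a * u) * r⁻¹)) ∧
    u⁻¹ * a * u * (r * (u * a * u⁻¹) * r⁻¹) * (a * (r * a * r⁻¹)) = a * (r * a * r⁻¹) * (u⁻¹ * a * u * (r * (u * a * u⁻¹) * r⁻¹)) ∧
    s * z⁻¹ * u * a * r * a * s * u⁻¹ * a * u * (z * u) * (s * z⁻¹ * u * a * r * a * s * u⁻¹ * a * u)⁻¹ * (a * (r * a * r⁻¹)) = a * (r * a * r⁻¹) * (s * z⁻¹ * u * a * r * a * s * u⁻¹ * a * u * (z * u) * (s * z⁻¹ * u * a * r * a * s * u⁻¹ * a * u)⁻¹) ∧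
    s * z⁻¹ * u * a * r * a * s * u⁻¹ * a * u * (z * u) * (s * z⁻¹ * u * a * r * a * s * u⁻¹ * a * u)⁻¹ * (s * z⁻¹ * u * a * r * a * s * u⁻¹ * a * u * (z * u) * (s * z⁻¹ * u * a * r * a * s * u⁻¹ * a * u)⁻¹ * (u⁻¹ * a * u * (r * (u⁻¹ * a * u) * r⁻¹)) * (s * z⁻¹ * u * a * r * a * s * u⁻¹ * a * u * (z * u) * (s * z⁻¹ * u * a * r * a * s * u⁻¹ * a * u)⁻¹)⁻¹) * (s * z⁻¹ * u * a * r * a * s * u⁻¹ * a * u * (z * u) * (s * z⁻¹ * u * a * r * a * s * u⁻¹ * a * u)⁻¹)⁻¹ = u⁻¹ * a * u * (r * (u⁻¹ * a * u) * r⁻¹) * (s * z⁻¹ * u * a * r * a * s * u⁻¹ * a * u * (z * u) * (s * z⁻¹ * u * a * r * a * s * u⁻¹ * a * u)⁻¹ * (u⁻¹ * a * u * (r * (u⁻¹ * a * u) * r⁻¹)) * (s * z⁻¹ * u * a * r * a * s * u⁻¹ * a * u * (z * u) * (s * z⁻¹ * u * a * r * a * s * u⁻¹ * a * u)⁻¹)⁻¹) ∧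
    s * z⁻¹ * u * a * r * a * s * u⁻¹ * a * u * (z * u) * (s * z⁻¹ * u * a * r * a * s * u⁻¹ * a * u)⁻¹ * (s * z⁻¹ * u * a * r * a * s * u⁻¹ * a * u * (z * u) * (s * z⁻¹ * u * a * r * a * s * u⁻¹ * a * u)⁻¹ * (u⁻¹ * a * u * (r * (u * a * u⁻¹) * r⁻¹)) * (s * z⁻¹ * u * a * r * a * s * u⁻¹ * a * u * (z * u) * (s * z⁻¹ * u * a * r * a * s * u⁻¹ * a * u)⁻¹)⁻¹) * (s * z⁻¹ * u * a * r * a * s * u⁻¹ * a * u * (z * u) * (s * z⁻¹ * u * a * r * a * s * u⁻¹ * a * u)⁻¹)⁻¹ = u⁻¹ * a * u * (r * (u * a * u⁻¹) * r⁻¹) * (s * z⁻¹ * u * a * r * a * s * u⁻¹ * a * u * (z * u) * (s * z⁻¹ * u * a * r * a * s * u⁻¹ * a * u)⁻¹ * (u⁻¹ * a * u * (r * (u * a * u⁻¹) * r⁻¹)) * (s * z⁻¹ * u * a * r * a * s * u⁻¹ * a * u * (z * u) * (s * z⁻¹ * u * a * r * a * s * u⁻¹ * a * u)⁻¹)⁻¹) ∧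
    u⁻¹ * a * u * (r * (u⁻¹ * a * u) * r⁻¹) * (u⁻¹ * a * u * (r * (u * a * u⁻¹) * r⁻¹)) = u⁻¹ * a * u * (r * (u * a * u⁻¹) * r⁻¹) * (u⁻¹ * a * u * (r * (u⁻¹ * a * u) * r⁻¹)) ∧
    u⁻¹ * a * u * (r * (u⁻¹ * a * u) * r⁻¹) * (s * z⁻¹ * u * a * r * a * s * u⁻¹ * a * u * (z * u) * (s * z⁻¹ * u * a * r * a * s * u⁻¹ * a * u)⁻¹ * (u⁻¹ * a * u * (r * (u * a * u⁻¹) * r⁻¹)) * (s * z⁻¹ * u * a * r * a * s * u⁻¹ * a * u * (z * u) * (s * z⁻¹ * u * a * r * a * s * u⁻¹ * a * u)⁻¹)⁻¹) * (u⁻¹ * a * u * (r * (u⁻¹ * a * u) * r⁻¹)) * (s * z⁻¹ * u * a * r * a * s * u⁻¹ * a * u * (z * u) * (s * z⁻¹ * u * a * r * a * s * u⁻¹ * a * u)⁻¹ * (u⁻¹ * a * u * (r * (u * a * u⁻¹) * r⁻¹)) * (s * z⁻¹ * u * a * r * a * s * u⁻¹ * a * u * (z * u) * (s * z⁻¹ * u * a * r * a * s * u⁻¹ * a * u)⁻¹)⁻¹) = a * (r * a * r⁻¹) ∧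
    u⁻¹ * a * u * (a * (r * a * r⁻¹)) = a * (r * a * r⁻¹) * (u⁻¹ * a * u) ∧
    u⁻¹ * a * u * (s * z⁻¹ * u * a * r * a * s * u⁻¹ * a * u * (z * u) * (s * z⁻¹ * u * a * r * a * s * u⁻¹ * a * u)⁻¹) * (u⁻¹ * a * u)⁻¹ = (s * z⁻¹ * u * a * r * a * s * u⁻¹ * a * u * (z * u) * (s * z⁻¹ * u * a * r * a * s * u⁻¹ * a * u)⁻¹)⁻¹ ∧
    u⁻¹ * a * u * (u⁻¹ * a * u * (r * (u⁻¹ * a * u) * r⁻¹)) * (u⁻¹ * a * u)⁻¹ = u⁻¹ * a * u * (r * (u⁻¹ * a * u) * r⁻¹) ∧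
    u⁻¹ * a * u * (u⁻¹ * a * u * (r * (u * a * u⁻¹) * r⁻¹)) * (u⁻¹ * a * u)⁻¹ = u⁻¹ * a * u * (r * (u * a * u⁻¹) * r⁻¹) ∧
    u⁻¹ * a * u * (u⁻¹ * a * u) = 1 ∧
    s * z⁻¹ * u * a * r * a * s * u⁻¹ * a * u * r * (s * z⁻¹ * u * a * r * a * s * u⁻¹ * a * u)⁻¹ = a * (r * a * r⁻¹) ∧
    u⁻¹ * a * u * (r * (u⁻¹ * a * u) * r⁻¹) * (u⁻¹ * a * u * (r * (u * a * u⁻¹) * r⁻¹)) * (a * (r * a * r⁻¹)) = a ∧
    u⁻¹ * z⁻¹ * (a * (r * a * r⁻¹)) * (u⁻¹ * z⁻¹)⁻¹ = u⁻¹ * a * u * (r * (u⁻¹ * a * u) * r⁻¹) ∧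
    u⁻¹ * z * (a * (r * a * r⁻¹)) * (u⁻¹ * z)⁻¹ = u⁻¹ * a * u * (r * (u * a * u⁻¹) * r⁻¹) ∧
    u * (a * (r * a * r⁻¹)) * u⁻¹ = u⁻¹ * a * u * (a * (r * a * r⁻¹)) ∧
    u⁻¹ * a * u * a = u * a * u⁻¹ ∧
    u⁻¹ * a * u * (r * (u⁻¹ * a * u) * r⁻¹) * (u⁻¹ * a * u * (r * (u * a * u⁻¹) * r⁻¹)) = r * a * r⁻¹ ∧
    u⁻¹ * a * u * (u⁻¹ * a * u * (r * (u * a * u⁻¹) * r⁻¹)) = r * (u * a * u⁻¹) * r⁻¹ ∧
    a * (a * (r * a * r⁻¹)) = r * a * r⁻¹ ∧
    a * (r * (u * a * u⁻¹) * r⁻¹) = r * (u * a * u⁻¹) * r⁻¹ * a ∧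
    u * a * u⁻¹ * (r * a * r⁻¹) = r * a * r⁻¹ * (u * a * u⁻¹) := by
  have key : a * r * a * r * a * r * a * r = 1 ∧
    u⁻¹ * a * u * r * u⁻¹ * a * u * r * u⁻¹ * a * u * r * u⁻¹ * a * u * r = 1 ∧
    u⁻¹ * a * u * r * u * a * u⁻¹ * r * u⁻¹ * a * u * r * u * a * u⁻¹ * r = 1 ∧
    s * z⁻¹ * u * a * r * a * s * u⁻¹ * a * u * z * u * u⁻¹ * a * u * s * a * r * a * u⁻¹ * z * s * s * z⁻¹ * u * a * r * a * s * u⁻¹ * a * u * z * u * u⁻¹ * a * u * s * a * r * a * u⁻¹ * z * s * s * z⁻¹ * u * a * r * a * s * u⁻¹ * a * u * z * u * u⁻¹ * a * u * s * a * r * a * u⁻¹ * z * s = 1 ∧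
    u⁻¹ * a * u * r * u⁻¹ * a * u * r * a * r * a * r = a * r * a * r * u⁻¹ * a * u * r * u⁻¹ * a * u * r ∧
    u⁻¹ * a * u * r * u * a * u⁻¹ * r * a * r * a * r = a * r * a * r * u⁻¹ * a * u * r * u * a * u⁻¹ * r ∧
    s * z⁻¹ * u * a * r * a * s * u⁻¹ * a * u * z * u * u⁻¹ * a * u * s * a * r * a * u⁻¹ * z * s * a * r * a * r = a * r * a * r * s * z⁻¹ * u * a * r * a * s * u⁻¹ * a * u * z * u * u⁻¹ * a * u * s * a * r * a * u⁻¹ * z * s ∧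
    s * z⁻¹ * u * a * r * a * s * u⁻¹ * a * u * z * u * u⁻¹ * a * u * s * a * r * a * u⁻¹ * z * s * s * z⁻¹ * u * a * r * a * s * u⁻¹ * a * u * z * u * u⁻¹ * a * u * s * a * r * a * u⁻¹ * z * s * u⁻¹ * a * u * r * u⁻¹ * a * u * r * s * z⁻¹ * u * a * r * a * s * u⁻¹ * a * u * u⁻¹ * z⁻¹ * u⁻¹ * a * u * s * a * r * a * u⁻¹ * z * s * s * z⁻¹ * u * a * r * a * s * u⁻¹ * a * u * u⁻¹ * z⁻¹ * u⁻¹ * a * u * s * a * r * a * u⁻¹ * z * s = u⁻¹ * a * u * r * u⁻¹ * a * u * r * s * z⁻¹ * u * a * r * a * s * u⁻¹ * a * u * z * u * u⁻¹ * a * u * s * a * r * a * u⁻¹ * z * s * u⁻¹ * a * u * r * u⁻¹ * a * u * r * s * z⁻¹ * u * a * r * a * s * u⁻¹ * a * u * u⁻¹ * z⁻¹ * u⁻¹ * a * u * s * a * r * a * u⁻¹ * z * s ∧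
    s * z⁻¹ * u * a * r * a * s * u⁻¹ * a * u * z * u * u⁻¹ * a * u * s * a * r * a * u⁻¹ * z * s * s * z⁻¹ * u * a * r * a * s * u⁻¹ * a * u * z * u * u⁻¹ * a * u * s * a * r * a * u⁻¹ * z * s * u⁻¹ * a * u * r * u * a * u⁻¹ * r * s * z⁻¹ * u * a * r * a * s * u⁻¹ * a * u * u⁻¹ * z⁻¹ * u⁻¹ * a * u * s * a * r * a * u⁻¹ * z * s * s * z⁻¹ * u * a * r * a * s * u⁻¹ * a * u * u⁻¹ * z⁻¹ * u⁻¹ * a * u * s * a * r * a * u⁻¹ * z * s = u⁻¹ * a * u * r * u * a * u⁻¹ * r * s * z⁻¹ * u * a * r * a * s * u⁻¹ * a * u * z * u * u⁻¹ * a * u * s * a * r * a * u⁻¹ * z * s * u⁻¹ * a * u * r * u * a * u⁻¹ * r * s * z⁻¹ * u * a * r * a * s * u⁻¹ * a * u * u⁻¹ * z⁻¹ * u⁻¹ * a * u * s * a * r * a * u⁻¹ * z * s ∧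
    u⁻¹ * a * u * r * u⁻¹ * a * u * r * u⁻¹ * a * u * r * u * a * u⁻¹ * r = u⁻¹ * a * u * r * u * a * u⁻¹ * r * u⁻¹ * a * u * r * u⁻¹ * a * u * r ∧
    u⁻¹ * a * u * r * u⁻¹ * a * u * r * s * z⁻¹ * u * a * r * a * s * u⁻¹ * a * u * z * u * u⁻¹ * a * u * s * a * r * a * u⁻¹ * z * s * u⁻¹ * a * u * r * u * a * u⁻¹ * r * s * z⁻¹ * u * a * r * a * s * u⁻¹ * a * u * u⁻¹ * z⁻¹ * u⁻¹ * a * u * s * a * r * a * u⁻¹ * z * s * u⁻¹ * a * u * r * u⁻¹ * a * u * r * s * z⁻¹ * u * a * r * a * s * u⁻¹ * a * u * z * u * u⁻¹ * a * u * s * a * r * a * u⁻¹ * z * s * u⁻¹ * a * u * r * u * a * u⁻¹ * r * s * z⁻¹ * u * a * r * a * s * u⁻¹ * a * u * u⁻¹ * z⁻¹ * u⁻¹ * a * u * s * a * r * a * u⁻¹ * z * s = a * r * a * r ∧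
    u⁻¹ * a * u * a * r * a * r = a * r * a * r * u⁻¹ * a * u ∧
    u⁻¹ * a * u * s * z⁻¹ * u * a * r * a * s * u⁻¹ * a * u * z * u * u⁻¹ * a * u * s * a * r * a * u⁻¹ * z * s * u⁻¹ * a * u = s * z⁻¹ * u * a * r * a * s * u⁻¹ * a * u * u⁻¹ * z⁻¹ * u⁻¹ * a * u * s * a * r * a * u⁻¹ * z * s ∧
    u⁻¹ * a * u * u⁻¹ * a * u * r * u⁻¹ * a * u * r * u⁻¹ * a * u = u⁻¹ * a * u * r * u⁻¹ * a * u * r ∧
    u⁻¹ * a * u * u⁻¹ * a * u * r * u * a * u⁻¹ * r * u⁻¹ * a * u = u⁻¹ * a * u * r * u * a * u⁻¹ * r ∧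
    u⁻¹ * a * u * u⁻¹ * a * u = 1 ∧
    s * z⁻¹ * u * a * r * a * s * u⁻¹ * a * u * r * u⁻¹ * a * u * s * a * r * a * u⁻¹ * z * s = a * r * a * r ∧
    u⁻¹ * a * u * r * u⁻¹ * a * u * r * u⁻¹ * a * u * r * u * a * u⁻¹ * r * a * r * a * r = a ∧
    u⁻¹ * z⁻¹ * a * r * a * r * z * u = u⁻¹ * a * u * r * u⁻¹ * a * u * r ∧
    u⁻¹ * z * a * r * a * r * z⁻¹ * u = u⁻¹ * a * u * r * u * a * u⁻¹ * r ∧
    u * a * r * a * r * u⁻¹ = u⁻¹ * a * u * a * r * a * r ∧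
    u⁻¹ * a * u * a = u * a * u⁻¹ ∧
    u⁻¹ * a * u * r * u⁻¹ * a * u * r * u⁻¹ * a * u * r * u * a * u⁻¹ * r = r * a * r ∧
    u⁻¹ * a * u * u⁻¹ * a * u * r * u * a * u⁻¹ * r = r * u * a * u⁻¹ * r ∧
    a * a * r * a * r = r * a * r ∧
    a * r * u * a * u⁻¹ * r = r * u * a * u⁻¹ * r * a ∧
    u * a * u⁻¹ * r * a * r = r * a * r * u * a * u⁻¹ :=
    have I : I5 a s t r 1 := ⟨J.aa, J.ss, J.tt, J.rr, mul_one 1⟩
    eqs_of (I.rl z u 1 1 1) (I.hiv z u 1 1 1) VD6.mem [0,1,2,3,5,6,7,8] (hy := [([5,5,5],[]), ([7,7,7],[]), ([5,7],[7,5]), ([5,0],[0,5]), ([5,1],[1,5]), ([2,5,2],[6]), ([7,0,7,0,7,0],[]), ([1,7,1],[8]), ([0,1,0,1,0,1],[]), ([2,7,2],[7]), ([1,2],[2,1]), ([1,2,0,1,2,0],[]), ([3,5,3],[7]), ([3,1,3],[2]), ([0,3,0,3],[3,0,3,0]), ([0,1,3,5,0,1,3,5,0,1,3,5,0,1,3,5,0,1,3,5,0,1,3,5,0,1,3,5],[])])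
    (cl := [([0,3,0,3,0,3,0,3],[]), ([8,0,7,3,8,0,7,3,8,0,7,3,8,0,7,3],[]), ([8,0,7,3,7,0,8,3,8,0,7,3,7,0,8,3],[]), ([1,6,7,0,3,0,1,8,0,7,5,7,8,0,7,1,0,3,0,8,5,1,1,6,7,0,3,0,1,8,0,7,5,7,8,0,7,1,0,3,0,8,5,1,1,6,7,0,3,0,1,8,0,7,5,7,8,0,7,1,0,3,0,8,5,1],[]), ([8,0,7,3,8,0,7,3,0,3,0,3],[0,3,0,3,8,0,7,3,8,0,7,3]), ([8,0,7,3,7,0,8,3,0,3,0,3],[0,3,0,3,8,0,7,3,7,0,8,3]), ([1,6,7,0,3,0,1,8,0,7,5,7,8,0,7,1,0,3,0,8,5,1,0,3,0,3],[0,3,0,3,1,6,7,0,3,0,1,8,0,7,5,7,8,0,7,1,0,3,0,8,5,1]), ([1,6,7,0,3,0,1,8,0,7,5,7,8,0,7,1,0,3,0,8,5,1,1,6,7,0,3,0,1,8,0,7,5,7,8,0,7,1,0,3,0,8,5,1,8,0,7,3,8,0,7,3,1,6,7,0,3,0,1,8,0,7,8,6,8,0,7,1,0,3,0,8,5,1,1,6,7,0,3,0,1,8,0,7,8,6,8,0,7,1,0,3,0,8,5,1],[8,0,7,3,8,0,7,3,1,6,7,0,3,0,1,8,0,7,5,7,8,0,7,1,0,3,0,8,5,1,8,0,7,3,8,0,7,3,1,6,7,0,3,0,1,8,0,7,8,6,8,0,7,1,0,3,0,8,5,1]), ([1,6,7,0,3,0,1,8,0,7,5,7,8,0,7,1,0,3,0,8,5,1,1,6,7,0,3,0,1,8,0,7,5,7,8,0,7,1,0,3,0,8,5,1,8,0,7,3,7,0,8,3,1,6,7,0,3,0,1,8,0,7,8,6,8,0,7,1,0,3,0,8,5,1,1,6,7,0,3,0,1,8,0,7,8,6,8,0,7,1,0,3,0,8,5,1],[8,0,7,3,7,0,8,3,1,6,7,0,3,0,1,8,0,7,5,7,8,0,7,1,0,3,0,8,5,1,8,0,7,3,7,0,8,3,1,6,7,0,3,0,1,8,0,7,8,6,8,0,7,1,0,3,0,8,5,1]),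 ([8,0,7,3,8,0,7,3,8,0,7,3,7,0,8,3],[8,0,7,3,7,0,8,3,8,0,7,3,8,0,7,3]), ([8,0,7,3,8,0,7,3,1,6,7,0,3,0,1,8,0,7,5,7,8,0,7,1,0,3,0,8,5,1,8,0,7,3,7,0,8,3,1,6,7,0,3,0,1,8,0,7,8,6,8,0,7,1,0,3,0,8,5,1,8,0,7,3,8,0,7,3,1,6,7,0,3,0,1,8,0,7,5,7,8,0,7,1,0,3,0,8,5,1,8,0,7,3,7,0,8,3,1,6,7,0,3,0,1,8,0,7,8,6,8,0,7,1,0,3,0,8,5,1],[0,3,0,3]), ([8,0,7,0,3,0,3],[0,3,0,3,8,0,7]), ([8,0,7,1,6,7,0,3,0,1,8,0,7,5,7,8,0,7,1,0,3,0,8,5,1,8,0,7],[1,6,7,0,3,0,1,8,0,7,8,6,8,0,7,1,0,3,0,8,5,1]), ([8,0,7,8,0,7,3,8,0,7,3,8,0,7],[8,0,7,3,8,0,7,3]), ([8,0,7,8,0,7,3,7,0,8,3,8,0,7],[8,0,7,3,7,0,8,3]), ([8,0,7,8,0,7],[]), ([1,6,7,0,3,0,1,8,0,7,3,8,0,7,1,0,3,0,8,5,1],[0,3,0,3]), ([8,0,7,3,8,0,7,3,8,0,7,3,7,0,8,3,0,3,0,3],[0]), ([8,6,0,3,0,3,5,7],[8,0,7,3,8,0,7,3]), ([8,5,0,3,0,3,6,7],[8,0,7,3,7,0,8,3]), ([7,0,3,0,3,8],[8,0,7,0,3,0,3]), ([8,0,7,0],[7,0,8]), ([8,0,7,3,8,0,7,3,8,0,7,3,7,0,8,3],[3,0,3]), ([8,0,7,8,0,7,3,7,0,8,3],[3,7,0,8,3]),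 ([0,0,3,0,3],[3,0,3]), ([0,3,7,0,8,3],[3,7,0,8,3,0]), ([7,0,8,3,0,3],[3,0,3,7,0,8])])
    ⟨J.z3, J.u3, J.zu, J.za, J.zs, (show t * z * t = z⁻¹ by simpa only [mul_assoc, mul_inv_rev, inv_inv, pow_succ, pow_zero, one_mul, mul_one, J.ia, J.is, J.it, J.ir] using J.tz), (show u * a * u * a * u * a = 1 by simpa only [mul_assoc, mul_inv_rev, inv_inv, pow_succ, pow_zero, one_mul, mul_one, J.ia, J.is, J.it, J.ir] using J.ua), (show s * u * s = u⁻¹ by simpa only [mul_assoc, mul_inv_rev, inv_inv, pow_succ, pow_zero, one_mul, mul_one, J.ia, J.is, J.it, J.ir] using J.su), (show a * s * a * s * a * s = 1 by simpa only [mul_assoc, mul_inv_rev, inv_inv, pow_succ, pow_zero, one_mul, mul_one, J.ia, J.is, J.it, J.ir] using J.as3), (show t * u * t = u by simpa only [mul_assoc, mul_inv_rev, inv_inv, pow_succ, pow_zero, one_mul, mul_one, J.ia, J.is, J.it, J.ir] using J.tu), J.st, (show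 s * t * a * s * t * a = 1 by simpa only [mul_assoc, mul_inv_rev, inv_inv, pow_succ, pow_zero, one_mul, mul_one, J.ia, J.is, J.it, J.ir] using J.sta), (show r * z * r = u by simpa only [mul_assoc, mul_inv_rev, inv_inv, pow_succ, pow_zero, one_mul, mul_one, J.ia, J.is, J.it, J.ir] using J.rz), (show r * s * r = t by simpa only [mul_assoc, mul_inv_rev, inv_inv, pow_succ, pow_zero, one_mul, mul_one, J.ia, J.is, J.it, J.ir] using J.rs), (show a * r * a * r = r * a * r * a by simpa only [mul_assoc, mul_inv_rev, inv_inv, pow_succ, pow_zero, one_mul, mul_one, J.ia, J.is, J.it, J.ir] using h1), (show a * s * r * z * a * s * r * z * a * s * r * z * a * s * r * z * a * s * r * z * a * s * r * z * a * s * r * z = 1 by simpa only [mul_assoc, mul_inv_rev, inv_inv, pow_succ, pow_zero, one_mul, mul_one, J.ia, J.is, J.it, J.ir] using h2)⟩ (by decide +kernel)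
  simpa only [mul_assoc, mul_inv_rev, inv_inv, pow_succ, pow_zero, one_mul, mul_one, J.ia, J.is, J.it, J.ir] using key

end FR

end H25.K
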