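import Cfsg.Agent.H25.U3
import Cfsg.Agent.H25.WY

/-! Frames for the 3-local characterization of `S₈`: the relations `FS` of `S₃ × S₅`, `FT` of a Sylow 2-subgroup of the
exceptional group over `A₅ × A₅`, and the facts read off from their coset tables. -/

set_option autoImplicit false
set_option maxRecDepth 8000

namespace H25.K
open Subgroup H18 H15 Cfsg H2.T3

universe u
variable {G : Type u} [Group G] {a b c d e g h i k m p q r s t u v w x y z : G}

/-- the relations of `S₃ × S₅` -/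
structure FS (a s t b c z u w : G) : Prop where
  aa : a * a = 1
  ss : s * s = 1
  tt : t * t = 1
  bb : b * b = 1
  cc : c * c = 1
  z3 : z * z * z = 1
  u3 : u * u * u = 1
  zu : z * u = u * z
  za : z * a = a * z
  zs : z * s = s * z
  zc : z * c = c * z
  tz : t * z * t⁻¹ = z⁻¹
  ta : t * a = a * t
  ts : t * s = s * t
  tc : t * c = c * t
  tu : t * u = u * t
  ua : (u * a) ^ 3 = 1
  su : s * u * s⁻¹ = u⁻¹
  as3 : (a * s) ^ 3 = 1
  cu : c * u = u * c
  sc : c * s = s * c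
  sca : (s * c * a) ^ 2 = 1
  hb : b = u * a * s * u * a * u⁻¹
  hw : w = a * u⁻¹ * a * s

/-- the subgroup generated -/
abbrev KS (a s t b c z u w : G) : Subgroup G := closure (gE a s t b c z u w 1 1 '' Set.Iio 11)

namespace FS
variable (J : FS a s t b c z u w)
include J

theorem ia : a⁻¹ = a := inv_sq J.aa
theorem is : s⁻¹ = s := inv_sq J.ss
theorem it : t⁻¹ = t := inv_sq J.tt
theorem ib : b⁻¹ = b := inv_sq J.bb
theorem ic : c⁻¹ = c := inv_sq J.cc

theorem rel : Rl (gE a s t b c z u w 1 1) XS.rels :=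
  have I : I5 a s t b c := ⟨J.aa, J.ss, J.tt, J.bb, J.cc⟩
  (I.rl z u w 1 1).eqs (I.hiv z u w 1 1)
    [([5,5,5],[]), ([7,7,7],[]), ([5,7],[7,5]), ([5,0],[0,5]), ([5,1],[1,5]), ([5,4],[4,5]), ([2,5,2],[6]), ([2,0],[0,2]), ([2,1],[1,2]), ([2,4],[4,2]), ([2,7],[7,2]), ([7,0,7,0,7,0],[]), ([1,7,1],[8]), ([0,1,0,1,0,1],[]), ([4,7],[7,4]), ([4,1],[1,4]), ([1,4,0,1,4,0],[]), ([3],[7,0,1,7,0,8]), ([9],[0,8,0,1])]
    ⟨J.z3, J.u3, J.zu, J.za, J.zs, J.zc, (show t * z * t = z⁻¹ by simpa only [mul_assoc, mul_inv_rev, inv_inv, pow_three', pow_two, J.ia, J.is, J.it, J.ib, J.ic] using J.tz), J.ta, J.ts, J.tc, J.tu, (show u * a * u * a * u * a = 1 by simpa only [mul_assoc, mul_inv_rev, inv_inv, pow_three', pow_two, J.ia, J.is, J.it, J.ib, J.ic] using J.ua), (show s * u * s = u⁻¹ by simpa only [mul_assoc, mul_inv_rev, inv_inv, pow_three', pow_two, J.ia, J.is, J.it, J.ib, J.ic] using J.su), (show a * s * a * s * a * s = 1 by simpa only [mul_assoc,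 mul_inv_rev, inv_inv, pow_three', pow_two, J.ia, J.is, J.it, J.ib, J.ic] using J.as3), J.cu, J.sc, (show s * c * a * s * c * a = 1 by simpa only [mul_assoc, mul_inv_rev, inv_inv, pow_three', pow_two, J.ia, J.is, J.it, J.ib, J.ic] using J.sca), J.hb, J.hw⟩ (by decide +kernel)

theorem rt (hc : Nat.card (KS a s t b c z u w) = 720) :
    RT (KS a s t b c z u w) (gE a s t b c z u w 1 1) 11 720 XS.wk XS.iv XS.wd :=
  XS.rt J.rel rfl hc

theorem map {G' : Type*} [Group G'] (f : G →* G') : FS (f a) (f s) (f t) (f b) (f c) (f z) (f u) (f w) := by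
  obtain ⟨e0, e1, e2, e3, e4, e5, e6, e7, e8, e9, e10, e11, e12, e13, e14, e15, e16, e17, e18, e19, e20, e21, e22, e23⟩ := J
  exact ⟨by simpa only [map_mul, map_inv, map_pow, map_one] using congrArg f e0, by simpa only [map_mul, map_inv, map_pow, map_one] using congrArg f e1, by simpa only [map_mul, map_inv, map_pow, map_one] using congrArg f e2, by simpa only [map_mul, map_inv, map_pow, map_one] using congrArg f e3, by simpa only [map_mul, map_inv, map_pow, map_one] using congrArg f e4, by simpa only [map_mul, map_inv, map_pow, map_one] using congrArg f e5, by simpa only [map_mul, map_inv, map_pow, map_one] using congrArg f e6, by simpa only [map_mul, map_inv, map_pow, map_one] using congrArg f e7, by simpa only [map_mul, map_inv, map_pow, map_one] using congrArg f e8, by simpa only [map_mul, map_inv, map_pow, map_one] using congrArg f e9, by simpa only [map_mul, map_inv, map_pow, map_one] using congrArg f e10, by simpa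 only [map_mul, map_inv, map_pow, map_one] using congrArg f e11, by simpa only [map_mul, map_inv, map_pow, map_one] using congrArg f e12, by simpa only [map_mul, map_inv, map_pow, map_one] using congrArg f e13, by simpa only [map_mul, map_inv, map_pow, map_one] using congrArg f e14, by simpa only [map_mul, map_inv, map_pow, map_one] using congrArg f e15, by simpa only [map_mul, map_inv, map_pow, map_one] using congrArg f e16, by simpa only [map_mul, map_inv, map_pow, map_one] using congrArg f e17, by simpa only [map_mul, map_inv, map_pow, map_one] using congrArg f e18, by simpa only [map_mul, map_inv, map_pow, map_one] using congrArg f e19, by simpa only [map_mul, map_inv, map_pow, map_one] using congrArg f e20, by simpa only [map_mul, map_inv, map_pow, map_one] using congrArg f e21, by simpa only [map_mul, map_inv, map_pow, map_one] using congrArg f e22, by simpa only [map_mul, map_inv, map_pow, map_one] using congrArg f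 e23⟩

theorem id1 :
    b * c * b⁻¹ = s * c ∧
    b * s = s * b ∧
    b * t = t * b ∧
    b * z = z * b ∧
    w * s * w⁻¹ = b ∧
    w * b * w⁻¹ = b * s ∧
    w * t = t * w ∧
    c * w * c⁻¹ = w⁻¹ ∧
    a = s * b * u * b ∧
    w = u * b * u⁻¹ * b * u⁻¹ ∧
    c * a * c⁻¹ = a * s * a ∧
    u⁻¹ * a * u * (u⁻¹ * a)⁻¹ = u * a ∧
    u⁻¹ * a * s * u⁻¹ * a * u * (u⁻¹ * a * s * u⁻¹ * a)⁻¹ = a * s ∧
    w * (s * t) * w⁻¹ = b * t ∧
    b * (t * c) * b⁻¹ = s * t * c ∧
    b * (s * c) * b⁻¹ = c ∧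
    s * t * z * (s * t)⁻¹ = z⁻¹ ∧
    s * t * u * (s * t)⁻¹ = u⁻¹ ∧
    s * z * s⁻¹ = z ∧
    s * (z * u) * s⁻¹ = z * u⁻¹ ∧
    t * (z * u) * t⁻¹ = z⁻¹ * u ∧
    s * t * (z * u) * (s * t)⁻¹ = z⁻¹ * u⁻¹ ∧
    t * u * t⁻¹ = u ∧
    w * (b * t) * w⁻¹ = b * s * t ∧
    c * (z * u) = z * u * c := by
  have key : b * c * b = s * c ∧
    b * s = s * b ∧
    b * t = t * b ∧
    b * z = z * b ∧
    w * s * w⁻¹ = b ∧
    w * b * w⁻¹ = b * s ∧
    w * t = t * w ∧
    c * w * c = w⁻¹ ∧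
    a = s * b * u * b ∧
    w = u * b * u⁻¹ * b * u⁻¹ ∧
    c * a * c = a * s * a ∧
    u⁻¹ * a * u * a * u = u * a ∧
    u⁻¹ * a * s * u⁻¹ * a * u * a * u * s * a * u = a * s ∧
    w * s * t * w⁻¹ = b * t ∧
    b * t * c * b = s * t * c ∧
    b * s * c * b = c ∧
    s * t * z * t * s = z⁻¹ ∧
    s * t * u * t * s = u⁻¹ ∧
    s * z * s = z ∧
    s * z * u * s = z * u⁻¹ ∧
    t * z * u * t = z⁻¹ * u ∧
    s * t * z * u * t * s = z⁻¹ * u⁻¹ ∧
    t * u * t = u ∧
    w * b * t * w⁻¹ = b * s * t ∧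
    c * z * u = z * u * c :=
    (XS.ct _ J.rel ⊥ (by simp [XS.subs])).eqs (l := [([3,4,3],[1,4]), ([3,1],[1,3]), ([3,2],[2,3]), ([3,5],[5,3]), ([9,1,10],[3]), ([9,3,10],[3,1]), ([9,2],[2,9]), ([4,9,4],[10]), ([0],[1,3,7,3]), ([9],[7,3,8,3,8]), ([4,0,4],[0,1,0]), ([8,0,7,0,7],[7,0]), ([8,0,1,8,0,7,0,7,1,0,7],[0,1]), ([9,1,2,10],[3,2]), ([3,2,4,3],[1,2,4]), ([3,1,4,3],[4]), ([1,2,5,2,1],[6]), ([1,2,7,2,1],[8]), ([1,5,1],[5]), ([1,5,7,1],[5,8]), ([2,5,7,2],[6,7]), ([1,2,5,7,2,1],[6,8]), ([2,7,2],[7]), ([9,3,2,10],[3,1,2]), ([4,5,7],[5,7,4])]) (by decide +kernel)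
  simpa only [mul_assoc, mul_inv_rev, inv_inv, pow_three', pow_two, J.ia, J.is, J.it, J.ib, J.ic] using key

theorem id2 :
    t * c * (t * c) = 1 ∧
    t * c * z * (t * c)⁻¹ = z⁻¹ ∧
    t * c * u * (t * c)⁻¹ = u ∧
    s * (t * c) = t * c * s ∧
    t * c * c = t ∧
    s * c * (s * c) = 1 ∧
    s * t * (s * t) = 1 ∧
    s * t * c * (s * t * c) = 1 ∧
    s * (t * c) = s * t * c := by
  have key : t * c * t * c = 1 ∧
    t * c * z * c * t = z⁻¹ ∧
    t * c * u * c * t = u ∧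
    s * t * c = t * c * s ∧
    t * c * c = t ∧
    s * c * s * c = 1 ∧
    s * t * s * t = 1 ∧
    s * t * c * s * t * c = 1 ∧
    s * t * c = s * t * c :=
    (XS.ct _ J.rel ⊥ (by simp [XS.subs])).eqs (l := [([2,4,2,4],[]), ([2,4,5,4,2],[6]), ([2,4,7,4,2],[7]), ([1,2,4],[2,4,1]), ([2,4,4],[2]), ([1,4,1,4],[]), ([1,2,1,2],[]), ([1,2,4,1,2,4],[]), ([1,2,4],[1,2,4])]) (by decide +kernel)
  simpa only [mul_assoc, mul_inv_rev, inv_inv, pow_three', pow_two, J.ia, J.is, J.it, J.ib, J.ic] using key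

theorem cox :
    t * t = 1 ∧
    t * z * (t * z) = 1 ∧
    s * c * (s * c) = 1 ∧
    s * c * u * (s * c * u) = 1 ∧
    s * c * a * (s * c * a) = 1 ∧
    c * c = 1 ∧
    t * (t * z) * t = t * z * t * (t * z) ∧
    s * c * (s * c * u) * (s * c) = s * c * u * (s * c) * (s * c * u) ∧
    s * c * u * (s * c * a) * (s * c * u) = s * c * a * (s * c * u) * (s * c * a) ∧
    s * c * a * c * (s * c * a) = c * (s * c * a) * c ∧
    t * (s * c) = s * c * t ∧
    t * (s * c * u) = s * c * u * t ∧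
    t * (s * c * a) = s * c * a * t ∧
    t * c = c * t ∧
    t * z * (s * c) = s * c * (t * z) ∧
    t * z * (s * c * u) = s * c * u * (t * z) ∧
    t * z * (s * c * a) = s * c * a * (t * z) ∧
    t * z * c = c * (t * z) ∧
    s * c * (s * c * a) = s * c * a * (s * c) ∧
    s * c * c = c * (s * c) ∧
    s * c * u * c = c * (s * c * u) ∧
    t * (t * z) = z ∧
    s * c * (s * c * u) = u ∧
    s * c * (s * c * a) = a ∧
    s * c * c = s ∧
    b * (t * z) * b⁻¹ = t * z ∧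
    b * t * b⁻¹ = t := by
  have key : t * t = 1 ∧
    t * z * t * z = 1 ∧
    s * c * s * c = 1 ∧
    s * c * u * s * c * u = 1 ∧
    s * c * a * s * c * a = 1 ∧
    c * c = 1 ∧
    t * t * z * t = t * z * t * t * z ∧
    s * c * s * c * u * s * c = s * c * u * s * c * s * c * u ∧
    s * c * u * s * c * a * s * c * u = s * c * a * s * c * u * s * c * a ∧
    s * c * a * c * s * c * a = c * s * c * a * c ∧
    t * s * c = s * c * t ∧
    t * s * c * u = s * c * u * t ∧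
    t * s * c * a = s * c * a * t ∧
    t * c = c * t ∧
    t * z * s * c = s * c * t * z ∧
    t * z * s * c * u = s * c * u * t * z ∧
    t * z * s * c * a = s * c * a * t * z ∧
    t * z * c = c * t * z ∧
    s * c * s * c * a = s * c * a * s * c ∧
    s * c * c = c * s * c ∧
    s * c * u * c = c * s * c * u ∧
    t * t * z = z ∧
    s * c * s * c * u = u ∧
    s * c * s * c * a = a ∧
    s * c * c = s ∧
    b * t * z * b = t * z ∧
    b * t * b = t :=
    (XS.ct _ J.rel ⊥ (by simp [XS.subs])).eqs (l := [([2,2],[]), ([2,5,2,5],[]), ([1,4,1,4],[]), ([1,4,7,1,4,7],[]), ([1,4,0,1,4,0],[]), ([4,4],[]), ([2,2,5,2],[2,5,2,2,5]), ([1,4,1,4,7,1,4],[1,4,7,1,4,1,4,7]), ([1,4,7,1,4,0,1,4,7],[1,4,0,1,4,7,1,4,0]), ([1,4,0,4,1,4,0],[4,1,4,0,4]), ([2,1,4],[1,4,2]), ([2,1,4,7],[1,4,7,2]), ([2,1,4,0],[1,4,0,2]), ([2,4],[4,2]), ([2,5,1,4],[1,4,2,5]), ([2,5,1,4,7],[1,4,7,2,5]), ([2,5,1,4,0],[1,4,0,2,5]), ([2,5,4],[4,2,5]), ([1,4,1,4,0],[1,4,0,1,4]),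 ([1,4,4],[4,1,4]), ([1,4,7,4],[4,1,4,7]), ([2,2,5],[5]), ([1,4,1,4,7],[7]), ([1,4,1,4,0],[0]), ([1,4,4],[1]), ([3,2,5,3],[2,5]), ([3,2,3],[2])]) (by decide +kernel)
  simpa only [mul_assoc, mul_inv_rev, inv_inv, pow_three', pow_two, J.ia, J.is, J.it, J.ib, J.ic] using key

theorem ne1 (hc : Nat.card (KS a s t b c z u w) = 720) :
    z ≠ 1 ∧
    u ≠ 1 ∧
    u ≠ z ∧
    u ≠ z⁻¹ ∧
    z * u ≠ 1 ∧
    z ≠ z⁻¹ ∧
    z ≠ z * u ∧
    z ≠ z * u⁻¹ ∧
    z ≠ z⁻¹ * u ∧
    z⁻¹ ≠ z * u ∧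
    z⁻¹ ≠ z * u⁻¹ ∧
    z⁻¹ ≠ z⁻¹ * u ∧
    z * u ≠ z * u⁻¹ ∧
    z * u ≠ z⁻¹ * u ∧
    z * u⁻¹ ≠ z⁻¹ * u ∧
    s * u ≠ u * s ∧
    c ≠ 1 ∧
    s ≠ 1 ∧
    t ≠ s ∧
    t * z ≠ z * t ∧
    b * c ≠ c * b ∧
    a * u * a⁻¹ * u ≠ u * (a * u * a⁻¹) ∧
    b ≠ 1 ∧
    b ≠ s ∧
    s * t ≠ 1 ∧
    t * c ≠ 1 ∧
    s * c ≠ 1 := by
  have key : z ≠ 1 ∧
    u ≠ 1 ∧
    u ≠ z ∧
    u ≠ z⁻¹ ∧
    z * u ≠ 1 ∧
    z ≠ z⁻¹ ∧
    z ≠ z * u ∧
    z ≠ z * u⁻¹ ∧
    z ≠ z⁻¹ * u ∧
    z⁻¹ ≠ z * u ∧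
    z⁻¹ ≠ z * u⁻¹ ∧
    z⁻¹ ≠ z⁻¹ * u ∧
    z * u ≠ z * u⁻¹ ∧
    z * u ≠ z⁻¹ * u ∧
    z * u⁻¹ ≠ z⁻¹ * u ∧
    s * u ≠ u * s ∧
    c ≠ 1 ∧
    s ≠ 1 ∧
    t ≠ s ∧
    t * z ≠ z * t ∧
    b * c ≠ c * b ∧
    a * u * a * u ≠ u * a * u * a ∧
    b ≠ 1 ∧
    b ≠ s ∧
    s * t ≠ 1 ∧
    t * c ≠ 1 ∧
    s * c ≠ 1 :=
    (J.rt hc).nes (l := [([5],[]), ([7],[]), ([7],[5]), ([7],[6]), ([5,7],[]), ([5],[6]), ([5],[5,7]), ([5],[5,8]), ([5],[6,7]), ([6],[5,7]), ([6],[5,8]), ([6],[6,7]), ([5,7],[5,8]), ([5,7],[6,7]), ([5,8],[6,7]), ([1,7],[7,1]), ([4],[]), ([1],[]), ([2],[1]), ([2,5],[5,2]), ([3,4],[4,3]), ([0,7,0,7],[7,0,7,0]), ([3],[]), ([3],[1]), ([1,2],[]), ([2,4],[]), ([1,4],[])]) (by decide +kernel)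
  simpa only [mul_assoc, mul_inv_rev, inv_inv, pow_three', pow_two, J.ia, J.is, J.it, J.ib, J.ic] using key

theorem l1 (hc : Nat.card (KS a s t b c z u w) = 720) {h : G} (hh : h ∈ KS a s t b c z u w) (h1 : h * u = u * h) (h2 : h * (a * s) = a * s * h) (h3 : h * h * h = 1) :
    h = 1 ∨
    h = z ∨
    h = z⁻¹ :=
  ((J.rt hc).solve (wt := fun _ => 0) (d := 10)
    (hyps := [([0,11],[11,0]), ([0,4,5],[4,5,0]), ([0,0,0],[])])
    (concl := [[([0],[])], [([0],[9])], [([0],[10])]])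
    (by decide +kernel) hh ⟨h1, (show h * a * s = a * s * h by simpa only [mul_assoc, mul_inv_rev, inv_inv, pow_three', pow_two, J.ia, J.is, J.it, J.ib, J.ic] using h2), h3⟩).elim fun _ e => e.2

theorem l2 (hc : Nat.card (KS a s t b c z u w) = 720) {h : G} (hh : h ∈ KS a s t b c z u w) (h1 : h * h * h = 1) :
    ∃ k ∈ KS a s t b c z u w, h = 1 ∨
    h = z ∨
    h = z⁻¹ ∨
    (k * z = z * k ∧ k * h * k⁻¹ = u) ∨
    (k * z = z * k ∧ k * h * k⁻¹ = u * z) ∨
    (k * z = z * k ∧ k * h * k⁻¹ = u * z⁻¹) :=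
  (J.rt hc).solve (wt := H25.tb (nat_lit 0x20000000000000000000000000000000000000000000000000000000000000ca000000002b00000000000000000020000000000000000000000000000000000000000000000000000000000000000000000000000000000000000000000000000000000000000000000000000000000000000000000000000000000000000000000000000000000000000000000000000000000000000000000000000000000000000000000000000000000000000000000000000000000000000000000000000000000000000000000000000000000000000000000000000000000000000000000000328000002b0000800000000000000000000000000000000000000000000000000000000000000000000000000000020000000000000000000000000006000000000002207c00000000000000000000180001f00000000000880000000000000000000000000000000000000000000002300023000000000000000000000000000000000000000000000000000000000000000000041e000000000000000000160000000018000000000000000000000000800000000000000000000000000000000000000000000000000000000000000000000ca00004000000ac000000000028000000000008046000000681a000000000005400000000000000000000000000000000000000000000000000000000000000000000000000000000000000000000000000041e0000000000010000004605800000000a00000000000000001500000000220d8021141f0000000000000361140200000000000000008c00000000000000000000000000107800000000000005800000360000000000000000000400028000460681500000000000000000000000020004500000000000000000000)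 10) (d := 10)
    (hyps := [([0,0,0],[])])
    (concl := [[([0],[])], [([0],[9])], [([0],[10])], [([2,9],[9,2]), ([2,0,3],[11])], [([2,9],[9,2]), ([2,0,3],[11,9])], [([2,9],[9,2]), ([2,0,3],[11,10])]])
    (by decide +kernel) hh h1

theorem l3 (hc : Nat.card (KS a s t b c z u w) = 720) {h : G} (hh : h ∈ KS a s t b c z u w) (h1 : h * z = z * h) (h2 : h * u * h⁻¹ * u = u * (h * u * h⁻¹)) :
    h * u * h⁻¹ = u ∨
    h * u * h⁻¹ = u⁻¹ :=
  ((J.rt hc).solve (wt := fun _ => 0) (d := 10)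
    (hyps := [([0,9],[9,0]), ([0,11,1,11],[11,0,11,1])])
    (concl := [[([0,11,1],[11])], [([0,11,1],[12])]])
    (by decide +kernel) hh ⟨h1, (show h * u * h⁻¹ * u = u * h * u * h⁻¹ by simpa only [mul_assoc, mul_inv_rev, inv_inv, pow_three', pow_two, J.ia, J.is, J.it, J.ib, J.ic] using h2)⟩).elim fun _ e => e.2

theorem l4 (hc : Nat.card (KS a s t b c z u w) = 720) {h : G} (hh : h ∈ KS a s t b c z u w) (h1 : h * z = z * h) (h2 : h * u = u * h) (h3 : h * h = 1) :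
    h = 1 ∨
    h = c :=
  ((J.rt hc).solve (wt := fun _ => 0) (d := 10)
    (hyps := [([0,9],[9,0]), ([0,11],[11,0]), ([0,0],[])])
    (concl := [[([0],[])], [([0],[8])]])
    (by decide +kernel) hh ⟨h1, h2, h3⟩).elim fun _ e => e.2

theorem l5 (hc : Nat.card (KS a s t b c z u w) = 720) {h : G} (hh : h ∈ KS a s t b c z u w) (h1 : h * u = u * h) (h2 : h * z * h⁻¹ = z⁻¹) (h3 : h * h = 1) :
    ∃ k ∈ KS a s t b c z u w, (k * z = z * k ∧ k * u = u * k ∧ k * s = s * k ∧ k * h * k⁻¹ = t) ∨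
    (k * z = z * k ∧ k * u = u * k ∧ k * s = s * k ∧ k * h * k⁻¹ = t * c) :=
  (J.rt hc).solve (wt := H25.tb (nat_lit 0x2400000000000000000018000000000000000000000000000000000000000000000000000000000000000000000000000000000000000000000000000000000000000000000000000000000000000060000000000000000000000000000000000000000000000000000000000000000000000000000240000000000000000000000000000000000000) 10) (d := 10)
    (hyps := [([0,11],[11,0]), ([0,9,1],[10]), ([0,0],[])])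
    (concl := [[([2,9],[9,2]), ([2,11],[11,2]), ([2,5],[5,2]), ([2,0,3],[6])], [([2,9],[9,2]), ([2,11],[11,2]), ([2,5],[5,2]), ([2,0,3],[6,8])]])
    (by decide +kernel) hh ⟨h1, h2, h3⟩

theorem l6 (hc : Nat.card (KS a s t b c z u w) = 720) {h : G} (hh : h ∈ KS a s t b c z u w) (h1 : h * z = z * h) (h2 : h * s = s * h) :
    h * h * (h * h) = 1 ∨
    h * h * (h * h) = z ∨
    h * h * (h * h) = z⁻¹ := by
  have key : h * h * h * h = 1 ∨
    h * h * h * h = z ∨
    h * h * h * h = z⁻¹ :=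
    ((J.rt hc).solve (wt := fun _ => 0) (d := 10)
    (hyps := [([0,9],[9,0]), ([0,5],[5,0])])
    (concl := [[([0,0,0,0],[])], [([0,0,0,0],[9])], [([0,0,0,0],[10])]])
    (by decide +kernel) hh ⟨h1, h2⟩).elim fun _ e => e.2
  simpa only [mul_assoc, mul_inv_rev, inv_inv, pow_three', pow_two, J.ia, J.is, J.it, J.ib, J.ic] using key

theorem l8 (hc : Nat.card (KS a s t b c z u w) = 720) {h : G} (hh : h ∈ KS a s t b c z u w) (h1 : h * c = c * h) :
    h = 1 ∨
    h = s ∨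
    h = t ∨
    h = c ∨
    h = s * t ∨
    h = s * c ∨
    h = t * c ∨
    h = s * t * c ∨
    s * (h * s * h⁻¹) = u ∨
    s * (h * s * h⁻¹) = u⁻¹ ∨
    t * (h * t * h⁻¹) = z ∨
    t * (h * t * h⁻¹) = z⁻¹ := by
  have key : h = 1 ∨
    h = s ∨
    h = t ∨
    h = c ∨
    h = s * t ∨
    h = s * c ∨
    h = t * c ∨
    h = s * t * c ∨
    s * h * s * h⁻¹ = u ∨
    s * h * s * h⁻¹ = u⁻¹ ∨
    t * h * t * h⁻¹ = z ∨
    t * h * t * h⁻¹ = z⁻¹ :=
    ((J.rt hc).solve (wt := fun _ => 0) (d := 10)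
    (hyps := [([0,8],[8,0])])
    (concl := [[([0],[])], [([0],[5])], [([0],[6])], [([0],[8])], [([0],[5,6])], [([0],[5,8])], [([0],[6,8])], [([0],[5,6,8])], [([5,0,5,1],[11])], [([5,0,5,1],[12])], [([6,0,6,1],[9])], [([6,0,6,1],[10])]])
    (by decide +kernel) hh h1).elim fun _ e => e.2
  simpa only [mul_assoc, mul_inv_rev, inv_inv, pow_three', pow_two, J.ia, J.is, J.it, J.ib, J.ic] using key

theorem l9 (hc : Nat.card (KS a s t b c z u w) = 720) {h : G} (hh : h ∈ KS a s t b c z u w) (h1 : h * z = z * h) :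
    ∃ k ∈ KS a s t b c z u w, h = 1 ∨
    h = z ∨
    h = z⁻¹ ∨
    k * (h * (c * h⁻¹ * (c)⁻¹)) * k⁻¹ = u ∨
    k * (h * (s * c * a * h⁻¹ * (s * c * a)⁻¹)) * k⁻¹ = u ∨
    k * (h * (s * c * h⁻¹ * (s * c)⁻¹)) * k⁻¹ = u ∨
    k * (h * (a * h⁻¹ * (a)⁻¹)) * k⁻¹ = u ∨
    k * (h * (u * h⁻¹ * (u)⁻¹)) * k⁻¹ = u := by
  have key : ∃ k ∈ KS a s t b c z u w, h = 1 ∨
    h = z ∨
    h = z⁻¹ ∨
    k * h * c * h⁻¹ * c * k⁻¹ = u ∨
    k * h * s * c * a * h⁻¹ * a * c * s * k⁻¹ = u ∨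
    k * h * s * c * h⁻¹ * c * s * k⁻¹ = u ∨
    k * h * a * h⁻¹ * a * k⁻¹ = u ∨
    k * h * u * h⁻¹ * u⁻¹ * k⁻¹ = u :=
    (J.rt hc).solve (wt := H25.tb (nat_lit 0x1f0a04508c280d8160000000000000000000000000000000000000000000000000000000000000000000000000000000000000000000000000000000000000000000000000000000000000000000000000000000000000000000000000000000000000000000000000000000000000000000000000000000000000000000000000000000000000000000008c280a04507c00000000000000000000000000000000000000d816000000002807c01010280041f114450782808c231141e0881a08c280a01f01000000000000000000000000000000000000000000007c040684608c36060000d80008c180001f06004118460100411816000000002307c1f07c230a01511845004450a0280a02806000000451141608c2801023010360a000078360d83605800000000000000000000000000000000000000000000000000000000000000000000000000000000000000000000000000000000000000000000000000000000000000000000000000000000000000000000000000000000000000000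000000000000000000000000000000000000000000000000000000000000360d836010451141f078040a00408c231141e08800000000001a08c280a0180002307c160000000000000011140006828118231141f06004010460a0160000000000000000002308c1807c23054450101f06028010000000000028118040001e0d8360001f11445114280a0040101f08c280042307c1501045114450a0230a0280100407c451141e0a0230d845000231141e08822068230a0280a01f0581f0581f05415088220100000000000000000000000000000000000000000000001f07c23008150101a1181607c0411823114450d8360d818000360d836000231141e078180001f06004010461180401004010160002307c0007c230081511845004450a0280a0280a0280a0180000411400058230a004010040d8360d800078360d836000000000000000000000000000000000000000000000000000000000000000000000000000000000d845000220002807c2300000054000a01607c0401004118000102307c0205400008360a0040101f114160d8230a02307c46054450d8160d845000280882807c16088220542200000000000001f08c020a0150581f01004118450d8360780401000008280a004000040d8360000000000000280a0041181600036118000a0220002801000)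 10) (d := 10)
    (hyps := [([0,9],[9,0])])
    (concl := [[([0],[])], [([0],[9])], [([0],[10])], [([2,0,8,1,8,3],[11])], [([2,0,5,8,4,1,4,8,5,3],[11])], [([2,0,5,8,1,8,5,3],[11])], [([2,0,4,1,4,3],[11])], [([2,0,11,1,12,3],[11])]])
    (by decide +kernel) hh h1
  simpa only [mul_assoc, mul_inv_rev, inv_inv, pow_three', pow_two, J.ia, J.is, J.it, J.ib, J.ic] using key

theorem l11 (hc : Nat.card (KS a s t b c z u w) = 720) {h : G} (hh : h ∈ KS a s t b c z u w) (h1 : h * s = s * h) (h2 : h * t = t * h) :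
    (h * h * (h * h) = 1 ∧ h * b * h⁻¹ = b) ∨
    (h * h * (h * h) = 1 ∧ h * b * h⁻¹ = s * b) := by
  have key : (h * h * h * h = 1 ∧ h * b * h⁻¹ = b) ∨
    (h * h * h * h = 1 ∧ h * b * h⁻¹ = s * b) :=
    ((J.rt hc).solve (wt := fun _ => 0) (d := 10)
    (hyps := [([0,5],[5,0]), ([0,6],[6,0])])
    (concl := [[([0,0,0,0],[]), ([0,7,1],[7])], [([0,0,0,0],[]), ([0,7,1],[5,7])]])
    (by decide +kernel) hh ⟨h1, h2⟩).elim fun _ e => e.2
  simpa only [mul_assoc, mul_inv_rev, inv_inv, pow_three', pow_two, J.ia, J.is, J.it, J.ib, J.ic] using key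

theorem l12 (hc : Nat.card (KS a s t b c z u w) = 720) {h : G} (hh : h ∈ KS a s t b c z u w) (h1 : h * s = s * h) (h2 : h * t = t * h) (h3 : h * h = 1) :
    ∃ k ∈ KS a s t b c z u w, h = 1 ∨
    (h * b = b * h ∧ k * h * k⁻¹ = s) ∨
    (h * b = b * h ∧ k * h * k⁻¹ = t) ∨
    (h * b = b * h ∧ k * h * k⁻¹ = s * t) ∨
    h = c ∨
    h = s * c ∨
    h = t * c ∨
    h = s * t * c :=
  (J.rt hc).solve (wt := H25.tb (nat_lit 0x800000000000000000000000000000000000000000000000000000000000000000000000000000000000000000000000000000000000000000000000000000000000000000000000000000000000000000000000000000000000000000000000880000000000080000000000000000000000000000000000000000000000000000000000000000000000000000000000000000220000000000) 10) (d := 10)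
    (hyps := [([0,5],[5,0]), ([0,6],[6,0]), ([0,0],[])])
    (concl := [[([0],[])], [([0,7],[7,0]), ([2,0,3],[5])], [([0,7],[7,0]), ([2,0,3],[6])], [([0,7],[7,0]), ([2,0,3],[5,6])], [([0],[8])], [([0],[5,8])], [([0],[6,8])], [([0],[5,6,8])]])
    (by decide +kernel) hh ⟨h1, h2, h3⟩

theorem l15 (hc : Nat.card (KS a s t b c z u w) = 720) {h : G} (hh : h ∈ KS a s t b c z u w) (h1 : h * c = c * h) :
    h * u * h⁻¹ = u ∨
    h * u * h⁻¹ = u⁻¹ :=
  ((J.rt hc).solve (wt := fun _ => 0) (d := 10)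
    (hyps := [([0,8],[8,0])])
    (concl := [[([0,11,1],[11])], [([0,11,1],[12])]])
    (by decide +kernel) hh h1).elim fun _ e => e.2

theorem l14 (hc : Nat.card (KS a s t b c z u w) = 720) {h : G} (hh : h ∈ KS a s t b c z u w) (h1 : h * s = s * h) (h2 : h * t = t * h) (h3 : h * c = c * h) (h4 : b * h * b⁻¹ = h⁻¹) :
    h = 1 ∨
    h = s ∨
    h = t ∨
    h = s * t :=
  ((J.rt hc).solve (wt := fun _ => 0) (d := 10)
    (hyps := [([0,5],[5,0]), ([0,6],[6,0]), ([0,8],[8,0]), ([7,0,7],[1])])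
    (concl := [[([0],[])], [([0],[5])], [([0],[6])], [([0],[5,6])]])
    (by decide +kernel) hh ⟨h1, h2, h3, (show b * h * b = h⁻¹ by simpa only [mul_assoc, mul_inv_rev, inv_inv, pow_three', pow_two, J.ia, J.is, J.it, J.ib, J.ic] using h4)⟩).elim fun _ e => e.2

theorem db (h1 : m * m = 1) (h2 : m * s = s * m) (h3 : m * t = t * m) (h4 : b * m * (b * m) = s * t) :
    m * b * m⁻¹ = b * s * t ∧
    (w * (c * m) * w⁻¹)⁻¹ * m * (w * (c * m) * w⁻¹) * s = s * ((w * (c * m) * w⁻¹)⁻¹ * m * (w * (c * m) * w⁻¹)) ∧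
    (w * (c * m) * w⁻¹)⁻¹ * m * (w * (c * m) * w⁻¹) * t = t * ((w * (c * m) * w⁻¹)⁻¹ * m * (w * (c * m) * w⁻¹)) ∧
    (w * (c * m) * w⁻¹)⁻¹ * m * (w * (c * m) * w⁻¹) * b * ((w * (c * m) * w⁻¹)⁻¹ * m * (w * (c * m) * w⁻¹))⁻¹ = s * b := by
  have key : m * b * m⁻¹ = b * s * t ∧
    w * m⁻¹ * c * w⁻¹ * m * w * c * m * w⁻¹ * s = s * w * m⁻¹ * c * w⁻¹ * m * w * c * m * w⁻¹ ∧
    w * m⁻¹ * c * w⁻¹ * m * w * c * m * w⁻¹ * t = t * w * m⁻¹ * c * w⁻¹ * m * w * c * m * w⁻¹ ∧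
    w * m⁻¹ * c * w⁻¹ * m * w * c * m * w⁻¹ * b * w * m⁻¹ * c * w⁻¹ * m⁻¹ * w * c * m * w⁻¹ = s * b :=
    have I : I5 1 s t b c := ⟨mul_one 1, J.ss, J.tt, J.bb, J.cc⟩
    eqs_of (I.rl 1 1 w 1 m) (I.hiv 1 1 w 1 m) XD1.mem [1,2,3,4,9,10,13,14] (hy := [([1,2],[2,1]), ([3,1],[1,3]), ([3,2],[2,3]), ([4,1],[1,4]), ([2,4],[4,2]), ([3,4,3],[1,4]), ([9,1,10],[3]), ([9,3,10],[3,1]), ([9,2],[2,9]), ([13,13],[]), ([13,1],[1,13]), ([13,2],[2,13]), ([3,13,3,13],[1,2])])
    (cl := [([13,3,14],[3,1,2]), ([9,14,4,10,13,9,4,13,10,1],[1,9,14,4,10,13,9,4,13,10]), ([9,14,4,10,13,9,4,13,10,2],[2,9,14,4,10,13,9,4,13,10]), ([9,14,4,10,13,9,4,13,10,3,9,14,4,10,14,9,4,13,10],[1,3])])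
    ⟨J.ts.symm, J.id1.2.1, J.id1.2.2.1, J.sc, J.tc, (show b * c * b = s * c by simpa only [mul_assoc, mul_inv_rev, inv_inv, pow_three', pow_two, J.ia, J.is, J.it, J.ib, J.ic] using J.id1.1), J.id1.2.2.2.2.1, J.id1.2.2.2.2.2.1, J.id1.2.2.2.2.2.2.1, h1, h2, h3, (show b * m * b * m = s * t by simpa only [mul_assoc, mul_inv_rev, inv_inv, pow_three', pow_two, J.ia, J.is, J.it, J.ib, J.ic] using h4)⟩ (by decide +kernel)
  simpa only [mul_assoc, mul_inv_rev, inv_inv, pow_three', pow_two, J.ia, J.is, J.it, J.ib, J.ic] using key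

end FS

/-- the relations of a Sylow 2-subgroup of the exceptional group -/
structure FT (s t r c b : G) : Prop where
  ss : s * s = 1
  tt : t * t = 1
  rr : r * r = 1
  cc : c * c = 1
  bb : b * b = 1
  st : s * t = t * s
  sc : c * s = s * c
  tc : t * c = c * t
  bs : b * s = s * b
  bt : b * t = t * b
  bc : b * c * b⁻¹ = s * c
  rs : r * s * r⁻¹ = t
  rc : r * c = c * r
  bp : b * (r * b * r⁻¹) = r * b * r⁻¹ * b

/-- the subgroup generated -/
abbrev KY (s t r c b : G) : Subgroup G := closure (gE s t r c b 1 1 1 1 1 '' Set.Iio 5)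

namespace FT
variable (J : FT s t r c b)
include J

theorem is : s⁻¹ = s := inv_sq J.ss
theorem it : t⁻¹ = t := inv_sq J.tt
theorem ir : r⁻¹ = r := inv_sq J.rr
theorem ic : c⁻¹ = c := inv_sq J.cc
theorem ib : b⁻¹ = b := inv_sq J.bb

theorem rel : Rl (gE s t r c b 1 1 1 1 1) XT.rels :=
  have I : I5 s t r c b := ⟨J.ss, J.tt, J.rr, J.cc, J.bb⟩
  (I.rl 1 1 1 1 1).eqs (I.hiv 1 1 1 1 1)
    [([0,1],[1,0]), ([3,0],[0,3]), ([1,3],[3,1]), ([4,0],[0,4]), ([4,1],[1,4]), ([4,3,4],[0,3]), ([2,0,2],[1]), ([2,3],[3,2]), ([4,2,4,2],[2,4,2,4])]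
    ⟨J.st, J.sc, J.tc, J.bs, J.bt, (show b * c * b = s * c by simpa only [mul_assoc, mul_inv_rev, inv_inv, pow_three', pow_two, J.is, J.it, J.ir, J.ic, J.ib] using J.bc), (show r * s * r = t by simpa only [mul_assoc, mul_inv_rev, inv_inv, pow_three', pow_two, J.is, J.it, J.ir, J.ic, J.ib] using J.rs), J.rc, (show b * r * b * r = r * b * r * b by simpa only [mul_assoc, mul_inv_rev, inv_inv, pow_three', pow_two, J.is, J.it, J.ir, J.ic, J.ib] using J.bp)⟩ (by decide +kernel)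

theorem rt (hc : Nat.card (KY s t r c b) = 64) : RT (KY s t r c b) (gE s t r c b 1 1 1 1 1) 5 64 XT.wk XT.iv XT.wd :=
  XT.rt J.rel rfl hc

theorem id1 :
    r * b * r⁻¹ * s = s * (r * b * r⁻¹) ∧
    r * b * r⁻¹ * t = t * (r * b * r⁻¹) ∧
    r * b * r⁻¹ * c * (r * b * r⁻¹)⁻¹ = t * c ∧
    r * (b * t) * r⁻¹ = r * b * r⁻¹ * s ∧
    r * c * (r * c) = 1 ∧
    r * c * s * (r * c)⁻¹ = t ∧
    r * c * c = c * (r * c) ∧
    b * (r * c * b * (r * c)⁻¹) = r * c * b * (r * c)⁻¹ * b ∧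
    r * (s * t) = s * t * r ∧
    c * b * (c * b) = s ∧
    r * t * r⁻¹ = s ∧
    r * c = c * r := by
  have key : r * b * r * s = s * r * b * r ∧
    r * b * r * t = t * r * b * r ∧
    r * b * r * c * r * b * r = t * c ∧
    r * b * t * r = r * b * r * s ∧
    r * c * r * c = 1 ∧
    r * c * s * c * r = t ∧
    r * c * c = c * r * c ∧
    b * r * c * b * c * r = r * c * b * c * r * b ∧
    r * s * t = s * t * r ∧
    c * b * c * b = s ∧
    r * t * r = s ∧
    r * c = c * r :=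
    (XT.ct _ J.rel ⊥ (by simp [XT.subs])).eqs (l := [([2,4,2,0],[0,2,4,2]), ([2,4,2,1],[1,2,4,2]), ([2,4,2,3,2,4,2],[1,3]), ([2,4,1,2],[2,4,2,0]), ([2,3,2,3],[]), ([2,3,0,3,2],[1]), ([2,3,3],[3,2,3]), ([4,2,3,4,3,2],[2,3,4,3,2,4]), ([2,0,1],[0,1,2]), ([3,4,3,4],[0]), ([2,1,2],[0]), ([2,3],[3,2])]) (by decide +kernel)
  simpa only [mul_assoc, mul_inv_rev, inv_inv, pow_three', pow_two, J.is, J.it, J.ir, J.ic, J.ib] using key

theorem ne1 (hc : Nat.card (KY s t r c b) = 64) :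
    r * b ≠ b * r ∧
    r ≠ 1 ∧
    r * c ≠ 1 ∧
    r ≠ c ∧
    r * c ≠ c :=
  (J.rt hc).nes (l := [([2,4],[4,2]), ([2],[]), ([2,3],[]), ([2],[3]), ([2,3],[3])]) (by decide +kernel)

theorem t1 (hc : Nat.card (KY s t r c b) = 64) {h : G} (hh : h ∈ KY s t r c b)  :
    (h * h * b = b * (h * h) ∧ h * h * (r * b * r⁻¹) = r * b * r⁻¹ * (h * h) ∧ h * (s * t) = s * t * h) := by
  have key : (h * h * b = b * h * h ∧ h * h * r * b * r = r * b * r * h * h ∧ h * s * t = s * t * h) :=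
    ((J.rt hc).solve (wt := fun _ => 0) (d := 6)
    (hyps := [])
    (concl := [[([0,0,8],[8,0,0]), ([0,0,6,8,6],[6,8,6,0,0]), ([0,4,5],[4,5,0])]])
    (by decide +kernel) hh trivial).elim fun _ e => e.2
  simpa only [mul_assoc, mul_inv_rev, inv_inv, pow_three', pow_two, J.is, J.it, J.ir, J.ic, J.ib] using key

theorem t2 (hc : Nat.card (KY s t r c b) = 64) {h : G} (hh : h ∈ KY s t r c b) (h1 : h * h = 1) :
    ∃ k ∈ KY s t r c b, (h * b = b * h ∧ h * (r * b * r⁻¹) = r * b * r⁻¹ * h) ∨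
    k * h * k⁻¹ = r ∨
    k * h * k⁻¹ = r * c ∨
    (k * h * k⁻¹ = c ∧ h * c⁻¹ * b = b * (h * c⁻¹) ∧ h * c⁻¹ * (r * b * r⁻¹) = r * b * r⁻¹ * (h * c⁻¹)) := by
  have key : ∃ k ∈ KY s t r c b, (h * b = b * h ∧ h * r * b * r = r * b * r * h) ∨
    k * h * k⁻¹ = r ∨
    k * h * k⁻¹ = r * c ∨
    (k * h * k⁻¹ = c ∧ h * c * b = b * h * c ∧ h * c * r * b * r = r * b * r * h * c) :=
    (J.rt hc).solve (wt := H25.tb (nat_lit 0x924014000000004000000000000000000000000000000000f04000000014000000000e140000000000) 6) (d := 6)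
    (hyps := [([0,0],[])])
    (concl := [[([0,8],[8,0]), ([0,6,8,6],[6,8,6,0])], [([2,0,3],[6])], [([2,0,3],[6,7])], [([2,0,3],[7]), ([0,7,8],[8,0,7]), ([0,7,6,8,6],[6,8,6,0,7])]])
    (by decide +kernel) hh h1
  simpa only [mul_assoc, mul_inv_rev, inv_inv, pow_three', pow_two, J.is, J.it, J.ir, J.ic, J.ib] using key

theorem t3 (hc : Nat.card (KY s t r c b) = 64) {h : G} (hh : h ∈ KY s t r c b) (h1 : h * b = b * h) (h2 : h * (r * b * r⁻¹) = r * b * r⁻¹ * h) :
    ∃ k ∈ KY s t r c b, (h * h = 1 ∧ h = 1) ∨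
    (h * h = 1 ∧ k * h * k⁻¹ = s) ∨
    (h * h = 1 ∧ k * h * k⁻¹ = s * t) ∨
    (h * h = 1 ∧ k * h * k⁻¹ = b) ∨
    (h * h = 1 ∧ k * h * k⁻¹ = b * t) ∨
    (h * h = 1 ∧ k * h * k⁻¹ = r * b * r⁻¹ * b) ∨
    (h * h = 1 ∧ k * h * k⁻¹ = r * b * r⁻¹ * (b * s)) := by
  have key : ∃ k ∈ KY s t r c b, (h * h = 1 ∧ h = 1) ∨
    (h * h = 1 ∧ k * h * k⁻¹ = s) ∨
    (h * h = 1 ∧ k * h * k⁻¹ = s * t) ∨
    (h * h = 1 ∧ k * h * k⁻¹ = b) ∨
    (h * h = 1 ∧ k * h * k⁻¹ = b * t) ∨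
    (h * h = 1 ∧ k * h * k⁻¹ = r * b * r * b) ∨
    (h * h = 1 ∧ k * h * k⁻¹ = r * b * r * b * s) :=
    (J.rt hc).solve (wt := H25.tb (nat_lit 0x34000010000000000000000000000d0c00c00000000000000000001000000000c0000000000100000000003000) 6) (d := 6)
    (hyps := [([0,8],[8,0]), ([0,6,8,6],[6,8,6,0])])
    (concl := [[([0,0],[]), ([0],[])], [([0,0],[]), ([2,0,3],[4])], [([0,0],[]), ([2,0,3],[4,5])], [([0,0],[]), ([2,0,3],[8])], [([0,0],[]), ([2,0,3],[8,5])], [([0,0],[]), ([2,0,3],[6,8,6,8])], [([0,0],[]), ([2,0,3],[6,8,6,8,4])]])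
    (by decide +kernel) hh ⟨h1, (show h * r * b * r = r * b * r * h by simpa only [mul_assoc, mul_inv_rev, inv_inv, pow_three', pow_two, J.is, J.it, J.ir, J.ic, J.ib] using h2)⟩
  simpa only [mul_assoc, mul_inv_rev, inv_inv, pow_three', pow_two, J.is, J.it, J.ir, J.ic, J.ib] using key

theorem t4 (hc : Nat.card (KY s t r c b) = 64) {h : G} (hh : h ∈ KY s t r c b)  :
    (h * b = b * h ∧ h * (r * b * r⁻¹) = r * b * r⁻¹ * h) ∨
    (h * c⁻¹ * b = b * (h * c⁻¹) ∧ h * c⁻¹ * (r * b * r⁻¹) = r * b * r⁻¹ * (h * c⁻¹)) ∨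
    (h * r⁻¹ * b = b * (h * r⁻¹) ∧ h * r⁻¹ * (r * b * r⁻¹) = r * b * r⁻¹ * (h * r⁻¹)) ∨
    (h * r⁻¹ * c⁻¹ * b = b * (h * r⁻¹ * c⁻¹) ∧ h * r⁻¹ * c⁻¹ * (r * b * r⁻¹) = r * b * r⁻¹ * (h * r⁻¹ * c⁻¹)) := by
  have key : (h * b = b * h ∧ h * r * b * r = r * b * r * h) ∨
    (h * c * b = b * h * c ∧ h * c * r * b * r = r * b * r * h * c) ∨
    (h * r * b = b * h * r ∧ h * r * r * b * r = r * b * r * h * r) ∨
    (h * r * c * b = b * h * r * c ∧ h * r * c * r * b * r = r * b * r * h * r * c) :=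
    ((J.rt hc).solve (wt := fun _ => 0) (d := 6)
    (hyps := [])
    (concl := [[([0,8],[8,0]), ([0,6,8,6],[6,8,6,0])], [([0,7,8],[8,0,7]), ([0,7,6,8,6],[6,8,6,0,7])], [([0,6,8],[8,0,6]), ([0,6,6,8,6],[6,8,6,0,6])], [([0,6,7,8],[8,0,6,7]), ([0,6,7,6,8,6],[6,8,6,0,6,7])]])
    (by decide +kernel) hh trivial).elim fun _ e => e.2
  simpa only [mul_assoc, mul_inv_rev, inv_inv, pow_three', pow_two, J.is, J.it, J.ir, J.ic, J.ib] using key

end FT

end H25.K
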